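import Cfsg.Agent.Lib.InvClasses.Twisted.Cert

/-!
The certificate for type ²E₆.
-/

set_option autoImplicit false
set_option maxRecDepth 100000
set_option Elab.async false

namespace CfsgLib.InvClasses.Twisted.E6

def node0 (k : ℕ) : Node :=
 (bif Nat.blt k 25 then (bif Nat.blt k 12 then (bif Nat.blt k 6 then (bif Nat.blt k 3 then (bif Nat.blt k 1 then (bif Nat.beq k 0 then ⟨[], [], .leaf []⟩ else ⟨[], [], .leaf []⟩)
 else (bif Nat.blt k 2 then (bif Nat.beq k 1 then ⟨[71], [], .leaf []⟩ else ⟨[], [], .leaf []⟩)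
 else (bif Nat.beq k 2 then ⟨[], [71], .split 71 [0, 1, 0, 0, 0, 0] [0, 0, 0, 0, 0, 0] 0 1⟩ else ⟨[], [], .leaf []⟩)))
 else (bif Nat.blt k 4 then (bif Nat.beq k 3 then ⟨[70], [], .weyl [1] 1⟩ else ⟨[], [], .leaf []⟩)
 else (bif Nat.blt k 5 then (bif Nat.beq k 4 then ⟨[70], [71], .kill 71 46 3⟩ else ⟨[], [], .leaf []⟩)
 else (bif Nat.beq k 5 then ⟨[], [70, 71], .split 70 [0, 0, 0, 1, 0, 0] [0, 0, 0, 0, 0, 0] 2 4⟩ else ⟨[], [], .leaf []⟩))))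
 else (bif Nat.blt k 9 then (bif Nat.blt k 7 then (bif Nat.beq k 6 then ⟨[69], [71], .weyl [3] 4⟩ else ⟨[], [], .leaf []⟩)
 else (bif Nat.blt k 8 then (bif Nat.beq k 7 then ⟨[69], [70, 71], .kill 70 39 6⟩ else ⟨[], [], .leaf []⟩)
 else (bif Nat.beq k 8 then ⟨[], [69, 70, 71], .split 69 [0, 0, 0, 1, 0, 0] [0, 0, 0, 0, 0, 0] 5 7⟩ else ⟨[], [], .leaf []⟩)))
 else (bif Nat.blt k 10 then (bif Nat.beq k 9 then ⟨[66, 68], [], .leaf []⟩ else ⟨[], [], .leaf []⟩)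
 else (bif Nat.blt k 11 then (bif Nat.beq k 10 then ⟨[66, 68], [71], .kill 71 48 9⟩ else ⟨[], [], .leaf []⟩)
 else (bif Nat.beq k 11 then ⟨[66, 68], [70, 71], .kill 70 40 10⟩ else ⟨[], [], .leaf []⟩)))))
 else (bif Nat.blt k 18 then (bif Nat.blt k 15 then (bif Nat.blt k 13 then (bif Nat.beq k 12 then ⟨[66, 68], [69, 70, 71], .kill 69 37 11⟩ else ⟨[], [], .leaf []⟩)
 else (bif Nat.blt k 14 then (bif Nat.beq k 13 then ⟨[], [66, 68, 69, 70, 71], .split 66 [1, 0, 0, 0, 0, 1] [1, 0, 1, 0, -1, -1] 8 12⟩ else ⟨[], [], .leaf []⟩)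
 else (bif Nat.beq k 14 then ⟨[69], [], .weyl [3] 3⟩ else ⟨[], [], .leaf []⟩)))
 else (bif Nat.blt k 16 then (bif Nat.beq k 15 then ⟨[65], [], .weyl [2, 4] 14⟩ else ⟨[], [], .leaf []⟩)
 else (bif Nat.blt k 17 then (bif Nat.beq k 16 then ⟨[65, 69], [], .leaf [.x [37] 2, .k 29 [65]]⟩ else ⟨[], [], .leaf []⟩)
 else (bif Nat.beq k 17 then ⟨[65], [69], .split 69 [1, 0, 0, -2, 0, 1] [0, 0, 0, 0, 0, 0] 15 16⟩ else ⟨[], [], .leaf []⟩))))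
 else (bif Nat.blt k 21 then (bif Nat.blt k 19 then (bif Nat.beq k 18 then ⟨[65], [69, 71], .kill 71 51 17⟩ else ⟨[], [], .leaf []⟩)
 else (bif Nat.blt k 20 then (bif Nat.beq k 19 then ⟨[65], [69, 70, 71], .kill 70 44 18⟩ else ⟨[], [], .leaf []⟩)
 else (bif Nat.beq k 20 then ⟨[65], [66, 68, 69, 70, 71], .kill 66 37 19⟩ else ⟨[], [], .leaf []⟩)))
 else (bif Nat.blt k 23 then (bif Nat.blt k 22 then (bif Nat.beq k 21 then ⟨[], [65, 66, 68, 69, 70, 71], .split 65 [0, 0, 0, 1, 0, 0] [0, 0, 0, 0, 0, 0] 13 20⟩ else ⟨[], [], .leaf []⟩)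
 else (bif Nat.beq k 22 then ⟨[63], [66, 68, 69, 70, 71], .weyl [3] 20⟩ else ⟨[], [], .leaf []⟩))
 else (bif Nat.blt k 24 then (bif Nat.beq k 23 then ⟨[63], [65, 66, 68, 69, 70, 71], .kill 65 39 22⟩ else ⟨[], [], .leaf []⟩)
 else (bif Nat.beq k 24 then ⟨[], [63, 65, 66, 68, 69, 70, 71], .split 63 [0, 0, 0, 1, 0, 0] [0, 0, 0, 0, 0, 0] 21 23⟩ else ⟨[], [], .leaf []⟩))))))
 else (bif Nat.blt k 37 then (bif Nat.blt k 31 then (bif Nat.blt k 28 then (bif Nat.blt k 26 then (bif Nat.beq k 25 then ⟨[60], [65, 66, 68, 69, 70, 71], .weyl [1] 23⟩ else ⟨[], [], .leaf []⟩)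
 else (bif Nat.blt k 27 then (bif Nat.beq k 26 then ⟨[60], [63, 65, 66, 68, 69, 70, 71], .kill 63 46 25⟩ else ⟨[], [], .leaf []⟩)
 else (bif Nat.beq k 27 then ⟨[], [60, 63, 65, 66, 68, 69, 70, 71], .split 60 [0, 1, 0, 0, 0, 0] [0, 0, 0, 0, 0, 0] 24 26⟩ else ⟨[], [], .leaf []⟩)))
 else (bif Nat.blt k 29 then (bif Nat.beq k 28 then ⟨[55, 67], [], .weyl [0, 5] 9⟩ else ⟨[], [], .leaf []⟩)
 else (bif Nat.blt k 30 then (bif Nat.beq k 29 then ⟨[55, 67, 65], [], .leaf []⟩ else ⟨[], [], .leaf []⟩)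
 else (bif Nat.beq k 30 then ⟨[55, 67], [65], .split 65 [0, 0, 0, 1, 0, 0] [0, 0, 0, 0, 0, 0] 28 29⟩ else ⟨[], [], .leaf []⟩))))
 else (bif Nat.blt k 34 then (bif Nat.blt k 32 then (bif Nat.beq k 31 then ⟨[55, 67, 63], [], .weyl [3] 29⟩ else ⟨[], [], .leaf []⟩)
 else (bif Nat.blt k 33 then (bif Nat.beq k 32 then ⟨[55, 67, 63], [65], .kill 65 39 31⟩ else ⟨[], [], .leaf []⟩)
 else (bif Nat.beq k 33 then ⟨[55, 67], [63, 65], .split 63 [0, 0, 0, 1, 0, 0] [0, 0, 0, 0, 0, 0] 30 32⟩ else ⟨[], [], .leaf []⟩)))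
 else (bif Nat.blt k 35 then (bif Nat.beq k 34 then ⟨[55, 67, 60], [65], .weyl [1] 32⟩ else ⟨[], [], .leaf []⟩)
 else (bif Nat.blt k 36 then (bif Nat.beq k 35 then ⟨[55, 67, 60], [63, 65], .kill 63 46 34⟩ else ⟨[], [], .leaf []⟩)
 else (bif Nat.beq k 36 then ⟨[55, 67], [60, 63, 65], .split 60 [1, 1, 1, 0, 1, 1] [0, 0, 0, 0, 0, 0] 33 35⟩ else ⟨[], [], .leaf []⟩)))))
 else (bif Nat.blt k 43 then (bif Nat.blt k 40 then (bif Nat.blt k 38 then (bif Nat.beq k 37 then ⟨[55, 67], [60, 63, 65, 71], .kill 71 49 36⟩ else ⟨[], [], .leaf []⟩)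
 else (bif Nat.blt k 39 then (bif Nat.beq k 38 then ⟨[55, 67], [60, 63, 65, 70, 71], .kill 70 41 37⟩ else ⟨[], [], .leaf []⟩)
 else (bif Nat.beq k 39 then ⟨[55, 67], [60, 63, 65, 69, 70, 71], .kill 69 38 38⟩ else ⟨[], [], .leaf []⟩)))
 else (bif Nat.blt k 41 then (bif Nat.beq k 40 then ⟨[55, 67], [60, 63, 65, 66, 68, 69, 70, 71], .kill 66 36 39⟩ else ⟨[], [], .leaf []⟩)
 else (bif Nat.blt k 42 then (bif Nat.beq k 41 then ⟨[], [55, 60, 63, 65, 66, 67, 68, 69, 70, 71], .split 55 [0, 0, 1, 0, 1, 0] [0, 0, 1, 0, -1, 0] 27 40⟩ else ⟨[], [], .leaf []⟩)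
 else (bif Nat.beq k 42 then ⟨[54, 64], [60, 63, 65, 66, 68, 69, 70, 71], .weyl [2, 4] 40⟩ else ⟨[], [], .leaf []⟩))))
 else (bif Nat.blt k 46 then (bif Nat.blt k 44 then (bif Nat.beq k 43 then ⟨[54, 64], [55, 60, 63, 65, 66, 67, 68, 69, 70, 71], .kill 55 37 42⟩ else ⟨[], [], .leaf []⟩)
 else (bif Nat.blt k 45 then (bif Nat.beq k 44 then ⟨[], [54, 55, 60, 63, 64, 65, 66, 67, 68, 69, 70, 71], .split 54 [0, 0, 0, 1, 0, 0] [0, 0, 1, 0, -1, 0] 41 43⟩ else ⟨[], [], .leaf []⟩)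
 else (bif Nat.beq k 45 then ⟨[53], [69], .weyl [0, 5] 17⟩ else ⟨[], [], .leaf []⟩)))
 else (bif Nat.blt k 48 then (bif Nat.blt k 47 then (bif Nat.beq k 46 then ⟨[53, 66, 68], [], .leaf [.w [0, 5]]⟩ else ⟨[], [], .leaf []⟩)
 else (bif Nat.beq k 47 then ⟨[53, 66, 68], [69], .kill 69 37 46⟩ else ⟨[], [], .leaf []⟩))
 else (bif Nat.blt k 49 then (bif Nat.beq k 48 then ⟨[53], [66, 68, 69], .split 66 [1, 0, 0, 2, 0, 1] [1, 0, 1, 0, -1, -1] 45 47⟩ else ⟨[], [], .leaf []⟩)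
 else (bif Nat.beq k 49 then ⟨[53, 69], [], .weyl [0, 5] 16⟩ else ⟨[], [], .leaf []⟩)))))))

def node50 (k : ℕ) : Node :=
 (bif Nat.blt k 75 then (bif Nat.blt k 62 then (bif Nat.blt k 56 then (bif Nat.blt k 53 then (bif Nat.blt k 51 then (bif Nat.beq k 50 then ⟨[53, 65], [], .weyl [2, 4] 49⟩ else ⟨[], [], .leaf []⟩)
 else (bif Nat.blt k 52 then (bif Nat.beq k 51 then ⟨[53, 65, 69], [], .leaf [.x [38] 4, .k 14 [53]]⟩ else ⟨[], [], .leaf []⟩)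
 else (bif Nat.beq k 52 then ⟨[53, 65], [69], .split 69 [1, 0, 2, 2, 2, 1] [0, 0, 0, 0, 0, 0] 50 51⟩ else ⟨[], [], .leaf []⟩)))
 else (bif Nat.blt k 54 then (bif Nat.beq k 53 then ⟨[53, 65], [66, 68, 69], .kill 66 37 52⟩ else ⟨[], [], .leaf []⟩)
 else (bif Nat.blt k 55 then (bif Nat.beq k 54 then ⟨[53], [65, 66, 68, 69], .split 65 [0, 0, 1, 0, 1, 0] [0, 0, 0, 0, 0, 0] 48 53⟩ else ⟨[], [], .leaf []⟩)
 else (bif Nat.beq k 55 then ⟨[53], [65, 66, 68, 69, 71], .kill 71 63 54⟩ else ⟨[], [], .leaf []⟩))))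
 else (bif Nat.blt k 59 then (bif Nat.blt k 57 then (bif Nat.beq k 56 then ⟨[53], [65, 66, 68, 69, 70, 71], .kill 70 60 55⟩ else ⟨[], [], .leaf []⟩)
 else (bif Nat.blt k 58 then (bif Nat.beq k 57 then ⟨[53], [55, 65, 66, 67, 68, 69, 70, 71], .kill 55 38 56⟩ else ⟨[], [], .leaf []⟩)
 else (bif Nat.beq k 58 then ⟨[53], [54, 55, 64, 65, 66, 67, 68, 69, 70, 71], .kill 54 36 57⟩ else ⟨[], [], .leaf []⟩)))
 else (bif Nat.blt k 60 then (bif Nat.beq k 59 then ⟨[53], [54, 55, 63, 64, 65, 66, 67, 68, 69, 70, 71], .sq 63 71 [] 58⟩ else ⟨[], [], .leaf []⟩)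
 else (bif Nat.blt k 61 then (bif Nat.beq k 60 then ⟨[53], [54, 55, 60, 63, 64, 65, 66, 67, 68, 69, 70, 71], .sq 60 70 [71] 59⟩ else ⟨[], [], .leaf []⟩)
 else (bif Nat.beq k 61 then ⟨[], [53, 54, 55, 60, 63, 64, 65, 66, 67, 68, 69, 70, 71], .split 53 [0, 0, 0, 1, 0, 0] [0, 0, 0, 0, 0, 0] 44 60⟩ else ⟨[], [], .leaf []⟩)))))
 else (bif Nat.blt k 68 then (bif Nat.blt k 65 then (bif Nat.blt k 63 then (bif Nat.beq k 62 then ⟨[54, 64], [], .weyl [2, 4] 28⟩ else ⟨[], [], .leaf []⟩)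
 else (bif Nat.blt k 64 then (bif Nat.beq k 63 then ⟨[54, 64, 69], [], .leaf [.w [2, 4]]⟩ else ⟨[], [], .leaf []⟩)
 else (bif Nat.beq k 64 then ⟨[54, 64], [69], .split 69 [0, 0, 1, 1, 1, 0] [0, 0, 0, 0, 0, 0] 62 63⟩ else ⟨[], [], .leaf []⟩)))
 else (bif Nat.blt k 66 then (bif Nat.beq k 65 then ⟨[52, 62], [70], .weyl [3] 64⟩ else ⟨[], [], .leaf []⟩)
 else (bif Nat.blt k 67 then (bif Nat.beq k 66 then ⟨[49, 61], [70], .weyl [2, 4] 65⟩ else ⟨[], [], .leaf []⟩)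
 else (bif Nat.beq k 67 then ⟨[52, 62, 70], [], .weyl [3] 63⟩ else ⟨[], [], .leaf []⟩))))
 else (bif Nat.blt k 71 then (bif Nat.blt k 69 then (bif Nat.beq k 68 then ⟨[49, 61, 70], [], .weyl [2, 4] 67⟩ else ⟨[], [], .leaf []⟩)
 else (bif Nat.blt k 70 then (bif Nat.beq k 69 then ⟨[49, 61, 69], [], .weyl [3] 68⟩ else ⟨[], [], .leaf []⟩)
 else (bif Nat.beq k 70 then ⟨[49, 61, 69], [70], .kill 70 39 69⟩ else ⟨[], [], .leaf []⟩)))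
 else (bif Nat.blt k 73 then (bif Nat.blt k 72 then (bif Nat.beq k 71 then ⟨[49, 61], [69, 70], .split 69 [0, 0, 0, 1, 0, 0] [0, 0, 0, 0, 0, 0] 66 70⟩ else ⟨[], [], .leaf []⟩)
 else (bif Nat.beq k 72 then ⟨[54, 64, 63], [], .weyl [2, 4] 31⟩ else ⟨[], [], .leaf []⟩))
 else (bif Nat.blt k 74 then (bif Nat.beq k 73 then ⟨[54, 64, 63], [69], .kill 69 44 72⟩ else ⟨[], [], .leaf []⟩)
 else (bif Nat.beq k 74 then ⟨[54, 64, 60], [69], .weyl [1] 73⟩ else ⟨[], [], .leaf []⟩))))))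
 else (bif Nat.blt k 87 then (bif Nat.blt k 81 then (bif Nat.blt k 78 then (bif Nat.blt k 76 then (bif Nat.beq k 75 then ⟨[52, 62, 60], [70], .weyl [3] 74⟩ else ⟨[], [], .leaf []⟩)
 else (bif Nat.blt k 77 then (bif Nat.beq k 76 then ⟨[49, 61, 60], [70], .weyl [2, 4] 75⟩ else ⟨[], [], .leaf []⟩)
 else (bif Nat.beq k 77 then ⟨[49, 61, 60], [69, 70], .kill 69 51 76⟩ else ⟨[], [], .leaf []⟩)))
 else (bif Nat.blt k 79 then (bif Nat.beq k 78 then ⟨[49, 61], [60, 69, 70], .split 60 [1, 1, 2, 0, 2, 1] [0, 0, 0, 0, 0, 0] 71 77⟩ else ⟨[], [], .leaf []⟩)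
 else (bif Nat.blt k 80 then (bif Nat.beq k 79 then ⟨[67, 55, 65], [], .leaf []⟩ else ⟨[], [], .leaf []⟩)
 else (bif Nat.beq k 80 then ⟨[67, 55, 63], [], .weyl [3] 79⟩ else ⟨[], [], .leaf []⟩))))
 else (bif Nat.blt k 84 then (bif Nat.blt k 82 then (bif Nat.beq k 81 then ⟨[64, 54, 63], [], .weyl [2, 4] 80⟩ else ⟨[], [], .leaf []⟩)
 else (bif Nat.blt k 83 then (bif Nat.beq k 82 then ⟨[62, 52, 65], [], .weyl [3] 81⟩ else ⟨[], [], .leaf []⟩)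
 else (bif Nat.beq k 83 then ⟨[52, 62, 53], [], .weyl [0, 5] 82⟩ else ⟨[], [], .leaf []⟩)))
 else (bif Nat.blt k 85 then (bif Nat.beq k 84 then ⟨[49, 61, 53], [], .weyl [2, 4] 83⟩ else ⟨[], [], .leaf []⟩)
 else (bif Nat.blt k 86 then (bif Nat.beq k 85 then ⟨[49, 61, 53, 69], [], .leaf [.w [2, 4], .x [15, 32] 6, .k 52 [71], .k 36 [65], .w [2, 4], .w [3]]⟩ else ⟨[], [], .leaf []⟩)
 else (bif Nat.beq k 86 then ⟨[49, 61, 53], [69], .split 69 [-1, 1, 0, -2, 0, -1] [0, 0, 0, 0, 0, 0] 84 85⟩ else ⟨[], [], .leaf []⟩)))))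
 else (bif Nat.blt k 93 then (bif Nat.blt k 90 then (bif Nat.blt k 88 then (bif Nat.beq k 87 then ⟨[49, 61, 53], [69, 70], .kill 70 60 86⟩ else ⟨[], [], .leaf []⟩)
 else (bif Nat.blt k 89 then (bif Nat.beq k 88 then ⟨[49, 61, 53], [60, 69, 70], .sq 60 70 [] 87⟩ else ⟨[], [], .leaf []⟩)
 else (bif Nat.beq k 89 then ⟨[49, 61], [53, 60, 69, 70], .split 53 [0, 0, 0, 1, 0, 0] [0, 0, 0, 0, 0, 0] 78 88⟩ else ⟨[], [], .leaf []⟩)))
 else (bif Nat.blt k 91 then (bif Nat.beq k 90 then ⟨[49, 61], [53, 60, 69, 70, 71], .kill 71 55 89⟩ else ⟨[], [], .leaf []⟩)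
 else (bif Nat.blt k 92 then (bif Nat.beq k 91 then ⟨[49, 61], [53, 55, 60, 67, 69, 70, 71], .sqkill 55 71 [70] 44 90⟩ else ⟨[], [], .leaf []⟩)
 else (bif Nat.beq k 92 then ⟨[52, 62], [53, 54, 60, 64, 65, 70, 71], .weyl [2, 4] 91⟩ else ⟨[], [], .leaf []⟩))))
 else (bif Nat.blt k 96 then (bif Nat.blt k 94 then (bif Nat.beq k 93 then ⟨[52, 62], [53, 54, 60, 64, 65, 69, 70, 71], .kill 69 45 92⟩ else ⟨[], [], .leaf []⟩)
 else (bif Nat.blt k 95 then (bif Nat.beq k 94 then ⟨[52, 62], [53, 54, 60, 64, 65, 66, 68, 69, 70, 71], .kill 66 41 93⟩ else ⟨[], [], .leaf []⟩)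
 else (bif Nat.beq k 95 then ⟨[52, 62], [53, 54, 60, 63, 64, 65, 66, 68, 69, 70, 71], .kill 63 36 94⟩ else ⟨[], [], .leaf []⟩)))
 else (bif Nat.blt k 98 then (bif Nat.blt k 97 then (bif Nat.beq k 96 then ⟨[52, 62], [53, 54, 55, 60, 63, 64, 65, 66, 67, 68, 69, 70, 71], .kill 55 40 95⟩ else ⟨[], [], .leaf []⟩)
 else (bif Nat.beq k 97 then ⟨[], [52, 53, 54, 55, 60, 62, 63, 64, 65, 66, 67, 68, 69, 70, 71], .split 52 [0, 0, 0, 1, 0, 0] [0, 0, 1, 0, -1, 0] 61 96⟩ else ⟨[], [], .leaf []⟩))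
 else (bif Nat.blt k 99 then (bif Nat.beq k 98 then ⟨[51], [63, 66, 68, 70], .weyl [3] 54⟩ else ⟨[], [], .leaf []⟩)
 else (bif Nat.beq k 99 then ⟨[65, 67, 55], [], .leaf []⟩ else ⟨[], [], .leaf []⟩)))))))

def node100 (k : ℕ) : Node :=
 (bif Nat.blt k 125 then (bif Nat.blt k 112 then (bif Nat.blt k 106 then (bif Nat.blt k 103 then (bif Nat.blt k 101 then (bif Nat.beq k 100 then ⟨[63, 67, 55], [], .weyl [3] 99⟩ else ⟨[], [], .leaf []⟩)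
 else (bif Nat.blt k 102 then (bif Nat.beq k 101 then ⟨[63, 64, 54], [], .weyl [2, 4] 100⟩ else ⟨[], [], .leaf []⟩)
 else (bif Nat.beq k 102 then ⟨[51, 54, 64], [], .weyl [0, 5] 101⟩ else ⟨[], [], .leaf []⟩)))
 else (bif Nat.blt k 104 then (bif Nat.beq k 103 then ⟨[51, 54, 64, 63], [], .leaf [.w [3], .x [15, 32] 6, .k 52 [71], .k 36 [65], .w [2, 4], .w [3]]⟩ else ⟨[], [], .leaf []⟩)
 else (bif Nat.blt k 105 then (bif Nat.beq k 104 then ⟨[51, 54, 64], [63], .split 63 [0, -1, 1, 1, 1, 0] [0, 0, 0, 0, 0, 0] 102 103⟩ else ⟨[], [], .leaf []⟩)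
 else (bif Nat.beq k 105 then ⟨[51, 54, 64], [63, 70], .kill 70 45 104⟩ else ⟨[], [], .leaf []⟩))))
 else (bif Nat.blt k 109 then (bif Nat.blt k 107 then (bif Nat.beq k 106 then ⟨[51, 54, 64], [63, 66, 68, 70], .kill 66 38 105⟩ else ⟨[], [], .leaf []⟩)
 else (bif Nat.blt k 108 then (bif Nat.beq k 107 then ⟨[51], [54, 63, 64, 66, 68, 70], .split 54 [0, 1, 0, 1, 0, 0] [0, 0, 1, 0, -1, 0] 98 106⟩ else ⟨[], [], .leaf []⟩)
 else (bif Nat.beq k 108 then ⟨[51], [54, 63, 64, 66, 68, 70, 71], .kill 71 65 107⟩ else ⟨[], [], .leaf []⟩)))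
 else (bif Nat.blt k 110 then (bif Nat.beq k 109 then ⟨[51], [54, 63, 64, 66, 68, 69, 70, 71], .kill 69 60 108⟩ else ⟨[], [], .leaf []⟩)
 else (bif Nat.blt k 111 then (bif Nat.beq k 110 then ⟨[51], [54, 55, 63, 64, 66, 67, 68, 69, 70, 71], .kill 55 41 109⟩ else ⟨[], [], .leaf []⟩)
 else (bif Nat.beq k 111 then ⟨[51], [54, 55, 63, 64, 65, 66, 67, 68, 69, 70, 71], .sq 65 71 [] 110⟩ else ⟨[], [], .leaf []⟩)))))
 else (bif Nat.blt k 118 then (bif Nat.blt k 115 then (bif Nat.blt k 113 then (bif Nat.beq k 112 then ⟨[51], [53, 54, 55, 63, 64, 65, 66, 67, 68, 69, 70, 71], .kill 53 39 111⟩ else ⟨[], [], .leaf []⟩)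
 else (bif Nat.blt k 114 then (bif Nat.beq k 113 then ⟨[51], [52, 53, 54, 55, 62, 63, 64, 65, 66, 67, 68, 69, 70, 71], .kill 52 36 112⟩ else ⟨[], [], .leaf []⟩)
 else (bif Nat.beq k 114 then ⟨[51], [52, 53, 54, 55, 60, 62, 63, 64, 65, 66, 67, 68, 69, 70, 71], .sq 60 69 [70, 71] 113⟩ else ⟨[], [], .leaf []⟩)))
 else (bif Nat.blt k 116 then (bif Nat.beq k 115 then ⟨[], [51, 52, 53, 54, 55, 60, 62, 63, 64, 65, 66, 67, 68, 69, 70, 71], .split 51 [0, 0, 0, 1, 0, 0] [0, 0, 0, 0, 0, 0] 97 114⟩ else ⟨[], [], .leaf []⟩)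
 else (bif Nat.blt k 117 then (bif Nat.beq k 116 then ⟨[48, 50], [69, 70], .weyl [0, 5] 71⟩ else ⟨[], [], .leaf []⟩)
 else (bif Nat.beq k 117 then ⟨[64, 54, 69], [], .leaf [.w [2, 4]]⟩ else ⟨[], [], .leaf []⟩))))
 else (bif Nat.blt k 121 then (bif Nat.blt k 119 then (bif Nat.beq k 118 then ⟨[62, 52, 70], [], .weyl [3] 117⟩ else ⟨[], [], .leaf []⟩)
 else (bif Nat.blt k 120 then (bif Nat.beq k 119 then ⟨[61, 49, 70], [], .weyl [2, 4] 118⟩ else ⟨[], [], .leaf []⟩)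
 else (bif Nat.beq k 120 then ⟨[61, 49, 69], [], .weyl [3] 119⟩ else ⟨[], [], .leaf []⟩)))
 else (bif Nat.blt k 123 then (bif Nat.blt k 122 then (bif Nat.beq k 121 then ⟨[50, 48, 69], [], .weyl [0, 5] 120⟩ else ⟨[], [], .leaf []⟩)
 else (bif Nat.beq k 122 then ⟨[48, 50, 65], [], .weyl [2, 4] 121⟩ else ⟨[], [], .leaf []⟩))
 else (bif Nat.blt k 124 then (bif Nat.beq k 123 then ⟨[48, 50, 65, 69], [], .leaf [.w [0, 5], .w [2, 4], .x [15, 32] 6, .k 52 [71], .k 36 [65], .w [2, 4], .w [3]]⟩ else ⟨[], [], .leaf []⟩)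
 else (bif Nat.beq k 124 then ⟨[48, 50, 65], [69], .split 69 [1, 1, 0, -2, 0, 1] [0, 0, 0, 0, 0, 0] 122 123⟩ else ⟨[], [], .leaf []⟩))))))
 else (bif Nat.blt k 137 then (bif Nat.blt k 131 then (bif Nat.blt k 128 then (bif Nat.blt k 126 then (bif Nat.beq k 125 then ⟨[48, 50, 65], [69, 70], .kill 70 44 124⟩ else ⟨[], [], .leaf []⟩)
 else (bif Nat.blt k 127 then (bif Nat.beq k 126 then ⟨[48, 50], [65, 69, 70], .split 65 [0, 0, 0, 1, 0, 0] [0, 0, 0, 0, 0, 0] 116 125⟩ else ⟨[], [], .leaf []⟩)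
 else (bif Nat.beq k 127 then ⟨[48, 50, 63], [69, 70], .weyl [3] 125⟩ else ⟨[], [], .leaf []⟩)))
 else (bif Nat.blt k 129 then (bif Nat.beq k 128 then ⟨[48, 50, 63], [65, 69, 70], .kill 65 39 127⟩ else ⟨[], [], .leaf []⟩)
 else (bif Nat.blt k 130 then (bif Nat.beq k 129 then ⟨[48, 50], [63, 65, 69, 70], .split 63 [0, 0, 0, 1, 0, 0] [0, 0, 0, 0, 0, 0] 126 128⟩ else ⟨[], [], .leaf []⟩)
 else (bif Nat.beq k 130 then ⟨[49, 61, 60], [53, 69, 70], .sq 53 70 [] 77⟩ else ⟨[], [], .leaf []⟩))))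
 else (bif Nat.blt k 134 then (bif Nat.blt k 132 then (bif Nat.beq k 131 then ⟨[48, 50, 44], [65, 69, 70], .weyl [0, 5] 130⟩ else ⟨[], [], .leaf []⟩)
 else (bif Nat.blt k 133 then (bif Nat.beq k 132 then ⟨[48, 50, 44], [63, 65, 69, 70], .sq 63 69 [70] 131⟩ else ⟨[], [], .leaf []⟩)
 else (bif Nat.beq k 133 then ⟨[48, 50], [44, 63, 65, 69, 70], .split 44 [1, 1, 2, 0, 2, 1] [0, 0, 0, 0, 0, 0] 129 132⟩ else ⟨[], [], .leaf []⟩)))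
 else (bif Nat.blt k 135 then (bif Nat.beq k 134 then ⟨[48, 50], [44, 63, 65, 69, 70, 71], .kill 71 66 133⟩ else ⟨[], [], .leaf []⟩)
 else (bif Nat.blt k 136 then (bif Nat.beq k 135 then ⟨[48, 50], [44, 63, 65, 66, 68, 69, 70, 71], .sqkill 66 71 [69, 70] 60 134⟩ else ⟨[], [], .leaf []⟩)
 else (bif Nat.beq k 136 then ⟨[49, 61], [51, 53, 55, 60, 67, 69, 70, 71], .weyl [0, 5] 135⟩ else ⟨[], [], .leaf []⟩)))))
 else (bif Nat.blt k 143 then (bif Nat.blt k 140 then (bif Nat.blt k 138 then (bif Nat.beq k 137 then ⟨[49, 61], [51, 53, 55, 60, 66, 67, 68, 69, 70, 71], .kill 66 45 136⟩ else ⟨[], [], .leaf []⟩)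
 else (bif Nat.blt k 139 then (bif Nat.beq k 138 then ⟨[49, 61], [51, 53, 55, 60, 65, 66, 67, 68, 69, 70, 71], .kill 65 41 137⟩ else ⟨[], [], .leaf []⟩)
 else (bif Nat.beq k 139 then ⟨[49, 61], [51, 53, 55, 60, 63, 65, 66, 67, 68, 69, 70, 71], .kill 63 38 138⟩ else ⟨[], [], .leaf []⟩)))
 else (bif Nat.blt k 141 then (bif Nat.beq k 140 then ⟨[49, 61], [51, 53, 54, 55, 60, 63, 64, 65, 66, 67, 68, 69, 70, 71], .kill 54 40 139⟩ else ⟨[], [], .leaf []⟩)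
 else (bif Nat.blt k 142 then (bif Nat.beq k 141 then ⟨[49, 61], [51, 52, 53, 54, 55, 60, 62, 63, 64, 65, 66, 67, 68, 69, 70, 71], .kill 52 37 140⟩ else ⟨[], [], .leaf []⟩)
 else (bif Nat.beq k 142 then ⟨[], [49, 51, 52, 53, 54, 55, 60, 61, 62, 63, 64, 65, 66, 67, 68, 69, 70, 71], .split 49 [0, 0, 1, 0, 1, 0] [0, 0, 1, 0, -1, 0] 115 141⟩ else ⟨[], [], .leaf []⟩))))
 else (bif Nat.blt k 146 then (bif Nat.blt k 144 then (bif Nat.beq k 143 then ⟨[48, 50], [63, 65, 69, 70, 71], .kill 71 66 129⟩ else ⟨[], [], .leaf []⟩)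
 else (bif Nat.blt k 145 then (bif Nat.beq k 144 then ⟨[48, 50], [63, 65, 66, 68, 69, 70, 71], .sqkill 66 71 [] 60 143⟩ else ⟨[], [], .leaf []⟩)
 else (bif Nat.beq k 145 then ⟨[48, 50], [55, 63, 65, 66, 67, 68, 69, 70, 71], .kill 55 45 144⟩ else ⟨[], [], .leaf []⟩)))
 else (bif Nat.blt k 148 then (bif Nat.blt k 147 then (bif Nat.beq k 146 then ⟨[49, 61], [51, 53, 55, 66, 67, 68, 69, 70, 71], .weyl [0, 5] 145⟩ else ⟨[], [], .leaf []⟩)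
 else (bif Nat.beq k 147 then ⟨[49, 61], [51, 53, 55, 65, 66, 67, 68, 69, 70, 71], .kill 65 41 146⟩ else ⟨[], [], .leaf []⟩))
 else (bif Nat.blt k 149 then (bif Nat.beq k 148 then ⟨[49, 61], [51, 53, 55, 63, 65, 66, 67, 68, 69, 70, 71], .kill 63 38 147⟩ else ⟨[], [], .leaf []⟩)
 else (bif Nat.beq k 149 then ⟨[49, 61], [51, 53, 54, 55, 63, 64, 65, 66, 67, 68, 69, 70, 71], .kill 54 40 148⟩ else ⟨[], [], .leaf []⟩)))))))

def node150 (k : ℕ) : Node :=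
 (bif Nat.blt k 175 then (bif Nat.blt k 162 then (bif Nat.blt k 156 then (bif Nat.blt k 153 then (bif Nat.blt k 151 then (bif Nat.beq k 150 then ⟨[49, 61], [51, 52, 53, 54, 55, 62, 63, 64, 65, 66, 67, 68, 69, 70, 71], .kill 52 37 149⟩ else ⟨[], [], .leaf []⟩)
 else (bif Nat.blt k 152 then (bif Nat.beq k 151 then ⟨[48, 50], [51, 52, 53, 54, 55, 62, 63, 64, 65, 66, 67, 68, 69, 70, 71], .weyl [0, 5] 150⟩ else ⟨[], [], .leaf []⟩)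
 else (bif Nat.beq k 152 then ⟨[48, 50], [49, 51, 52, 53, 54, 55, 61, 62, 63, 64, 65, 66, 67, 68, 69, 70, 71], .kill 49 36 151⟩ else ⟨[], [], .leaf []⟩)))
 else (bif Nat.blt k 154 then (bif Nat.beq k 153 then ⟨[48, 50], [49, 51, 52, 53, 54, 55, 60, 61, 62, 63, 64, 65, 66, 67, 68, 69, 70, 71], .sq 60 68 [69, 70, 71] 152⟩ else ⟨[], [], .leaf []⟩)
 else (bif Nat.blt k 155 then (bif Nat.beq k 154 then ⟨[], [48, 49, 50, 51, 52, 53, 54, 55, 60, 61, 62, 63, 64, 65, 66, 67, 68, 69, 70, 71], .split 48 [0, 1, 0, 0, 0, 0] [1, 0, 1, 0, -1, -1] 142 153⟩ else ⟨[], [], .leaf []⟩)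
 else (bif Nat.beq k 155 then ⟨[47], [63, 66, 68, 70], .weyl [2, 4] 98⟩ else ⟨[], [], .leaf []⟩))))
 else (bif Nat.blt k 159 then (bif Nat.blt k 157 then (bif Nat.beq k 156 then ⟨[53, 68, 66], [], .leaf [.w [0, 5]]⟩ else ⟨[], [], .leaf []⟩)
 else (bif Nat.blt k 158 then (bif Nat.beq k 157 then ⟨[51, 68, 66], [], .weyl [3] 156⟩ else ⟨[], [], .leaf []⟩)
 else (bif Nat.beq k 158 then ⟨[47, 66, 68], [], .weyl [2, 4] 157⟩ else ⟨[], [], .leaf []⟩)))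
 else (bif Nat.blt k 160 then (bif Nat.beq k 159 then ⟨[47, 55, 67], [], .weyl [0, 5] 158⟩ else ⟨[], [], .leaf []⟩)
 else (bif Nat.blt k 161 then (bif Nat.beq k 160 then ⟨[47, 55, 67, 63], [], .leaf [.w [2, 4], .w [3], .x [15, 32] 6, .k 52 [71], .k 36 [65], .w [2, 4], .w [3]]⟩ else ⟨[], [], .leaf []⟩)
 else (bif Nat.beq k 161 then ⟨[47, 55, 67], [63], .split 63 [0, -1, 0, 1, 0, 0] [0, 0, 0, 0, 0, 0] 159 160⟩ else ⟨[], [], .leaf []⟩)))))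
 else (bif Nat.blt k 168 then (bif Nat.blt k 165 then (bif Nat.blt k 163 then (bif Nat.beq k 162 then ⟨[47, 55, 67], [63, 70], .kill 70 41 161⟩ else ⟨[], [], .leaf []⟩)
 else (bif Nat.blt k 164 then (bif Nat.beq k 163 then ⟨[47, 55, 67], [63, 66, 68, 70], .kill 66 36 162⟩ else ⟨[], [], .leaf []⟩)
 else (bif Nat.beq k 164 then ⟨[47], [55, 63, 66, 67, 68, 70], .split 55 [0, 2, 1, 0, 1, 0] [0, 0, 1, 0, -1, 0] 155 163⟩ else ⟨[], [], .leaf []⟩)))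
 else (bif Nat.blt k 166 then (bif Nat.beq k 165 then ⟨[46], [55, 65, 66, 67, 68, 69], .weyl [3] 164⟩ else ⟨[], [], .leaf []⟩)
 else (bif Nat.blt k 167 then (bif Nat.beq k 166 then ⟨[46, 55, 67], [65, 66, 68, 69], .weyl [3] 163⟩ else ⟨[], [], .leaf []⟩)
 else (bif Nat.beq k 167 then ⟨[46, 54, 64], [65, 66, 68, 69], .weyl [2, 4] 166⟩ else ⟨[], [], .leaf []⟩))))
 else (bif Nat.blt k 171 then (bif Nat.blt k 169 then (bif Nat.beq k 168 then ⟨[46, 54, 64], [55, 65, 66, 67, 68, 69], .kill 55 37 167⟩ else ⟨[], [], .leaf []⟩)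
 else (bif Nat.blt k 170 then (bif Nat.beq k 169 then ⟨[46], [54, 55, 64, 65, 66, 67, 68, 69], .split 54 [0, 0, 1, 0, 1, 0] [0, 0, 1, 0, -1, 0] 165 168⟩ else ⟨[], [], .leaf []⟩)
 else (bif Nat.beq k 170 then ⟨[51, 63], [70], .weyl [3] 52⟩ else ⟨[], [], .leaf []⟩)))
 else (bif Nat.blt k 173 then (bif Nat.blt k 172 then (bif Nat.beq k 171 then ⟨[47, 63], [70], .weyl [2, 4] 170⟩ else ⟨[], [], .leaf []⟩)
 else (bif Nat.beq k 172 then ⟨[47, 51], [70], .weyl [0, 5] 171⟩ else ⟨[], [], .leaf []⟩))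
 else (bif Nat.blt k 174 then (bif Nat.beq k 173 then ⟨[47, 51, 66, 68], [], .leaf [.w [0, 5], .w [2, 4], .w [3], .x [15, 32] 6, .k 52 [71], .k 36 [65], .w [2, 4], .w [3]]⟩ else ⟨[], [], .leaf []⟩)
 else (bif Nat.beq k 174 then ⟨[47, 51, 66, 68], [70], .kill 70 40 173⟩ else ⟨[], [], .leaf []⟩))))))
 else (bif Nat.blt k 187 then (bif Nat.blt k 181 then (bif Nat.blt k 178 then (bif Nat.blt k 176 then (bif Nat.beq k 175 then ⟨[47, 51], [66, 68, 70], .split 66 [-1, -1, 0, 1, 0, -1] [1, 0, 1, 0, -1, -1] 172 174⟩ else ⟨[], [], .leaf []⟩)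
 else (bif Nat.blt k 177 then (bif Nat.beq k 176 then ⟨[46, 53], [66, 68, 69], .weyl [3] 175⟩ else ⟨[], [], .leaf []⟩)
 else (bif Nat.beq k 177 then ⟨[51, 63, 70], [], .weyl [3] 51⟩ else ⟨[], [], .leaf []⟩)))
 else (bif Nat.blt k 179 then (bif Nat.beq k 178 then ⟨[47, 63, 70], [], .weyl [2, 4] 177⟩ else ⟨[], [], .leaf []⟩)
 else (bif Nat.blt k 180 then (bif Nat.beq k 179 then ⟨[46, 65, 69], [], .weyl [3] 178⟩ else ⟨[], [], .leaf []⟩)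
 else (bif Nat.beq k 180 then ⟨[46, 53, 69], [], .weyl [0, 5] 179⟩ else ⟨[], [], .leaf []⟩))))
 else (bif Nat.blt k 184 then (bif Nat.blt k 182 then (bif Nat.beq k 181 then ⟨[46, 53, 65], [], .weyl [2, 4] 180⟩ else ⟨[], [], .leaf []⟩)
 else (bif Nat.blt k 183 then (bif Nat.beq k 182 then ⟨[46, 53, 65, 69], [], .leaf [.x [45] 5, .k 12 [46], .x [15, 32] 6, .k 52 [71], .k 36 [65], .w [2, 4], .w [3]]⟩ else ⟨[], [], .leaf []⟩)
 else (bif Nat.beq k 183 then ⟨[46, 53, 65], [69], .split 69 [1, 1, 2, 2, 2, 1] [0, 0, 0, 0, 0, 0] 181 182⟩ else ⟨[], [], .leaf []⟩)))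
 else (bif Nat.blt k 185 then (bif Nat.beq k 184 then ⟨[46, 53, 65], [66, 68, 69], .kill 66 37 183⟩ else ⟨[], [], .leaf []⟩)
 else (bif Nat.blt k 186 then (bif Nat.beq k 185 then ⟨[46, 53], [65, 66, 68, 69], .split 65 [0, 0, 1, 0, 1, 0] [0, 0, 0, 0, 0, 0] 176 184⟩ else ⟨[], [], .leaf []⟩)
 else (bif Nat.beq k 186 then ⟨[46, 53], [55, 65, 66, 67, 68, 69], .kill 55 38 185⟩ else ⟨[], [], .leaf []⟩)))))
 else (bif Nat.blt k 193 then (bif Nat.blt k 190 then (bif Nat.blt k 188 then (bif Nat.beq k 187 then ⟨[46, 53], [54, 55, 64, 65, 66, 67, 68, 69], .kill 54 36 186⟩ else ⟨[], [], .leaf []⟩)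
 else (bif Nat.blt k 189 then (bif Nat.beq k 188 then ⟨[46], [53, 54, 55, 64, 65, 66, 67, 68, 69], .split 53 [0, 1, 0, 2, 0, 0] [0, 0, 0, 0, 0, 0] 169 187⟩ else ⟨[], [], .leaf []⟩)
 else (bif Nat.beq k 189 then ⟨[46], [53, 54, 55, 64, 65, 66, 67, 68, 69, 71], .kill 71 70 188⟩ else ⟨[], [], .leaf []⟩)))
 else (bif Nat.blt k 191 then (bif Nat.beq k 190 then ⟨[46], [53, 54, 55, 64, 65, 66, 67, 68, 69, 70, 71], .sq 70 71 [] 189⟩ else ⟨[], [], .leaf []⟩)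
 else (bif Nat.blt k 192 then (bif Nat.beq k 191 then ⟨[46], [53, 54, 55, 63, 64, 65, 66, 67, 68, 69, 70, 71], .kill 63 60 190⟩ else ⟨[], [], .leaf []⟩)
 else (bif Nat.beq k 192 then ⟨[47], [51, 52, 55, 62, 63, 65, 66, 67, 68, 69, 70, 71], .weyl [3] 191⟩ else ⟨[], [], .leaf []⟩))))
 else (bif Nat.blt k 196 then (bif Nat.blt k 194 then (bif Nat.beq k 193 then ⟨[47], [51, 52, 54, 55, 62, 63, 64, 65, 66, 67, 68, 69, 70, 71], .kill 54 45 192⟩ else ⟨[], [], .leaf []⟩)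
 else (bif Nat.blt k 195 then (bif Nat.beq k 194 then ⟨[47], [51, 52, 53, 54, 55, 62, 63, 64, 65, 66, 67, 68, 69, 70, 71], .kill 53 44 193⟩ else ⟨[], [], .leaf []⟩)
 else (bif Nat.beq k 195 then ⟨[47], [49, 51, 52, 53, 54, 55, 61, 62, 63, 64, 65, 66, 67, 68, 69, 70, 71], .kill 49 38 194⟩ else ⟨[], [], .leaf []⟩)))
 else (bif Nat.blt k 198 then (bif Nat.blt k 197 then (bif Nat.beq k 196 then ⟨[47], [48, 49, 50, 51, 52, 53, 54, 55, 61, 62, 63, 64, 65, 66, 67, 68, 69, 70, 71], .kill 48 37 195⟩ else ⟨[], [], .leaf []⟩)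
 else (bif Nat.beq k 197 then ⟨[47], [48, 49, 50, 51, 52, 53, 54, 55, 60, 61, 62, 63, 64, 65, 66, 67, 68, 69, 70, 71], .sq 60 65 [66, 68, 69, 70, 71] 196⟩ else ⟨[], [], .leaf []⟩))
 else (bif Nat.blt k 199 then (bif Nat.beq k 198 then ⟨[], [47, 48, 49, 50, 51, 52, 53, 54, 55, 60, 61, 62, 63, 64, 65, 66, 67, 68, 69, 70, 71], .split 47 [0, 0, 0, 1, 0, 0] [0, 0, 0, 0, 0, 0] 154 197⟩ else ⟨[], [], .leaf []⟩)
 else (bif Nat.beq k 199 then ⟨[46], [48, 49, 50, 51, 52, 53, 54, 55, 61, 62, 63, 64, 65, 66, 67, 68, 69, 70, 71], .weyl [3] 196⟩ else ⟨[], [], .leaf []⟩)))))))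

def node200 (k : ℕ) : Node :=
 (bif Nat.blt k 225 then (bif Nat.blt k 212 then (bif Nat.blt k 206 then (bif Nat.blt k 203 then (bif Nat.blt k 201 then (bif Nat.beq k 200 then ⟨[46], [47, 48, 49, 50, 51, 52, 53, 54, 55, 61, 62, 63, 64, 65, 66, 67, 68, 69, 70, 71], .kill 47 39 199⟩ else ⟨[], [], .leaf []⟩)
 else (bif Nat.blt k 202 then (bif Nat.beq k 201 then ⟨[46], [47, 48, 49, 50, 51, 52, 53, 54, 55, 60, 61, 62, 63, 64, 65, 66, 67, 68, 69, 70, 71], .sq 60 63 [65, 66, 68, 69, 70, 71] 200⟩ else ⟨[], [], .leaf []⟩)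
 else (bif Nat.beq k 202 then ⟨[], [46, 47, 48, 49, 50, 51, 52, 53, 54, 55, 60, 61, 62, 63, 64, 65, 66, 67, 68, 69, 70, 71], .split 46 [0, 0, 0, 1, 0, 0] [0, 0, 0, 0, 0, 0] 198 201⟩ else ⟨[], [], .leaf []⟩)))
 else (bif Nat.blt k 204 then (bif Nat.beq k 203 then ⟨[52, 62, 65], [], .weyl [3] 72⟩ else ⟨[], [], .leaf []⟩)
 else (bif Nat.blt k 205 then (bif Nat.beq k 204 then ⟨[52, 62, 65], [70], .kill 70 44 203⟩ else ⟨[], [], .leaf []⟩)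
 else (bif Nat.beq k 205 then ⟨[52, 62], [65, 70], .split 65 [0, 1, 0, 1, 0, 0] [0, 0, 0, 0, 0, 0] 65 204⟩ else ⟨[], [], .leaf []⟩))))
 else (bif Nat.blt k 209 then (bif Nat.blt k 207 then (bif Nat.beq k 206 then ⟨[45, 59], [65, 71], .weyl [1] 205⟩ else ⟨[], [], .leaf []⟩)
 else (bif Nat.blt k 208 then (bif Nat.beq k 207 then ⟨[45, 59, 65], [71], .weyl [1] 204⟩ else ⟨[], [], .leaf []⟩)
 else (bif Nat.beq k 208 then ⟨[45, 59, 63], [71], .weyl [3] 207⟩ else ⟨[], [], .leaf []⟩)))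
 else (bif Nat.blt k 210 then (bif Nat.beq k 209 then ⟨[45, 59, 63], [65, 71], .kill 65 39 208⟩ else ⟨[], [], .leaf []⟩)
 else (bif Nat.blt k 211 then (bif Nat.beq k 210 then ⟨[45, 59], [63, 65, 71], .split 63 [0, 0, 0, 1, 0, 0] [0, 0, 0, 0, 0, 0] 206 209⟩ else ⟨[], [], .leaf []⟩)
 else (bif Nat.beq k 211 then ⟨[52, 62, 53, 65], [], .leaf [.x [15, 32] 6, .k 52 [71], .k 36 [65], .w [2, 4], .w [3]]⟩ else ⟨[], [], .leaf []⟩)))))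
 else (bif Nat.blt k 218 then (bif Nat.blt k 215 then (bif Nat.blt k 213 then (bif Nat.beq k 212 then ⟨[52, 62, 53], [65], .split 65 [0, -1, 1, 0, 1, 0] [0, 0, 0, 0, 0, 0] 83 211⟩ else ⟨[], [], .leaf []⟩)
 else (bif Nat.blt k 214 then (bif Nat.beq k 213 then ⟨[52, 62, 53], [65, 70], .kill 70 60 212⟩ else ⟨[], [], .leaf []⟩)
 else (bif Nat.beq k 214 then ⟨[45, 59, 53], [65, 71], .weyl [1] 213⟩ else ⟨[], [], .leaf []⟩)))
 else (bif Nat.blt k 216 then (bif Nat.beq k 215 then ⟨[45, 59, 53], [63, 65, 71], .sq 63 71 [] 214⟩ else ⟨[], [], .leaf []⟩)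
 else (bif Nat.blt k 217 then (bif Nat.beq k 216 then ⟨[45, 59], [53, 63, 65, 71], .split 53 [0, 0, 0, 1, 0, 0] [0, 0, 0, 0, 0, 0] 210 215⟩ else ⟨[], [], .leaf []⟩)
 else (bif Nat.beq k 217 then ⟨[45, 59, 51], [63, 65, 71], .weyl [3] 215⟩ else ⟨[], [], .leaf []⟩))))
 else (bif Nat.blt k 221 then (bif Nat.blt k 219 then (bif Nat.beq k 218 then ⟨[45, 59, 51], [53, 63, 65, 71], .kill 53 39 217⟩ else ⟨[], [], .leaf []⟩)
 else (bif Nat.blt k 220 then (bif Nat.beq k 219 then ⟨[45, 59], [51, 53, 63, 65, 71], .split 51 [0, 0, 0, 1, 0, 0] [0, 0, 0, 0, 0, 0] 216 218⟩ else ⟨[], [], .leaf []⟩)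
 else (bif Nat.beq k 220 then ⟨[45, 59], [51, 53, 63, 65, 70, 71], .kill 70 54 219⟩ else ⟨[], [], .leaf []⟩)))
 else (bif Nat.blt k 223 then (bif Nat.blt k 222 then (bif Nat.beq k 221 then ⟨[45, 59], [51, 53, 54, 63, 64, 65, 70, 71], .sqkill 54 70 [71] 47 220⟩ else ⟨[], [], .leaf []⟩)
 else (bif Nat.beq k 222 then ⟨[45, 59], [51, 53, 54, 63, 64, 65, 69, 70, 71], .kill 69 52 221⟩ else ⟨[], [], .leaf []⟩))
 else (bif Nat.blt k 224 then (bif Nat.beq k 223 then ⟨[45, 59], [51, 52, 53, 54, 62, 63, 64, 65, 69, 70, 71], .sqkill 52 69 [70, 71] 46 222⟩ else ⟨[], [], .leaf []⟩)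
 else (bif Nat.beq k 224 then ⟨[45, 59], [51, 52, 53, 54, 62, 63, 64, 65, 66, 68, 69, 70, 71], .kill 66 49 223⟩ else ⟨[], [], .leaf []⟩))))))
 else (bif Nat.blt k 237 then (bif Nat.blt k 231 then (bif Nat.blt k 228 then (bif Nat.blt k 226 then (bif Nat.beq k 225 then ⟨[45, 59], [51, 52, 53, 54, 60, 62, 63, 64, 65, 66, 68, 69, 70, 71], .kill 60 36 224⟩ else ⟨[], [], .leaf []⟩)
 else (bif Nat.blt k 227 then (bif Nat.beq k 226 then ⟨[45, 59], [51, 52, 53, 54, 55, 60, 62, 63, 64, 65, 66, 67, 68, 69, 70, 71], .kill 55 48 225⟩ else ⟨[], [], .leaf []⟩)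
 else (bif Nat.beq k 227 then ⟨[45, 59], [49, 51, 52, 53, 54, 55, 60, 61, 62, 63, 64, 65, 66, 67, 68, 69, 70, 71], .sq 49 68 [69, 70, 71] 226⟩ else ⟨[], [], .leaf []⟩)))
 else (bif Nat.blt k 229 then (bif Nat.beq k 228 then ⟨[45, 59], [48, 49, 50, 51, 52, 53, 54, 55, 60, 61, 62, 63, 64, 65, 66, 67, 68, 69, 70, 71], .sq 48 67 [66, 68, 69, 70, 71] 227⟩ else ⟨[], [], .leaf []⟩)
 else (bif Nat.blt k 230 then (bif Nat.beq k 229 then ⟨[45, 59], [47, 48, 49, 50, 51, 52, 53, 54, 55, 60, 61, 62, 63, 64, 65, 66, 67, 68, 69, 70, 71], .sq 47 64 [55, 65, 66, 67, 68, 69, 70, 71] 228⟩ else ⟨[], [], .leaf []⟩)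
 else (bif Nat.beq k 230 then ⟨[45, 59], [46, 47, 48, 49, 50, 51, 52, 53, 54, 55, 60, 61, 62, 63, 64, 65, 66, 67, 68, 69, 70, 71], .sq 46 62 [54, 55, 63, 64, 65, 66, 67, 68, 69, 70, 71] 229⟩ else ⟨[], [], .leaf []⟩))))
 else (bif Nat.blt k 234 then (bif Nat.blt k 232 then (bif Nat.beq k 231 then ⟨[], [45, 46, 47, 48, 49, 50, 51, 52, 53, 54, 55, 59, 60, 61, 62, 63, 64, 65, 66, 67, 68, 69, 70, 71], .split 45 [0, 0, 1, 0, 1, 0] [0, 0, 1, 0, -1, 0] 202 230⟩ else ⟨[], [], .leaf []⟩)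
 else (bif Nat.blt k 233 then (bif Nat.beq k 232 then ⟨[63], [], .weyl [3] 15⟩ else ⟨[], [], .leaf []⟩)
 else (bif Nat.beq k 233 then ⟨[60], [], .weyl [1] 232⟩ else ⟨[], [], .leaf []⟩)))
 else (bif Nat.blt k 235 then (bif Nat.beq k 234 then ⟨[60, 71], [], .leaf [.x [48] 2, .k 21 [60]]⟩ else ⟨[], [], .leaf []⟩)
 else (bif Nat.blt k 236 then (bif Nat.beq k 235 then ⟨[60], [71], .split 71 [1, 2, 0, 0, 0, 1] [0, 0, 0, 0, 0, 0] 233 234⟩ else ⟨[], [], .leaf []⟩)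
 else (bif Nat.beq k 236 then ⟨[65, 55, 67], [], .leaf []⟩ else ⟨[], [], .leaf []⟩)))))
 else (bif Nat.blt k 243 then (bif Nat.blt k 240 then (bif Nat.blt k 238 then (bif Nat.beq k 237 then ⟨[63, 55, 67], [], .weyl [3] 236⟩ else ⟨[], [], .leaf []⟩)
 else (bif Nat.blt k 239 then (bif Nat.beq k 238 then ⟨[60, 55, 67], [], .weyl [1] 237⟩ else ⟨[], [], .leaf []⟩)
 else (bif Nat.beq k 239 then ⟨[60, 55, 67], [71], .kill 71 49 238⟩ else ⟨[], [], .leaf []⟩)))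
 else (bif Nat.blt k 241 then (bif Nat.beq k 240 then ⟨[60], [55, 67, 71], .split 55 [0, 0, 1, 0, 1, 0] [0, 0, 1, 0, -1, 0] 235 239⟩ else ⟨[], [], .leaf []⟩)
 else (bif Nat.blt k 242 then (bif Nat.beq k 241 then ⟨[60, 54, 64], [71], .weyl [2, 4] 239⟩ else ⟨[], [], .leaf []⟩)
 else (bif Nat.beq k 242 then ⟨[60, 54, 64], [55, 67, 71], .kill 55 37 241⟩ else ⟨[], [], .leaf []⟩))))
 else (bif Nat.blt k 246 then (bif Nat.blt k 244 then (bif Nat.beq k 243 then ⟨[60], [54, 55, 64, 67, 71], .split 54 [0, 0, 0, 1, 0, 0] [0, 0, 1, 0, -1, 0] 240 242⟩ else ⟨[], [], .leaf []⟩)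
 else (bif Nat.blt k 245 then (bif Nat.beq k 244 then ⟨[60, 52, 62], [71], .weyl [3] 241⟩ else ⟨[], [], .leaf []⟩)
 else (bif Nat.beq k 245 then ⟨[60, 52, 62], [54, 64, 71], .sqkill 54 71 [] 39 244⟩ else ⟨[], [], .leaf []⟩)))
 else (bif Nat.blt k 248 then (bif Nat.blt k 247 then (bif Nat.beq k 246 then ⟨[60, 52, 62], [54, 55, 64, 67, 71], .kill 55 40 245⟩ else ⟨[], [], .leaf []⟩)
 else (bif Nat.beq k 247 then ⟨[60], [52, 54, 55, 62, 64, 67, 71], .split 52 [0, 0, 0, 1, 0, 0] [0, 0, 1, 0, -1, 0] 243 246⟩ else ⟨[], [], .leaf []⟩))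
 else (bif Nat.blt k 249 then (bif Nat.beq k 248 then ⟨[60, 49, 61], [54, 55, 64, 67, 71], .weyl [2, 4] 246⟩ else ⟨[], [], .leaf []⟩)
 else (bif Nat.beq k 249 then ⟨[60, 49, 61], [52, 54, 55, 62, 64, 67, 71], .kill 52 37 248⟩ else ⟨[], [], .leaf []⟩)))))))

def node250 (k : ℕ) : Node :=
 (bif Nat.blt k 275 then (bif Nat.blt k 262 then (bif Nat.blt k 256 then (bif Nat.blt k 253 then (bif Nat.blt k 251 then (bif Nat.beq k 250 then ⟨[60], [49, 52, 54, 55, 61, 62, 64, 67, 71], .split 49 [0, 0, 1, 0, 1, 0] [0, 0, 1, 0, -1, 0] 247 249⟩ else ⟨[], [], .leaf []⟩)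
 else (bif Nat.blt k 252 then (bif Nat.beq k 251 then ⟨[51, 63, 54, 64], [], .leaf [.w [3], .x [15, 32] 6, .k 52 [71], .k 36 [65], .w [2, 4], .w [3]]⟩ else ⟨[], [], .leaf []⟩)
 else (bif Nat.beq k 252 then ⟨[51, 63, 54, 64], [70], .kill 70 45 251⟩ else ⟨[], [], .leaf []⟩)))
 else (bif Nat.blt k 254 then (bif Nat.beq k 253 then ⟨[51, 63], [54, 64, 70], .split 54 [0, 1, 0, 1, 0, 0] [0, 0, 1, 0, -1, 0] 170 252⟩ else ⟨[], [], .leaf []⟩)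
 else (bif Nat.blt k 255 then (bif Nat.beq k 254 then ⟨[44, 60], [54, 64, 71], .weyl [1] 253⟩ else ⟨[], [], .leaf []⟩)
 else (bif Nat.beq k 255 then ⟨[44, 60, 54, 64], [71], .weyl [1] 252⟩ else ⟨[], [], .leaf []⟩))))
 else (bif Nat.blt k 259 then (bif Nat.blt k 257 then (bif Nat.beq k 256 then ⟨[44, 60, 52, 62], [71], .weyl [3] 255⟩ else ⟨[], [], .leaf []⟩)
 else (bif Nat.blt k 258 then (bif Nat.beq k 257 then ⟨[44, 60, 52, 62], [54, 64, 71], .sqkill 54 71 [] 39 256⟩ else ⟨[], [], .leaf []⟩)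
 else (bif Nat.beq k 258 then ⟨[44, 60], [52, 54, 62, 64, 71], .split 52 [0, 0, 0, 1, 0, 0] [0, 0, 1, 0, -1, 0] 254 257⟩ else ⟨[], [], .leaf []⟩)))
 else (bif Nat.blt k 260 then (bif Nat.beq k 259 then ⟨[44, 60], [52, 54, 62, 64, 66, 68, 71], .kill 66 48 258⟩ else ⟨[], [], .leaf []⟩)
 else (bif Nat.blt k 261 then (bif Nat.beq k 260 then ⟨[60, 44], [52, 54, 55, 62, 64, 67, 71], .weyl [0, 5] 259⟩ else ⟨[], [], .leaf []⟩)
 else (bif Nat.beq k 261 then ⟨[60, 44], [49, 52, 54, 55, 61, 62, 64, 67, 71], .sq 49 67 [71] 260⟩ else ⟨[], [], .leaf []⟩)))))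
 else (bif Nat.blt k 268 then (bif Nat.blt k 265 then (bif Nat.blt k 263 then (bif Nat.beq k 262 then ⟨[60], [44, 49, 52, 54, 55, 61, 62, 64, 67, 71], .split 44 [0, 0, 1, 0, 1, 0] [0, 0, 0, 0, 0, 0] 250 261⟩ else ⟨[], [], .leaf []⟩)
 else (bif Nat.blt k 264 then (bif Nat.beq k 263 then ⟨[60], [44, 49, 52, 54, 55, 61, 62, 64, 67, 70, 71], .kill 70 53 262⟩ else ⟨[], [], .leaf []⟩)
 else (bif Nat.beq k 264 then ⟨[60], [44, 49, 52, 54, 55, 61, 62, 64, 67, 69, 70, 71], .kill 69 51 263⟩ else ⟨[], [], .leaf []⟩)))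
 else (bif Nat.blt k 266 then (bif Nat.beq k 265 then ⟨[60], [44, 49, 52, 54, 55, 61, 62, 64, 66, 67, 68, 69, 70, 71], .kill 66 48 264⟩ else ⟨[], [], .leaf []⟩)
 else (bif Nat.blt k 267 then (bif Nat.beq k 266 then ⟨[60], [44, 49, 52, 53, 54, 55, 61, 62, 64, 66, 67, 68, 69, 70, 71], .sq 53 70 [55, 67, 71] 265⟩ else ⟨[], [], .leaf []⟩)
 else (bif Nat.beq k 267 then ⟨[60], [44, 49, 52, 53, 54, 55, 61, 62, 64, 65, 66, 67, 68, 69, 70, 71], .kill 65 47 266⟩ else ⟨[], [], .leaf []⟩))))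
 else (bif Nat.blt k 271 then (bif Nat.blt k 269 then (bif Nat.beq k 268 then ⟨[60], [44, 49, 51, 52, 53, 54, 55, 61, 62, 64, 65, 66, 67, 68, 69, 70, 71], .sq 51 69 [55, 67, 70, 71] 267⟩ else ⟨[], [], .leaf []⟩)
 else (bif Nat.blt k 270 then (bif Nat.beq k 269 then ⟨[60], [44, 49, 51, 52, 53, 54, 55, 61, 62, 63, 64, 65, 66, 67, 68, 69, 70, 71], .kill 63 46 268⟩ else ⟨[], [], .leaf []⟩)
 else (bif Nat.beq k 270 then ⟨[44], [48, 50, 51, 52, 53, 54, 55, 60, 62, 63, 64, 65, 66, 67, 68, 69, 70, 71], .weyl [0, 5] 269⟩ else ⟨[], [], .leaf []⟩)))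
 else (bif Nat.blt k 273 then (bif Nat.blt k 272 then (bif Nat.beq k 271 then ⟨[44], [48, 49, 50, 51, 52, 53, 54, 55, 60, 61, 62, 63, 64, 65, 66, 67, 68, 69, 70, 71], .sq 49 67 [66, 68, 69, 70, 71] 270⟩ else ⟨[], [], .leaf []⟩)
 else (bif Nat.beq k 272 then ⟨[44], [45, 48, 49, 50, 51, 52, 53, 54, 55, 59, 60, 61, 62, 63, 64, 65, 66, 67, 68, 69, 70, 71], .kill 45 36 271⟩ else ⟨[], [], .leaf []⟩))
 else (bif Nat.blt k 274 then (bif Nat.beq k 273 then ⟨[44], [45, 47, 48, 49, 50, 51, 52, 53, 54, 55, 59, 60, 61, 62, 63, 64, 65, 66, 67, 68, 69, 70, 71], .sq 47 53 [54, 55, 64, 65, 66, 67, 68, 69, 70, 71] 272⟩ else ⟨[], [], .leaf []⟩)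
 else (bif Nat.beq k 274 then ⟨[44], [45, 46, 47, 48, 49, 50, 51, 52, 53, 54, 55, 59, 60, 61, 62, 63, 64, 65, 66, 67, 68, 69, 70, 71], .sq 46 51 [52, 53, 54, 55, 62, 63, 64, 65, 66, 67, 68, 69, 70, 71] 273⟩ else ⟨[], [], .leaf []⟩))))))
 else (bif Nat.blt k 287 then (bif Nat.blt k 281 then (bif Nat.blt k 278 then (bif Nat.blt k 276 then (bif Nat.beq k 275 then ⟨[], [44, 45, 46, 47, 48, 49, 50, 51, 52, 53, 54, 55, 59, 60, 61, 62, 63, 64, 65, 66, 67, 68, 69, 70, 71], .split 44 [0, 1, 1, 0, 1, 0] [0, 0, 0, 0, 0, 0] 231 274⟩ else ⟨[], [], .leaf []⟩)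
 else (bif Nat.blt k 277 then (bif Nat.beq k 276 then ⟨[52, 62, 44], [53, 60, 65, 70], .weyl [1] 218⟩ else ⟨[], [], .leaf []⟩)
 else (bif Nat.beq k 277 then ⟨[49, 61, 39], [53, 60, 69, 70], .weyl [2, 4] 276⟩ else ⟨[], [], .leaf []⟩)))
 else (bif Nat.blt k 279 then (bif Nat.beq k 278 then ⟨[48, 50, 39], [44, 65, 69, 70], .weyl [0, 5] 277⟩ else ⟨[], [], .leaf []⟩)
 else (bif Nat.blt k 280 then (bif Nat.beq k 279 then ⟨[48, 50, 39], [44, 63, 65, 69, 70], .sq 63 65 [69, 70] 278⟩ else ⟨[], [], .leaf []⟩)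
 else (bif Nat.beq k 280 then ⟨[48, 50], [39, 44, 63, 65, 69, 70], .split 39 [1, 1, 0, 1, 0, 1] [0, 0, 0, 0, 0, 0] 133 279⟩ else ⟨[], [], .leaf []⟩))))
 else (bif Nat.blt k 284 then (bif Nat.blt k 282 then (bif Nat.beq k 281 then ⟨[48, 50], [39, 44, 63, 65, 69, 70, 71], .kill 71 66 280⟩ else ⟨[], [], .leaf []⟩)
 else (bif Nat.blt k 283 then (bif Nat.beq k 282 then ⟨[48, 50], [39, 44, 63, 65, 66, 68, 69, 70, 71], .sqkill 66 71 [65, 69, 70] 60 281⟩ else ⟨[], [], .leaf []⟩)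
 else (bif Nat.beq k 283 then ⟨[48, 50], [39, 44, 53, 63, 65, 66, 68, 69, 70, 71], .kill 53 40 282⟩ else ⟨[], [], .leaf []⟩)))
 else (bif Nat.blt k 285 then (bif Nat.beq k 284 then ⟨[40, 43], [47, 51, 53, 60, 65, 66, 68, 69, 70, 71], .weyl [1] 283⟩ else ⟨[], [], .leaf []⟩)
 else (bif Nat.blt k 286 then (bif Nat.beq k 285 then ⟨[40, 43], [47, 51, 53, 60, 63, 65, 66, 68, 69, 70, 71], .sq 63 68 [65, 69, 70, 71] 284⟩ else ⟨[], [], .leaf []⟩)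
 else (bif Nat.beq k 286 then ⟨[41, 58], [44, 47, 51, 53, 55, 63, 65, 67, 69, 70, 71], .weyl [0, 5] 285⟩ else ⟨[], [], .leaf []⟩)))))
 else (bif Nat.blt k 293 then (bif Nat.blt k 290 then (bif Nat.blt k 288 then (bif Nat.beq k 287 then ⟨[45, 59], [39, 47, 51, 53, 54, 63, 64, 65, 69, 70, 71], .weyl [2, 4] 286⟩ else ⟨[], [], .leaf []⟩)
 else (bif Nat.blt k 289 then (bif Nat.beq k 288 then ⟨[45, 59], [39, 47, 51, 52, 53, 54, 62, 63, 64, 65, 69, 70, 71], .sqkill 52 69 [53, 54, 64, 65, 70, 71] 46 287⟩ else ⟨[], [], .leaf []⟩)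
 else (bif Nat.beq k 289 then ⟨[45, 59], [39, 47, 51, 52, 53, 54, 62, 63, 64, 65, 66, 68, 69, 70, 71], .kill 66 49 288⟩ else ⟨[], [], .leaf []⟩)))
 else (bif Nat.blt k 291 then (bif Nat.beq k 290 then ⟨[45, 59], [39, 47, 51, 52, 53, 54, 60, 62, 63, 64, 65, 66, 68, 69, 70, 71], .kill 60 36 289⟩ else ⟨[], [], .leaf []⟩)
 else (bif Nat.blt k 292 then (bif Nat.beq k 291 then ⟨[45, 59], [39, 47, 51, 52, 53, 54, 55, 60, 62, 63, 64, 65, 66, 67, 68, 69, 70, 71], .kill 55 48 290⟩ else ⟨[], [], .leaf []⟩)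
 else (bif Nat.beq k 292 then ⟨[41, 58], [44, 47, 49, 51, 53, 54, 55, 60, 61, 63, 64, 65, 66, 67, 68, 69, 70, 71], .weyl [2, 4] 291⟩ else ⟨[], [], .leaf []⟩))))
 else (bif Nat.blt k 296 then (bif Nat.blt k 294 then (bif Nat.beq k 293 then ⟨[41, 58], [44, 47, 49, 51, 52, 53, 54, 55, 60, 61, 62, 63, 64, 65, 66, 67, 68, 69, 70, 71], .sq 52 68 [53, 55, 65, 67, 69, 70, 71] 292⟩ else ⟨[], [], .leaf []⟩)
 else (bif Nat.blt k 295 then (bif Nat.beq k 294 then ⟨[41, 58], [44, 47, 48, 49, 50, 51, 52, 53, 54, 55, 60, 61, 62, 63, 64, 65, 66, 67, 68, 69, 70, 71], .sq 48 64 [53, 55, 65, 66, 67, 68, 69, 70, 71] 293⟩ else ⟨[], [], .leaf []⟩)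
 else (bif Nat.beq k 295 then ⟨[41, 58], [44, 45, 47, 48, 49, 50, 51, 52, 53, 54, 55, 59, 60, 61, 62, 63, 64, 65, 66, 67, 68, 69, 70, 71], .kill 45 37 294⟩ else ⟨[], [], .leaf []⟩)))
 else (bif Nat.blt k 298 then (bif Nat.blt k 297 then (bif Nat.beq k 296 then ⟨[41, 58], [44, 45, 46, 47, 48, 49, 50, 51, 52, 53, 54, 55, 59, 60, 61, 62, 63, 64, 65, 66, 67, 68, 69, 70, 71], .sq 46 61 [51, 52, 53, 54, 55, 62, 63, 64, 65, 66, 67, 68, 69, 70, 71] 295⟩ else ⟨[], [], .leaf []⟩)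
 else (bif Nat.beq k 297 then ⟨[], [41, 44, 45, 46, 47, 48, 49, 50, 51, 52, 53, 54, 55, 58, 59, 60, 61, 62, 63, 64, 65, 66, 67, 68, 69, 70, 71], .split 41 [0, 0, 0, 1, 0, 0] [0, 0, 1, 0, -1, 0] 275 296⟩ else ⟨[], [], .leaf []⟩))
 else (bif Nat.blt k 299 then (bif Nat.beq k 298 then ⟨[40, 43], [44, 45, 47, 48, 49, 50, 51, 52, 53, 54, 55, 59, 60, 61, 62, 63, 64, 65, 66, 67, 68, 69, 70, 71], .weyl [0, 5] 295⟩ else ⟨[], [], .leaf []⟩)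
 else (bif Nat.beq k 299 then ⟨[40, 43], [41, 44, 45, 47, 48, 49, 50, 51, 52, 53, 54, 55, 58, 59, 60, 61, 62, 63, 64, 65, 66, 67, 68, 69, 70, 71], .kill 41 36 298⟩ else ⟨[], [], .leaf []⟩)))))))

def node300 (k : ℕ) : Node :=
 (bif Nat.blt k 325 then (bif Nat.blt k 312 then (bif Nat.blt k 306 then (bif Nat.blt k 303 then (bif Nat.blt k 301 then (bif Nat.beq k 300 then ⟨[40, 43], [41, 44, 45, 46, 47, 48, 49, 50, 51, 52, 53, 54, 55, 58, 59, 60, 61, 62, 63, 64, 65, 66, 67, 68, 69, 70, 71], .sq 46 50 [49, 51, 52, 53, 54, 55, 61, 62, 63, 64, 65, 66, 67, 68, 69, 70, 71] 299⟩ else ⟨[], [], .leaf []⟩)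
 else (bif Nat.blt k 302 then (bif Nat.beq k 301 then ⟨[], [40, 41, 43, 44, 45, 46, 47, 48, 49, 50, 51, 52, 53, 54, 55, 58, 59, 60, 61, 62, 63, 64, 65, 66, 67, 68, 69, 70, 71], .split 40 [0, 0, 0, 1, 0, 0] [1, 0, 1, 0, -1, -1] 297 300⟩ else ⟨[], [], .leaf []⟩)
 else (bif Nat.beq k 302 then ⟨[47], [51, 52, 55, 62, 63, 66, 67, 68, 70], .weyl [3] 188⟩ else ⟨[], [], .leaf []⟩)))
 else (bif Nat.blt k 304 then (bif Nat.beq k 303 then ⟨[44, 54, 64], [60, 71], .weyl [1] 105⟩ else ⟨[], [], .leaf []⟩)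
 else (bif Nat.blt k 305 then (bif Nat.beq k 304 then ⟨[44, 52, 62], [60, 71], .weyl [3] 303⟩ else ⟨[], [], .leaf []⟩)
 else (bif Nat.beq k 305 then ⟨[44, 52, 62], [54, 60, 64, 71], .sqkill 54 71 [] 39 304⟩ else ⟨[], [], .leaf []⟩))))
 else (bif Nat.blt k 309 then (bif Nat.blt k 307 then (bif Nat.beq k 306 then ⟨[44, 52, 62], [54, 60, 64, 66, 68, 71], .kill 66 41 305⟩ else ⟨[], [], .leaf []⟩)
 else (bif Nat.blt k 308 then (bif Nat.beq k 307 then ⟨[51, 45, 59], [54, 63, 64, 66, 68, 70], .weyl [1] 306⟩ else ⟨[], [], .leaf []⟩)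
 else (bif Nat.beq k 308 then ⟨[47, 41, 58], [55, 63, 66, 67, 68, 70], .weyl [2, 4] 307⟩ else ⟨[], [], .leaf []⟩)))
 else (bif Nat.blt k 310 then (bif Nat.beq k 309 then ⟨[47, 41, 58], [52, 55, 62, 63, 66, 67, 68, 70], .sq 52 68 [70] 308⟩ else ⟨[], [], .leaf []⟩)
 else (bif Nat.blt k 311 then (bif Nat.beq k 310 then ⟨[47, 41, 58], [51, 52, 55, 62, 63, 66, 67, 68, 70], .sq 51 67 [66, 68, 70] 309⟩ else ⟨[], [], .leaf []⟩)
 else (bif Nat.beq k 311 then ⟨[47], [41, 51, 52, 55, 58, 62, 63, 66, 67, 68, 70], .split 41 [-1, -1, 0, 1, 0, -1] [0, 0, 1, 0, -1, 0] 302 310⟩ else ⟨[], [], .leaf []⟩)))))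
 else (bif Nat.blt k 318 then (bif Nat.blt k 315 then (bif Nat.blt k 313 then (bif Nat.beq k 312 then ⟨[47, 40, 43], [51, 52, 55, 62, 63, 66, 67, 68, 70], .weyl [0, 5] 310⟩ else ⟨[], [], .leaf []⟩)
 else (bif Nat.blt k 314 then (bif Nat.beq k 313 then ⟨[47, 40, 43], [41, 51, 52, 55, 58, 62, 63, 66, 67, 68, 70], .kill 41 36 312⟩ else ⟨[], [], .leaf []⟩)
 else (bif Nat.beq k 314 then ⟨[47], [40, 41, 43, 51, 52, 55, 58, 62, 63, 66, 67, 68, 70], .split 40 [1, -1, 0, 1, 0, 1] [1, 0, 1, 0, -1, -1] 311 313⟩ else ⟨[], [], .leaf []⟩)))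
 else (bif Nat.blt k 316 then (bif Nat.beq k 315 then ⟨[47], [40, 41, 43, 51, 52, 55, 58, 62, 63, 66, 67, 68, 70, 71], .kill 71 69 314⟩ else ⟨[], [], .leaf []⟩)
 else (bif Nat.blt k 317 then (bif Nat.beq k 316 then ⟨[47], [40, 41, 43, 51, 52, 55, 58, 62, 63, 66, 67, 68, 69, 70, 71], .sq 69 71 [55, 66, 67, 68, 70] 315⟩ else ⟨[], [], .leaf []⟩)
 else (bif Nat.beq k 317 then ⟨[47], [40, 41, 43, 51, 52, 55, 58, 62, 63, 65, 66, 67, 68, 69, 70, 71], .kill 65 60 316⟩ else ⟨[], [], .leaf []⟩))))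
 else (bif Nat.blt k 321 then (bif Nat.blt k 319 then (bif Nat.beq k 318 then ⟨[47], [40, 41, 43, 51, 52, 54, 55, 58, 62, 63, 64, 65, 66, 67, 68, 69, 70, 71], .kill 54 45 317⟩ else ⟨[], [], .leaf []⟩)
 else (bif Nat.blt k 320 then (bif Nat.beq k 319 then ⟨[47], [40, 41, 43, 51, 52, 53, 54, 55, 58, 62, 63, 64, 65, 66, 67, 68, 69, 70, 71], .kill 53 44 318⟩ else ⟨[], [], .leaf []⟩)
 else (bif Nat.beq k 320 then ⟨[39], [44, 45, 48, 49, 50, 53, 54, 55, 59, 60, 61, 64, 65, 66, 67, 68, 69, 70, 71], .weyl [1] 319⟩ else ⟨[], [], .leaf []⟩)))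
 else (bif Nat.blt k 323 then (bif Nat.blt k 322 then (bif Nat.beq k 321 then ⟨[39], [44, 45, 48, 49, 50, 53, 54, 55, 59, 60, 61, 63, 64, 65, 66, 67, 68, 69, 70, 71], .sq 63 65 [55, 66, 67, 68, 69, 70, 71] 320⟩ else ⟨[], [], .leaf []⟩)
 else (bif Nat.beq k 322 then ⟨[39], [44, 45, 48, 49, 50, 52, 53, 54, 55, 59, 60, 61, 62, 63, 64, 65, 66, 67, 68, 69, 70, 71], .sq 52 64 [55, 65, 66, 67, 68, 69, 70, 71] 321⟩ else ⟨[], [], .leaf []⟩))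
 else (bif Nat.blt k 324 then (bif Nat.beq k 323 then ⟨[39], [44, 45, 48, 49, 50, 51, 52, 53, 54, 55, 59, 60, 61, 62, 63, 64, 65, 66, 67, 68, 69, 70, 71], .sq 51 53 [54, 55, 64, 65, 66, 67, 68, 69, 70, 71] 322⟩ else ⟨[], [], .leaf []⟩)
 else (bif Nat.beq k 324 then ⟨[39], [44, 45, 47, 48, 49, 50, 51, 52, 53, 54, 55, 59, 60, 61, 62, 63, 64, 65, 66, 67, 68, 69, 70, 71], .kill 47 46 323⟩ else ⟨[], [], .leaf []⟩))))))
 else (bif Nat.blt k 337 then (bif Nat.blt k 331 then (bif Nat.blt k 328 then (bif Nat.blt k 326 then (bif Nat.beq k 325 then ⟨[39], [41, 44, 45, 47, 48, 49, 50, 51, 52, 53, 54, 55, 58, 59, 60, 61, 62, 63, 64, 65, 66, 67, 68, 69, 70, 71], .kill 41 38 324⟩ else ⟨[], [], .leaf []⟩)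
 else (bif Nat.blt k 327 then (bif Nat.beq k 326 then ⟨[39], [40, 41, 43, 44, 45, 47, 48, 49, 50, 51, 52, 53, 54, 55, 58, 59, 60, 61, 62, 63, 64, 65, 66, 67, 68, 69, 70, 71], .kill 40 37 325⟩ else ⟨[], [], .leaf []⟩)
 else (bif Nat.beq k 327 then ⟨[39], [40, 41, 43, 44, 45, 46, 47, 48, 49, 50, 51, 52, 53, 54, 55, 58, 59, 60, 61, 62, 63, 64, 65, 66, 67, 68, 69, 70, 71], .sq 46 47 [48, 49, 50, 51, 52, 53, 54, 55, 61, 62, 63, 64, 65, 66, 67, 68, 69, 70, 71] 326⟩ else ⟨[], [], .leaf []⟩)))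
 else (bif Nat.blt k 329 then (bif Nat.beq k 328 then ⟨[], [39, 40, 41, 43, 44, 45, 46, 47, 48, 49, 50, 51, 52, 53, 54, 55, 58, 59, 60, 61, 62, 63, 64, 65, 66, 67, 68, 69, 70, 71], .split 39 [0, 1, 0, 1, 0, 0] [0, 0, 0, 0, 0, 0] 301 327⟩ else ⟨[], [], .leaf []⟩)
 else (bif Nat.blt k 330 then (bif Nat.beq k 329 then ⟨[41, 58], [44, 47, 49, 51, 53, 55, 61, 63, 65, 67, 69, 70, 71], .sqkill 49 65 [53, 55, 67, 69, 70, 71] 46 286⟩ else ⟨[], [], .leaf []⟩)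
 else (bif Nat.beq k 330 then ⟨[41, 58], [44, 47, 49, 51, 53, 55, 60, 61, 63, 65, 67, 69, 70, 71], .kill 60 38 329⟩ else ⟨[], [], .leaf []⟩))))
 else (bif Nat.blt k 334 then (bif Nat.blt k 332 then (bif Nat.beq k 331 then ⟨[41, 58], [44, 46, 47, 49, 51, 53, 55, 60, 61, 63, 65, 67, 69, 70, 71], .sq 46 61 [51, 53, 55, 63, 65, 67, 69, 70, 71] 330⟩ else ⟨[], [], .leaf []⟩)
 else (bif Nat.blt k 333 then (bif Nat.beq k 332 then ⟨[38, 57], [44, 46, 47, 49, 51, 53, 55, 60, 61, 63, 65, 67, 69, 70, 71], .weyl [3] 331⟩ else ⟨[], [], .leaf []⟩)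
 else (bif Nat.beq k 333 then ⟨[38, 57], [41, 44, 46, 47, 49, 51, 53, 55, 58, 60, 61, 63, 65, 67, 69, 70, 71], .sqkill 41 60 [49, 51, 53, 55, 61, 63, 65, 67, 69, 70, 71] 39 332⟩ else ⟨[], [], .leaf []⟩)))
 else (bif Nat.blt k 335 then (bif Nat.beq k 334 then ⟨[38, 57], [41, 44, 46, 47, 49, 51, 53, 55, 58, 60, 61, 63, 65, 66, 67, 68, 69, 70, 71], .kill 66 54 333⟩ else ⟨[], [], .leaf []⟩)
 else (bif Nat.blt k 336 then (bif Nat.beq k 335 then ⟨[38, 57], [41, 44, 46, 47, 49, 51, 53, 54, 55, 58, 60, 61, 63, 64, 65, 66, 67, 68, 69, 70, 71], .sq 54 68 [49, 51, 53, 55, 60, 61, 63, 65, 67, 69, 70, 71] 334⟩ else ⟨[], [], .leaf []⟩)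
 else (bif Nat.beq k 336 then ⟨[38, 57], [41, 44, 46, 47, 49, 51, 52, 53, 54, 55, 58, 60, 61, 62, 63, 64, 65, 66, 67, 68, 69, 70, 71], .kill 52 48 335⟩ else ⟨[], [], .leaf []⟩)))))
 else (bif Nat.blt k 343 then (bif Nat.blt k 340 then (bif Nat.blt k 338 then (bif Nat.beq k 337 then ⟨[38, 57], [41, 44, 46, 47, 48, 49, 50, 51, 52, 53, 54, 55, 58, 60, 61, 62, 63, 64, 65, 66, 67, 68, 69, 70, 71], .sq 48 62 [49, 51, 53, 54, 55, 60, 61, 63, 64, 65, 66, 67, 68, 69, 70, 71] 336⟩ else ⟨[], [], .leaf []⟩)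
 else (bif Nat.blt k 339 then (bif Nat.beq k 338 then ⟨[38, 57], [41, 44, 45, 46, 47, 48, 49, 50, 51, 52, 53, 54, 55, 58, 59, 60, 61, 62, 63, 64, 65, 66, 67, 68, 69, 70, 71], .kill 45 40 337⟩ else ⟨[], [], .leaf []⟩)
 else (bif Nat.beq k 339 then ⟨[38, 57], [40, 41, 43, 44, 45, 46, 47, 48, 49, 50, 51, 52, 53, 54, 55, 58, 59, 60, 61, 62, 63, 64, 65, 66, 67, 68, 69, 70, 71], .sq 40 59 [48, 49, 50, 51, 52, 53, 54, 55, 60, 61, 62, 63, 64, 65, 66, 67, 68, 69, 70, 71] 338⟩ else ⟨[], [], .leaf []⟩)))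
 else (bif Nat.blt k 341 then (bif Nat.beq k 340 then ⟨[38, 57], [39, 40, 41, 43, 44, 45, 46, 47, 48, 49, 50, 51, 52, 53, 54, 55, 58, 59, 60, 61, 62, 63, 64, 65, 66, 67, 68, 69, 70, 71], .sq 39 58 [45, 47, 48, 49, 50, 51, 52, 53, 54, 55, 59, 60, 61, 62, 63, 64, 65, 66, 67, 68, 69, 70, 71] 339⟩ else ⟨[], [], .leaf []⟩)
 else (bif Nat.blt k 342 then (bif Nat.beq k 341 then ⟨[], [38, 39, 40, 41, 43, 44, 45, 46, 47, 48, 49, 50, 51, 52, 53, 54, 55, 57, 58, 59, 60, 61, 62, 63, 64, 65, 66, 67, 68, 69, 70, 71], .split 38 [0, 0, 0, 1, 0, 0] [0, 0, 1, 0, -1, 0] 328 340⟩ else ⟨[], [], .leaf []⟩)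
 else (bif Nat.beq k 342 then ⟨[37, 42], [40, 41, 43, 44, 45, 46, 47, 48, 49, 50, 51, 52, 53, 54, 55, 58, 59, 60, 61, 62, 63, 64, 65, 66, 67, 68, 69, 70, 71], .weyl [0, 5] 339⟩ else ⟨[], [], .leaf []⟩))))
 else (bif Nat.blt k 346 then (bif Nat.blt k 344 then (bif Nat.beq k 343 then ⟨[37, 42], [38, 40, 41, 43, 44, 45, 46, 47, 48, 49, 50, 51, 52, 53, 54, 55, 57, 58, 59, 60, 61, 62, 63, 64, 65, 66, 67, 68, 69, 70, 71], .kill 38 36 342⟩ else ⟨[], [], .leaf []⟩)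
 else (bif Nat.blt k 345 then (bif Nat.beq k 344 then ⟨[37, 42], [38, 39, 40, 41, 43, 44, 45, 46, 47, 48, 49, 50, 51, 52, 53, 54, 55, 57, 58, 59, 60, 61, 62, 63, 64, 65, 66, 67, 68, 69, 70, 71], .sq 39 43 [41, 44, 45, 47, 48, 49, 50, 51, 52, 53, 54, 55, 58, 59, 60, 61, 62, 63, 64, 65, 66, 67, 68, 69, 70, 71] 343⟩ else ⟨[], [], .leaf []⟩)
 else (bif Nat.beq k 345 then ⟨[], [37, 38, 39, 40, 41, 42, 43, 44, 45, 46, 47, 48, 49, 50, 51, 52, 53, 54, 55, 57, 58, 59, 60, 61, 62, 63, 64, 65, 66, 67, 68, 69, 70, 71], .split 37 [0, 0, 0, 1, 0, 0] [1, 0, 1, 0, -1, -1] 341 344⟩ else ⟨[], [], .leaf []⟩)))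
 else (bif Nat.blt k 348 then (bif Nat.blt k 347 then (bif Nat.beq k 346 then ⟨[36, 56], [39, 40, 41, 43, 44, 45, 46, 47, 48, 49, 50, 51, 52, 53, 54, 55, 58, 59, 60, 61, 62, 63, 64, 65, 66, 67, 68, 69, 70, 71], .weyl [2, 4] 340⟩ else ⟨[], [], .leaf []⟩)
 else (bif Nat.beq k 347 then ⟨[36, 56], [38, 39, 40, 41, 43, 44, 45, 46, 47, 48, 49, 50, 51, 52, 53, 54, 55, 57, 58, 59, 60, 61, 62, 63, 64, 65, 66, 67, 68, 69, 70, 71], .kill 38 37 346⟩ else ⟨[], [], .leaf []⟩))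
 else (bif Nat.blt k 349 then (bif Nat.beq k 348 then ⟨[36, 56], [37, 38, 39, 40, 41, 42, 43, 44, 45, 46, 47, 48, 49, 50, 51, 52, 53, 54, 55, 57, 58, 59, 60, 61, 62, 63, 64, 65, 66, 67, 68, 69, 70, 71], .sq 37 57 [40, 41, 43, 44, 45, 47, 48, 49, 50, 51, 52, 53, 54, 55, 58, 59, 60, 61, 62, 63, 64, 65, 66, 67, 68, 69, 70, 71] 347⟩ else ⟨[], [], .leaf []⟩)
 else (bif Nat.beq k 349 then ⟨[], [36, 37, 38, 39, 40, 41, 42, 43, 44, 45, 46, 47, 48, 49, 50, 51, 52, 53, 54, 55, 56, 57, 58, 59, 60, 61, 62, 63, 64, 65, 66, 67, 68, 69, 70, 71], .split 36 [0, 0, 1, 0, 1, 0] [0, 0, 1, 0, -1, 0] 345 348⟩ else ⟨[], [], .leaf []⟩)))))))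

/-- The certificate. -/
def node (k : ℕ) : Node :=
 (bif Nat.blt k 150 then (bif Nat.blt k 50 then (node0 k)
 else (bif Nat.blt k 100 then (node50 k)
 else (node100 k)))
 else (bif Nat.blt k 250 then (bif Nat.blt k 200 then (node150 k)
 else (node200 k))
 else (bif Nat.blt k 300 then (node250 k)
 else (node300 k))))

end CfsgLib.InvClasses.Twisted.E6
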