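import Cfsg.Agent.Lib.InvClasses.Twisted.E6.Terms
import Cfsg.Agent.Lib.InvClasses.Twisted.E6.Nodes

/-!
The certificate is valid.
-/

set_option autoImplicit false
set_option maxRecDepth 100000
set_option Elab.async false

namespace CfsgLib.InvClasses.Twisted.E6

/-- The target lists. -/
def reps : List (List ℕ) := [[71], [66, 68], [55, 65, 67]]

/-- The step at an index is valid. -/
def chk (k : ℕ) : Bool := chkNode Chevalley.Data.E6.tbl D rho perm reps node k

theorem chk0 : Chevalley.allLt (fun i => chk (0 + i)) 50 = true := by decide +kernel

theorem chk50 : Chevalley.allLt (fun i => chk (50 + i)) 50 = true := by decide +kernel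

theorem chk100 : Chevalley.allLt (fun i => chk (100 + i)) 50 = true := by decide +kernel

theorem chk150 : Chevalley.allLt (fun i => chk (150 + i)) 50 = true := by decide +kernel

theorem chk200 : Chevalley.allLt (fun i => chk (200 + i)) 50 = true := by decide +kernel

theorem chk250 : Chevalley.allLt (fun i => chk (250 + i)) 50 = true := by decide +kernel

theorem chk300 : Chevalley.allLt (fun i => chk (300 + i)) 50 = true := by decide +kernel

theorem chk_all : ∀ k < 350, chk k = true := by
  intro k hk
  rcases Nat.lt_or_ge k 50 with h | h
  · have := Chevalley.allLt_iff.mp chk0 (k - 0) (by omega)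
    rwa [show 0 + (k - 0) = k by omega] at this
  rcases Nat.lt_or_ge k 100 with h | h
  · have := Chevalley.allLt_iff.mp chk50 (k - 50) (by omega)
    rwa [show 50 + (k - 50) = k by omega] at this
  rcases Nat.lt_or_ge k 150 with h | h
  · have := Chevalley.allLt_iff.mp chk100 (k - 100) (by omega)
    rwa [show 100 + (k - 100) = k by omega] at this
  rcases Nat.lt_or_ge k 200 with h | h
  · have := Chevalley.allLt_iff.mp chk150 (k - 150) (by omega)
    rwa [show 150 + (k - 150) = k by omega] at this
  rcases Nat.lt_or_ge k 250 with h | h
  · have := Chevalley.allLt_iff.mp chk200 (k - 200) (by omega)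
    rwa [show 200 + (k - 200) = k by omega] at this
  rcases Nat.lt_or_ge k 300 with h | h
  · have := Chevalley.allLt_iff.mp chk250 (k - 250) (by omega)
    rwa [show 250 + (k - 250) = k by omega] at this
  have := Chevalley.allLt_iff.mp chk300 (k - 300) (by omega)
  rwa [show 300 + (k - 300) = k by omega] at this

theorem node_root : (node 349).M = [] ∧ (node 349).L = List.range' 36 36 := by decide +kernel

end CfsgLib.InvClasses.Twisted.E6
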