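import Cfsg.Agent.Lib.InvClasses.Mod2
import Cfsg.Agent.Lib.Chevalley.Data.E6Comm

/-!
The odd commutator terms and the graph permutation of type E₆.
-/

set_option autoImplicit false
set_option maxRecDepth 100000
set_option Elab.async false

namespace CfsgLib.InvClasses.Twisted.E6

def d0 (s : ℕ) : List (ℕ × ℕ × ℕ) :=
 (bif Nat.blt s 61 then (bif Nat.blt s 51 then (bif Nat.blt s 48 then (bif Nat.blt s 47 then (bif Nat.beq s 46 then [(1, 1, 1)] else [])
 else (bif Nat.beq s 47 then [(2, 1, 1)] else []))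
 else (bif Nat.blt s 49 then (bif Nat.beq s 48 then [(3, 1, 1)] else [])
 else (bif Nat.blt s 50 then (bif Nat.beq s 49 then [(4, 1, 1)] else [])
 else (bif Nat.beq s 50 then [(5, 1, 1)] else []))))
 else (bif Nat.blt s 53 then (bif Nat.blt s 52 then (bif Nat.beq s 51 then [(6, 1, 1)] else [])
 else (bif Nat.beq s 52 then [(7, 1, 1)] else []))
 else (bif Nat.blt s 54 then (bif Nat.beq s 53 then [(8, 1, 1)] else [])
 else (bif Nat.blt s 55 then (bif Nat.beq s 54 then [(9, 1, 1)] else [])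
 else (bif Nat.beq s 55 then [(10, 1, 1)] else [])))))
 else (bif Nat.blt s 66 then (bif Nat.blt s 63 then (bif Nat.blt s 62 then (bif Nat.beq s 61 then [(16, 1, 1)] else [])
 else (bif Nat.beq s 62 then [(17, 1, 1)] else []))
 else (bif Nat.blt s 64 then (bif Nat.beq s 63 then [(18, 1, 1)] else [])
 else (bif Nat.blt s 65 then (bif Nat.beq s 64 then [(19, 1, 1)] else [])
 else (bif Nat.beq s 65 then [(20, 1, 1)] else []))))
 else (bif Nat.blt s 68 then (bif Nat.blt s 67 then (bif Nat.beq s 66 then [(21, 1, 1)] else [])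
 else (bif Nat.beq s 67 then [(22, 1, 1)] else []))
 else (bif Nat.blt s 69 then (bif Nat.beq s 68 then [(23, 1, 1)] else [])
 else (bif Nat.blt s 70 then (bif Nat.beq s 69 then [(24, 1, 1)] else [])
 else (bif Nat.beq s 70 then [(25, 1, 1)] else []))))))

def d1 (s : ℕ) : List (ℕ × ℕ × ℕ) :=
 (bif Nat.blt s 58 then (bif Nat.blt s 44 then (bif Nat.blt s 40 then (bif Nat.blt s 39 then (bif Nat.beq s 25 then [(0, 1, 1)] else [])
 else (bif Nat.beq s 39 then [(2, 1, 1)] else []))
 else (bif Nat.blt s 41 then (bif Nat.beq s 40 then [(3, 1, 1)] else [])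
 else (bif Nat.blt s 43 then (bif Nat.beq s 41 then [(4, 1, 1)] else [])
 else (bif Nat.beq s 43 then [(5, 1, 1)] else []))))
 else (bif Nat.blt s 53 then (bif Nat.blt s 45 then (bif Nat.beq s 44 then [(6, 1, 1)] else [])
 else (bif Nat.beq s 45 then [(7, 1, 1)] else []))
 else (bif Nat.blt s 54 then (bif Nat.beq s 53 then [(11, 1, 1)] else [])
 else (bif Nat.blt s 55 then (bif Nat.beq s 54 then [(12, 1, 1)] else [])
 else (bif Nat.beq s 55 then [(13, 1, 1)] else [])))))
 else (bif Nat.blt s 66 then (bif Nat.blt s 60 then (bif Nat.blt s 59 then (bif Nat.beq s 58 then [(16, 1, 1)] else [])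
 else (bif Nat.beq s 59 then [(17, 1, 1)] else []))
 else (bif Nat.blt s 64 then (bif Nat.beq s 60 then [(18, 1, 1)] else [])
 else (bif Nat.blt s 65 then (bif Nat.beq s 64 then [(26, 1, 1)] else [])
 else (bif Nat.beq s 65 then [(27, 1, 1)] else []))))
 else (bif Nat.blt s 68 then (bif Nat.blt s 67 then (bif Nat.beq s 66 then [(28, 1, 1)] else [])
 else (bif Nat.beq s 67 then [(30, 1, 1)] else []))
 else (bif Nat.blt s 69 then (bif Nat.beq s 68 then [(31, 1, 1)] else [])
 else (bif Nat.blt s 71 then (bif Nat.beq s 69 then [(32, 1, 1)] else [])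
 else (bif Nat.beq s 71 then [(46, 1, 1)] else []))))))

def d2 (s : ℕ) : List (ℕ × ℕ × ℕ) :=
 (bif Nat.blt s 57 then (bif Nat.blt s 44 then (bif Nat.blt s 37 then (bif Nat.blt s 32 then (bif Nat.beq s 24 then [(0, 1, 1)] else [])
 else (bif Nat.beq s 32 then [(1, 1, 1)] else []))
 else (bif Nat.blt s 38 then (bif Nat.beq s 37 then [(3, 1, 1)] else [])
 else (bif Nat.blt s 42 then (bif Nat.beq s 38 then [(4, 1, 1)] else [])
 else (bif Nat.beq s 42 then [(5, 1, 1)] else []))))
 else (bif Nat.blt s 51 then (bif Nat.blt s 45 then (bif Nat.beq s 44 then [(8, 1, 1)] else [])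
 else (bif Nat.beq s 45 then [(9, 1, 1)] else []))
 else (bif Nat.blt s 52 then (bif Nat.beq s 51 then [(11, 1, 1)] else [])
 else (bif Nat.blt s 55 then (bif Nat.beq s 52 then [(12, 1, 1)] else [])
 else (bif Nat.beq s 55 then [(14, 1, 1)] else [])))))
 else (bif Nat.blt s 66 then (bif Nat.blt s 60 then (bif Nat.blt s 59 then (bif Nat.beq s 57 then [(16, 1, 1)] else [])
 else (bif Nat.beq s 59 then [(19, 1, 1)] else []))
 else (bif Nat.blt s 62 then (bif Nat.beq s 60 then [(20, 1, 1)] else [])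
 else (bif Nat.blt s 63 then (bif Nat.beq s 62 then [(26, 1, 1)] else [])
 else (bif Nat.beq s 63 then [(27, 1, 1)] else []))))
 else (bif Nat.blt s 68 then (bif Nat.blt s 67 then (bif Nat.beq s 66 then [(29, 1, 1)] else [])
 else (bif Nat.beq s 67 then [(33, 1, 1)] else []))
 else (bif Nat.blt s 70 then (bif Nat.beq s 68 then [(34, 1, 1)] else [])
 else (bif Nat.blt s 71 then (bif Nat.beq s 70 then [(39, 1, 1)] else [])
 else (bif Nat.beq s 71 then [(47, 1, 1)] else []))))))

def d3 (s : ℕ) : List (ℕ × ℕ × ℕ) :=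
 (bif Nat.blt s 57 then (bif Nat.blt s 43 then (bif Nat.blt s 34 then (bif Nat.blt s 31 then (bif Nat.beq s 23 then [(0, 1, 1)] else [])
 else (bif Nat.beq s 31 then [(1, 1, 1)] else []))
 else (bif Nat.blt s 36 then (bif Nat.beq s 34 then [(2, 1, 1)] else [])
 else (bif Nat.blt s 42 then (bif Nat.beq s 36 then [(4, 1, 1)] else [])
 else (bif Nat.beq s 42 then [(6, 1, 1)] else []))))
 else (bif Nat.blt s 50 then (bif Nat.blt s 45 then (bif Nat.beq s 43 then [(8, 1, 1)] else [])
 else (bif Nat.beq s 45 then [(10, 1, 1)] else []))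
 else (bif Nat.blt s 52 then (bif Nat.beq s 50 then [(11, 1, 1)] else [])
 else (bif Nat.blt s 54 then (bif Nat.beq s 52 then [(13, 1, 1)] else [])
 else (bif Nat.beq s 54 then [(14, 1, 1)] else [])))))
 else (bif Nat.blt s 65 then (bif Nat.blt s 60 then (bif Nat.blt s 58 then (bif Nat.beq s 57 then [(17, 1, 1)] else [])
 else (bif Nat.beq s 58 then [(19, 1, 1)] else []))
 else (bif Nat.blt s 61 then (bif Nat.beq s 60 then [(21, 1, 1)] else [])
 else (bif Nat.blt s 63 then (bif Nat.beq s 61 then [(26, 1, 1)] else [])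
 else (bif Nat.beq s 63 then [(28, 1, 1)] else []))))
 else (bif Nat.blt s 69 then (bif Nat.blt s 67 then (bif Nat.beq s 65 then [(29, 1, 1)] else [])
 else (bif Nat.beq s 67 then [(35, 1, 1)] else []))
 else (bif Nat.blt s 70 then (bif Nat.beq s 69 then [(37, 1, 1)] else [])
 else (bif Nat.blt s 71 then (bif Nat.beq s 70 then [(40, 1, 1)] else [])
 else (bif Nat.beq s 71 then [(48, 1, 1)] else []))))))

def d4 (s : ℕ) : List (ℕ × ℕ × ℕ) :=
 (bif Nat.blt s 57 then (bif Nat.blt s 43 then (bif Nat.blt s 33 then (bif Nat.blt s 30 then (bif Nat.beq s 22 then [(0, 1, 1)] else [])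
 else (bif Nat.beq s 30 then [(1, 1, 1)] else []))
 else (bif Nat.blt s 35 then (bif Nat.beq s 33 then [(2, 1, 1)] else [])
 else (bif Nat.blt s 42 then (bif Nat.beq s 35 then [(3, 1, 1)] else [])
 else (bif Nat.beq s 42 then [(7, 1, 1)] else []))))
 else (bif Nat.blt s 50 then (bif Nat.blt s 44 then (bif Nat.beq s 43 then [(9, 1, 1)] else [])
 else (bif Nat.beq s 44 then [(10, 1, 1)] else []))
 else (bif Nat.blt s 51 then (bif Nat.beq s 50 then [(12, 1, 1)] else [])
 else (bif Nat.blt s 53 then (bif Nat.beq s 51 then [(13, 1, 1)] else [])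
 else (bif Nat.beq s 53 then [(14, 1, 1)] else [])))))
 else (bif Nat.blt s 64 then (bif Nat.blt s 59 then (bif Nat.blt s 58 then (bif Nat.beq s 57 then [(18, 1, 1)] else [])
 else (bif Nat.beq s 58 then [(20, 1, 1)] else []))
 else (bif Nat.blt s 61 then (bif Nat.beq s 59 then [(21, 1, 1)] else [])
 else (bif Nat.blt s 62 then (bif Nat.beq s 61 then [(27, 1, 1)] else [])
 else (bif Nat.beq s 62 then [(28, 1, 1)] else []))))
 else (bif Nat.blt s 69 then (bif Nat.blt s 68 then (bif Nat.beq s 64 then [(29, 1, 1)] else [])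
 else (bif Nat.beq s 68 then [(36, 1, 1)] else []))
 else (bif Nat.blt s 70 then (bif Nat.beq s 69 then [(38, 1, 1)] else [])
 else (bif Nat.blt s 71 then (bif Nat.beq s 70 then [(41, 1, 1)] else [])
 else (bif Nat.beq s 71 then [(49, 1, 1)] else []))))))

def d5 (s : ℕ) : List (ℕ × ℕ × ℕ) :=
 (bif Nat.blt s 56 then (bif Nat.blt s 40 then (bif Nat.blt s 29 then (bif Nat.blt s 28 then (bif Nat.beq s 21 then [(0, 1, 1)] else [])
 else (bif Nat.beq s 28 then [(1, 1, 1)] else []))
 else (bif Nat.blt s 37 then (bif Nat.beq s 29 then [(2, 1, 1)] else [])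
 else (bif Nat.blt s 38 then (bif Nat.beq s 37 then [(6, 1, 1)] else [])
 else (bif Nat.beq s 38 then [(7, 1, 1)] else []))))
 else (bif Nat.blt s 48 then (bif Nat.blt s 41 then (bif Nat.beq s 40 then [(8, 1, 1)] else [])
 else (bif Nat.beq s 41 then [(9, 1, 1)] else []))
 else (bif Nat.blt s 49 then (bif Nat.beq s 48 then [(11, 1, 1)] else [])
 else (bif Nat.blt s 55 then (bif Nat.beq s 49 then [(12, 1, 1)] else [])
 else (bif Nat.beq s 55 then [(15, 1, 1)] else [])))))
 else (bif Nat.blt s 64 then (bif Nat.blt s 60 then (bif Nat.blt s 59 then (bif Nat.beq s 56 then [(16, 1, 1)] else [])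
 else (bif Nat.beq s 59 then [(22, 1, 1)] else []))
 else (bif Nat.blt s 62 then (bif Nat.beq s 60 then [(23, 1, 1)] else [])
 else (bif Nat.blt s 63 then (bif Nat.beq s 62 then [(30, 1, 1)] else [])
 else (bif Nat.beq s 63 then [(31, 1, 1)] else []))))
 else (bif Nat.blt s 69 then (bif Nat.blt s 65 then (bif Nat.beq s 64 then [(33, 1, 1)] else [])
 else (bif Nat.beq s 65 then [(34, 1, 1)] else []))
 else (bif Nat.blt s 70 then (bif Nat.beq s 69 then [(42, 1, 1)] else [])
 else (bif Nat.blt s 71 then (bif Nat.beq s 70 then [(43, 1, 1)] else [])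
 else (bif Nat.beq s 71 then [(50, 1, 1)] else []))))))

def d6 (s : ℕ) : List (ℕ × ℕ × ℕ) :=
 (bif Nat.blt s 56 then (bif Nat.blt s 39 then (bif Nat.blt s 29 then (bif Nat.blt s 27 then (bif Nat.beq s 20 then [(0, 1, 1)] else [])
 else (bif Nat.beq s 27 then [(1, 1, 1)] else []))
 else (bif Nat.blt s 34 then (bif Nat.beq s 29 then [(3, 1, 1)] else [])
 else (bif Nat.blt s 36 then (bif Nat.beq s 34 then [(5, 1, 1)] else [])
 else (bif Nat.beq s 36 then [(7, 1, 1)] else []))))
 else (bif Nat.blt s 47 then (bif Nat.blt s 41 then (bif Nat.beq s 39 then [(8, 1, 1)] else [])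
 else (bif Nat.beq s 41 then [(10, 1, 1)] else []))
 else (bif Nat.blt s 49 then (bif Nat.beq s 47 then [(11, 1, 1)] else [])
 else (bif Nat.blt s 54 then (bif Nat.beq s 49 then [(13, 1, 1)] else [])
 else (bif Nat.beq s 54 then [(15, 1, 1)] else [])))))
 else (bif Nat.blt s 64 then (bif Nat.blt s 60 then (bif Nat.blt s 58 then (bif Nat.beq s 56 then [(17, 1, 1)] else [])
 else (bif Nat.beq s 58 then [(22, 1, 1)] else []))
 else (bif Nat.blt s 61 then (bif Nat.beq s 60 then [(24, 1, 1)] else [])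
 else (bif Nat.blt s 63 then (bif Nat.beq s 61 then [(30, 1, 1)] else [])
 else (bif Nat.beq s 63 then [(32, 1, 1)] else []))))
 else (bif Nat.blt s 68 then (bif Nat.blt s 66 then (bif Nat.beq s 64 then [(35, 1, 1)] else [])
 else (bif Nat.beq s 66 then [(37, 1, 1)] else []))
 else (bif Nat.blt s 70 then (bif Nat.beq s 68 then [(42, 1, 1)] else [])
 else (bif Nat.blt s 71 then (bif Nat.beq s 70 then [(44, 1, 1)] else [])
 else (bif Nat.beq s 71 then [(51, 1, 1)] else []))))))

def d7 (s : ℕ) : List (ℕ × ℕ × ℕ) :=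
 (bif Nat.blt s 56 then (bif Nat.blt s 39 then (bif Nat.blt s 29 then (bif Nat.blt s 26 then (bif Nat.beq s 19 then [(0, 1, 1)] else [])
 else (bif Nat.beq s 26 then [(1, 1, 1)] else []))
 else (bif Nat.blt s 33 then (bif Nat.beq s 29 then [(4, 1, 1)] else [])
 else (bif Nat.blt s 35 then (bif Nat.beq s 33 then [(5, 1, 1)] else [])
 else (bif Nat.beq s 35 then [(6, 1, 1)] else []))))
 else (bif Nat.blt s 47 then (bif Nat.blt s 40 then (bif Nat.beq s 39 then [(9, 1, 1)] else [])
 else (bif Nat.beq s 40 then [(10, 1, 1)] else []))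
 else (bif Nat.blt s 48 then (bif Nat.beq s 47 then [(12, 1, 1)] else [])
 else (bif Nat.blt s 53 then (bif Nat.beq s 48 then [(13, 1, 1)] else [])
 else (bif Nat.beq s 53 then [(15, 1, 1)] else [])))))
 else (bif Nat.blt s 65 then (bif Nat.blt s 59 then (bif Nat.blt s 58 then (bif Nat.beq s 56 then [(18, 1, 1)] else [])
 else (bif Nat.beq s 58 then [(23, 1, 1)] else []))
 else (bif Nat.blt s 61 then (bif Nat.beq s 59 then [(24, 1, 1)] else [])
 else (bif Nat.blt s 62 then (bif Nat.beq s 61 then [(31, 1, 1)] else [])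
 else (bif Nat.beq s 62 then [(32, 1, 1)] else []))))
 else (bif Nat.blt s 67 then (bif Nat.blt s 66 then (bif Nat.beq s 65 then [(36, 1, 1)] else [])
 else (bif Nat.beq s 66 then [(38, 1, 1)] else []))
 else (bif Nat.blt s 70 then (bif Nat.beq s 67 then [(42, 1, 1)] else [])
 else (bif Nat.blt s 71 then (bif Nat.beq s 70 then [(45, 1, 1)] else [])
 else (bif Nat.beq s 71 then [(52, 1, 1)] else []))))))

def d8 (s : ℕ) : List (ℕ × ℕ × ℕ) :=
 (bif Nat.blt s 56 then (bif Nat.blt s 36 then (bif Nat.blt s 28 then (bif Nat.blt s 27 then (bif Nat.beq s 18 then [(0, 1, 1)] else [])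
 else (bif Nat.beq s 27 then [(2, 1, 1)] else []))
 else (bif Nat.blt s 31 then (bif Nat.beq s 28 then [(3, 1, 1)] else [])
 else (bif Nat.blt s 32 then (bif Nat.beq s 31 then [(5, 1, 1)] else [])
 else (bif Nat.beq s 32 then [(6, 1, 1)] else []))))
 else (bif Nat.blt s 46 then (bif Nat.blt s 38 then (bif Nat.beq s 36 then [(9, 1, 1)] else [])
 else (bif Nat.beq s 38 then [(10, 1, 1)] else []))
 else (bif Nat.blt s 49 then (bif Nat.beq s 46 then [(11, 1, 1)] else [])
 else (bif Nat.blt s 52 then (bif Nat.beq s 49 then [(14, 1, 1)] else [])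
 else (bif Nat.beq s 52 then [(15, 1, 1)] else [])))))
 else (bif Nat.blt s 65 then (bif Nat.blt s 60 then (bif Nat.blt s 57 then (bif Nat.beq s 56 then [(19, 1, 1)] else [])
 else (bif Nat.beq s 57 then [(22, 1, 1)] else []))
 else (bif Nat.blt s 61 then (bif Nat.beq s 60 then [(25, 1, 1)] else [])
 else (bif Nat.blt s 62 then (bif Nat.beq s 61 then [(33, 1, 1)] else [])
 else (bif Nat.beq s 62 then [(35, 1, 1)] else []))))
 else (bif Nat.blt s 68 then (bif Nat.blt s 66 then (bif Nat.beq s 65 then [(39, 1, 1)] else [])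
 else (bif Nat.beq s 66 then [(40, 1, 1)] else []))
 else (bif Nat.blt s 69 then (bif Nat.beq s 68 then [(43, 1, 1)] else [])
 else (bif Nat.blt s 71 then (bif Nat.beq s 69 then [(44, 1, 1)] else [])
 else (bif Nat.beq s 71 then [(53, 1, 1)] else []))))))

def d9 (s : ℕ) : List (ℕ × ℕ × ℕ) :=
 (bif Nat.blt s 56 then (bif Nat.blt s 35 then (bif Nat.blt s 28 then (bif Nat.blt s 26 then (bif Nat.beq s 17 then [(0, 1, 1)] else [])
 else (bif Nat.beq s 26 then [(2, 1, 1)] else []))
 else (bif Nat.blt s 30 then (bif Nat.beq s 28 then [(4, 1, 1)] else [])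
 else (bif Nat.blt s 32 then (bif Nat.beq s 30 then [(5, 1, 1)] else [])
 else (bif Nat.beq s 32 then [(7, 1, 1)] else []))))
 else (bif Nat.blt s 46 then (bif Nat.blt s 37 then (bif Nat.beq s 35 then [(8, 1, 1)] else [])
 else (bif Nat.beq s 37 then [(10, 1, 1)] else []))
 else (bif Nat.blt s 48 then (bif Nat.beq s 46 then [(12, 1, 1)] else [])
 else (bif Nat.blt s 51 then (bif Nat.beq s 48 then [(14, 1, 1)] else [])
 else (bif Nat.beq s 51 then [(15, 1, 1)] else [])))))
 else (bif Nat.blt s 64 then (bif Nat.blt s 59 then (bif Nat.blt s 57 then (bif Nat.beq s 56 then [(20, 1, 1)] else [])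
 else (bif Nat.beq s 57 then [(23, 1, 1)] else []))
 else (bif Nat.blt s 61 then (bif Nat.beq s 59 then [(25, 1, 1)] else [])
 else (bif Nat.blt s 63 then (bif Nat.beq s 61 then [(34, 1, 1)] else [])
 else (bif Nat.beq s 63 then [(36, 1, 1)] else []))))
 else (bif Nat.blt s 67 then (bif Nat.blt s 66 then (bif Nat.beq s 64 then [(39, 1, 1)] else [])
 else (bif Nat.beq s 66 then [(41, 1, 1)] else []))
 else (bif Nat.blt s 69 then (bif Nat.beq s 67 then [(43, 1, 1)] else [])
 else (bif Nat.blt s 71 then (bif Nat.beq s 69 then [(45, 1, 1)] else [])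
 else (bif Nat.beq s 71 then [(54, 1, 1)] else []))))))

def d10 (s : ℕ) : List (ℕ × ℕ × ℕ) :=
 (bif Nat.blt s 56 then (bif Nat.blt s 33 then (bif Nat.blt s 27 then (bif Nat.blt s 26 then (bif Nat.beq s 16 then [(0, 1, 1)] else [])
 else (bif Nat.beq s 26 then [(3, 1, 1)] else []))
 else (bif Nat.blt s 30 then (bif Nat.beq s 27 then [(4, 1, 1)] else [])
 else (bif Nat.blt s 31 then (bif Nat.beq s 30 then [(6, 1, 1)] else [])
 else (bif Nat.beq s 31 then [(7, 1, 1)] else []))))
 else (bif Nat.blt s 46 then (bif Nat.blt s 34 then (bif Nat.beq s 33 then [(8, 1, 1)] else [])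
 else (bif Nat.beq s 34 then [(9, 1, 1)] else []))
 else (bif Nat.blt s 47 then (bif Nat.beq s 46 then [(13, 1, 1)] else [])
 else (bif Nat.blt s 50 then (bif Nat.beq s 47 then [(14, 1, 1)] else [])
 else (bif Nat.beq s 50 then [(15, 1, 1)] else [])))))
 else (bif Nat.blt s 64 then (bif Nat.blt s 58 then (bif Nat.blt s 57 then (bif Nat.beq s 56 then [(21, 1, 1)] else [])
 else (bif Nat.beq s 57 then [(24, 1, 1)] else []))
 else (bif Nat.blt s 62 then (bif Nat.beq s 58 then [(25, 1, 1)] else [])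
 else (bif Nat.blt s 63 then (bif Nat.beq s 62 then [(37, 1, 1)] else [])
 else (bif Nat.beq s 63 then [(38, 1, 1)] else []))))
 else (bif Nat.blt s 67 then (bif Nat.blt s 65 then (bif Nat.beq s 64 then [(40, 1, 1)] else [])
 else (bif Nat.beq s 65 then [(41, 1, 1)] else []))
 else (bif Nat.blt s 68 then (bif Nat.beq s 67 then [(44, 1, 1)] else [])
 else (bif Nat.blt s 71 then (bif Nat.beq s 68 then [(45, 1, 1)] else [])
 else (bif Nat.beq s 71 then [(55, 1, 1)] else []))))))

def d11 (s : ℕ) : List (ℕ × ℕ × ℕ) :=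
 (bif Nat.blt s 56 then (bif Nat.blt s 25 then (bif Nat.blt s 21 then (bif Nat.blt s 20 then (bif Nat.beq s 18 then [(1, 1, 1)] else [])
 else (bif Nat.beq s 20 then [(2, 1, 1)] else []))
 else (bif Nat.blt s 23 then (bif Nat.beq s 21 then [(3, 1, 1)] else [])
 else (bif Nat.blt s 24 then (bif Nat.beq s 23 then [(5, 1, 1)] else [])
 else (bif Nat.beq s 24 then [(6, 1, 1)] else []))))
 else (bif Nat.blt s 38 then (bif Nat.blt s 36 then (bif Nat.beq s 25 then [(8, 1, 1)] else [])
 else (bif Nat.beq s 36 then [(12, 1, 1)] else []))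
 else (bif Nat.blt s 41 then (bif Nat.beq s 38 then [(13, 1, 1)] else [])
 else (bif Nat.blt s 45 then (bif Nat.beq s 41 then [(14, 1, 1)] else [])
 else (bif Nat.beq s 45 then [(15, 1, 1)] else [])))))
 else (bif Nat.blt s 65 then (bif Nat.blt s 58 then (bif Nat.blt s 57 then (bif Nat.beq s 56 then [(26, 1, 1)] else [])
 else (bif Nat.beq s 57 then [(30, 1, 1)] else []))
 else (bif Nat.blt s 59 then (bif Nat.beq s 58 then [(33, 1, 1)] else [])
 else (bif Nat.blt s 63 then (bif Nat.beq s 59 then [(35, 1, 1)] else [])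
 else (bif Nat.beq s 63 then [(46, 1, 1)] else []))))
 else (bif Nat.blt s 68 then (bif Nat.blt s 66 then (bif Nat.beq s 65 then [(47, 1, 1)] else [])
 else (bif Nat.beq s 66 then [(48, 1, 1)] else []))
 else (bif Nat.blt s 69 then (bif Nat.beq s 68 then [(50, 1, 1)] else [])
 else (bif Nat.blt s 70 then (bif Nat.beq s 69 then [(51, 1, 1)] else [])
 else (bif Nat.beq s 70 then [(53, 1, 1)] else []))))))

def d12 (s : ℕ) : List (ℕ × ℕ × ℕ) :=
 (bif Nat.blt s 56 then (bif Nat.blt s 25 then (bif Nat.blt s 21 then (bif Nat.blt s 19 then (bif Nat.beq s 17 then [(1, 1, 1)] else [])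
 else (bif Nat.beq s 19 then [(2, 1, 1)] else []))
 else (bif Nat.blt s 22 then (bif Nat.beq s 21 then [(4, 1, 1)] else [])
 else (bif Nat.blt s 24 then (bif Nat.beq s 22 then [(5, 1, 1)] else [])
 else (bif Nat.beq s 24 then [(7, 1, 1)] else []))))
 else (bif Nat.blt s 37 then (bif Nat.blt s 35 then (bif Nat.beq s 25 then [(9, 1, 1)] else [])
 else (bif Nat.beq s 35 then [(11, 1, 1)] else []))
 else (bif Nat.blt s 40 then (bif Nat.beq s 37 then [(13, 1, 1)] else [])
 else (bif Nat.blt s 44 then (bif Nat.beq s 40 then [(14, 1, 1)] else [])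
 else (bif Nat.beq s 44 then [(15, 1, 1)] else [])))))
 else (bif Nat.blt s 64 then (bif Nat.blt s 58 then (bif Nat.blt s 57 then (bif Nat.beq s 56 then [(27, 1, 1)] else [])
 else (bif Nat.beq s 57 then [(31, 1, 1)] else []))
 else (bif Nat.blt s 60 then (bif Nat.beq s 58 then [(34, 1, 1)] else [])
 else (bif Nat.blt s 62 then (bif Nat.beq s 60 then [(36, 1, 1)] else [])
 else (bif Nat.beq s 62 then [(46, 1, 1)] else []))))
 else (bif Nat.blt s 67 then (bif Nat.blt s 66 then (bif Nat.beq s 64 then [(47, 1, 1)] else [])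
 else (bif Nat.beq s 66 then [(49, 1, 1)] else []))
 else (bif Nat.blt s 69 then (bif Nat.beq s 67 then [(50, 1, 1)] else [])
 else (bif Nat.blt s 70 then (bif Nat.beq s 69 then [(52, 1, 1)] else [])
 else (bif Nat.beq s 70 then [(54, 1, 1)] else []))))))

def d13 (s : ℕ) : List (ℕ × ℕ × ℕ) :=
 (bif Nat.blt s 56 then (bif Nat.blt s 25 then (bif Nat.blt s 20 then (bif Nat.blt s 19 then (bif Nat.beq s 16 then [(1, 1, 1)] else [])
 else (bif Nat.beq s 19 then [(3, 1, 1)] else []))
 else (bif Nat.blt s 22 then (bif Nat.beq s 20 then [(4, 1, 1)] else [])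
 else (bif Nat.blt s 23 then (bif Nat.beq s 22 then [(6, 1, 1)] else [])
 else (bif Nat.beq s 23 then [(7, 1, 1)] else []))))
 else (bif Nat.blt s 34 then (bif Nat.blt s 33 then (bif Nat.beq s 25 then [(10, 1, 1)] else [])
 else (bif Nat.beq s 33 then [(11, 1, 1)] else []))
 else (bif Nat.blt s 39 then (bif Nat.beq s 34 then [(12, 1, 1)] else [])
 else (bif Nat.blt s 43 then (bif Nat.beq s 39 then [(14, 1, 1)] else [])
 else (bif Nat.beq s 43 then [(15, 1, 1)] else [])))))
 else (bif Nat.blt s 64 then (bif Nat.blt s 59 then (bif Nat.blt s 57 then (bif Nat.beq s 56 then [(28, 1, 1)] else [])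
 else (bif Nat.beq s 57 then [(32, 1, 1)] else []))
 else (bif Nat.blt s 60 then (bif Nat.beq s 59 then [(37, 1, 1)] else [])
 else (bif Nat.blt s 61 then (bif Nat.beq s 60 then [(38, 1, 1)] else [])
 else (bif Nat.beq s 61 then [(46, 1, 1)] else []))))
 else (bif Nat.blt s 67 then (bif Nat.blt s 65 then (bif Nat.beq s 64 then [(48, 1, 1)] else [])
 else (bif Nat.beq s 65 then [(49, 1, 1)] else []))
 else (bif Nat.blt s 68 then (bif Nat.beq s 67 then [(51, 1, 1)] else [])
 else (bif Nat.blt s 70 then (bif Nat.beq s 68 then [(52, 1, 1)] else [])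
 else (bif Nat.beq s 70 then [(55, 1, 1)] else []))))))

def d14 (s : ℕ) : List (ℕ × ℕ × ℕ) :=
 (bif Nat.blt s 56 then (bif Nat.blt s 24 then (bif Nat.blt s 18 then (bif Nat.blt s 17 then (bif Nat.beq s 16 then [(2, 1, 1)] else [])
 else (bif Nat.beq s 17 then [(3, 1, 1)] else []))
 else (bif Nat.blt s 22 then (bif Nat.beq s 18 then [(4, 1, 1)] else [])
 else (bif Nat.blt s 23 then (bif Nat.beq s 22 then [(8, 1, 1)] else [])
 else (bif Nat.beq s 23 then [(9, 1, 1)] else []))))
 else (bif Nat.blt s 31 then (bif Nat.blt s 30 then (bif Nat.beq s 24 then [(10, 1, 1)] else [])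
 else (bif Nat.beq s 30 then [(11, 1, 1)] else []))
 else (bif Nat.blt s 32 then (bif Nat.beq s 31 then [(12, 1, 1)] else [])
 else (bif Nat.blt s 42 then (bif Nat.beq s 32 then [(13, 1, 1)] else [])
 else (bif Nat.beq s 42 then [(15, 1, 1)] else [])))))
 else (bif Nat.blt s 62 then (bif Nat.blt s 59 then (bif Nat.blt s 58 then (bif Nat.beq s 56 then [(29, 1, 1)] else [])
 else (bif Nat.beq s 58 then [(39, 1, 1)] else []))
 else (bif Nat.blt s 60 then (bif Nat.beq s 59 then [(40, 1, 1)] else [])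
 else (bif Nat.blt s 61 then (bif Nat.beq s 60 then [(41, 1, 1)] else [])
 else (bif Nat.beq s 61 then [(47, 1, 1)] else []))))
 else (bif Nat.blt s 67 then (bif Nat.blt s 63 then (bif Nat.beq s 62 then [(48, 1, 1)] else [])
 else (bif Nat.beq s 63 then [(49, 1, 1)] else []))
 else (bif Nat.blt s 68 then (bif Nat.beq s 67 then [(53, 1, 1)] else [])
 else (bif Nat.blt s 69 then (bif Nat.beq s 68 then [(54, 1, 1)] else [])
 else (bif Nat.beq s 69 then [(55, 1, 1)] else []))))))

def d15 (s : ℕ) : List (ℕ × ℕ × ℕ) :=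
 (bif Nat.blt s 57 then (bif Nat.blt s 21 then (bif Nat.blt s 18 then (bif Nat.blt s 17 then (bif Nat.beq s 16 then [(5, 1, 1)] else [])
 else (bif Nat.beq s 17 then [(6, 1, 1)] else []))
 else (bif Nat.blt s 19 then (bif Nat.beq s 18 then [(7, 1, 1)] else [])
 else (bif Nat.blt s 20 then (bif Nat.beq s 19 then [(8, 1, 1)] else [])
 else (bif Nat.beq s 20 then [(9, 1, 1)] else []))))
 else (bif Nat.blt s 27 then (bif Nat.blt s 26 then (bif Nat.beq s 21 then [(10, 1, 1)] else [])
 else (bif Nat.beq s 26 then [(11, 1, 1)] else []))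
 else (bif Nat.blt s 28 then (bif Nat.beq s 27 then [(12, 1, 1)] else [])
 else (bif Nat.blt s 29 then (bif Nat.beq s 28 then [(13, 1, 1)] else [])
 else (bif Nat.beq s 29 then [(14, 1, 1)] else [])))))
 else (bif Nat.blt s 62 then (bif Nat.blt s 59 then (bif Nat.blt s 58 then (bif Nat.beq s 57 then [(42, 1, 1)] else [])
 else (bif Nat.beq s 58 then [(43, 1, 1)] else []))
 else (bif Nat.blt s 60 then (bif Nat.beq s 59 then [(44, 1, 1)] else [])
 else (bif Nat.blt s 61 then (bif Nat.beq s 60 then [(45, 1, 1)] else [])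
 else (bif Nat.beq s 61 then [(50, 1, 1)] else []))))
 else (bif Nat.blt s 64 then (bif Nat.blt s 63 then (bif Nat.beq s 62 then [(51, 1, 1)] else [])
 else (bif Nat.beq s 63 then [(52, 1, 1)] else []))
 else (bif Nat.blt s 65 then (bif Nat.beq s 64 then [(53, 1, 1)] else [])
 else (bif Nat.blt s 66 then (bif Nat.beq s 65 then [(54, 1, 1)] else [])
 else (bif Nat.beq s 66 then [(55, 1, 1)] else []))))))

def d16 (s : ℕ) : List (ℕ × ℕ × ℕ) :=
 (bif Nat.blt s 48 then (bif Nat.blt s 38 then (bif Nat.blt s 14 then (bif Nat.blt s 13 then (bif Nat.beq s 10 then [(0, 1, 1)] else [])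
 else (bif Nat.beq s 13 then [(1, 1, 1)] else []))
 else (bif Nat.blt s 15 then (bif Nat.beq s 14 then [(2, 1, 1)] else [])
 else (bif Nat.blt s 37 then (bif Nat.beq s 15 then [(5, 1, 1)] else [])
 else (bif Nat.beq s 37 then [(17, 1, 1)] else []))))
 else (bif Nat.blt s 41 then (bif Nat.blt s 40 then (bif Nat.beq s 38 then [(18, 1, 1)] else [])
 else (bif Nat.beq s 40 then [(19, 1, 1)] else []))
 else (bif Nat.blt s 44 then (bif Nat.beq s 41 then [(20, 1, 1)] else [])
 else (bif Nat.blt s 45 then (bif Nat.beq s 44 then [(22, 1, 1)] else [])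
 else (bif Nat.beq s 45 then [(23, 1, 1)] else [])))))
 else (bif Nat.blt s 54 then (bif Nat.blt s 51 then (bif Nat.blt s 49 then (bif Nat.beq s 48 then [(26, 1, 1)] else [])
 else (bif Nat.beq s 49 then [(27, 1, 1)] else []))
 else (bif Nat.blt s 52 then (bif Nat.beq s 51 then [(30, 1, 1)] else [])
 else (bif Nat.blt s 53 then (bif Nat.beq s 52 then [(31, 1, 1)] else [])
 else (bif Nat.beq s 53 then [(33, 1, 1)] else []))))
 else (bif Nat.blt s 69 then (bif Nat.blt s 66 then (bif Nat.beq s 54 then [(34, 1, 1)] else [])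
 else (bif Nat.beq s 66 then [(56, 1, 1)] else []))
 else (bif Nat.blt s 70 then (bif Nat.beq s 69 then [(57, 1, 1)] else [])
 else (bif Nat.blt s 71 then (bif Nat.beq s 70 then [(58, 1, 1)] else [])
 else (bif Nat.beq s 71 then [(61, 1, 1)] else []))))))

def d17 (s : ℕ) : List (ℕ × ℕ × ℕ) :=
 (bif Nat.blt s 47 then (bif Nat.blt s 36 then (bif Nat.blt s 14 then (bif Nat.blt s 12 then (bif Nat.beq s 9 then [(0, 1, 1)] else [])
 else (bif Nat.beq s 12 then [(1, 1, 1)] else []))
 else (bif Nat.blt s 15 then (bif Nat.beq s 14 then [(3, 1, 1)] else [])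
 else (bif Nat.blt s 34 then (bif Nat.beq s 15 then [(6, 1, 1)] else [])
 else (bif Nat.beq s 34 then [(16, 1, 1)] else []))))
 else (bif Nat.blt s 41 then (bif Nat.blt s 39 then (bif Nat.beq s 36 then [(18, 1, 1)] else [])
 else (bif Nat.beq s 39 then [(19, 1, 1)] else []))
 else (bif Nat.blt s 43 then (bif Nat.beq s 41 then [(21, 1, 1)] else [])
 else (bif Nat.blt s 45 then (bif Nat.beq s 43 then [(22, 1, 1)] else [])
 else (bif Nat.beq s 45 then [(24, 1, 1)] else [])))))
 else (bif Nat.blt s 55 then (bif Nat.blt s 50 then (bif Nat.blt s 49 then (bif Nat.beq s 47 then [(26, 1, 1)] else [])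
 else (bif Nat.beq s 49 then [(28, 1, 1)] else []))
 else (bif Nat.blt s 52 then (bif Nat.beq s 50 then [(30, 1, 1)] else [])
 else (bif Nat.blt s 53 then (bif Nat.beq s 52 then [(32, 1, 1)] else [])
 else (bif Nat.beq s 53 then [(35, 1, 1)] else []))))
 else (bif Nat.blt s 68 then (bif Nat.blt s 65 then (bif Nat.beq s 55 then [(37, 1, 1)] else [])
 else (bif Nat.beq s 65 then [(56, 1, 1)] else []))
 else (bif Nat.blt s 70 then (bif Nat.beq s 68 then [(57, 1, 1)] else [])
 else (bif Nat.blt s 71 then (bif Nat.beq s 70 then [(59, 1, 1)] else [])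
 else (bif Nat.beq s 71 then [(62, 1, 1)] else []))))))

def d18 (s : ℕ) : List (ℕ × ℕ × ℕ) :=
 (bif Nat.blt s 47 then (bif Nat.blt s 35 then (bif Nat.blt s 14 then (bif Nat.blt s 11 then (bif Nat.beq s 8 then [(0, 1, 1)] else [])
 else (bif Nat.beq s 11 then [(1, 1, 1)] else []))
 else (bif Nat.blt s 15 then (bif Nat.beq s 14 then [(4, 1, 1)] else [])
 else (bif Nat.blt s 33 then (bif Nat.beq s 15 then [(7, 1, 1)] else [])
 else (bif Nat.beq s 33 then [(16, 1, 1)] else []))))
 else (bif Nat.blt s 40 then (bif Nat.blt s 39 then (bif Nat.beq s 35 then [(17, 1, 1)] else [])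
 else (bif Nat.beq s 39 then [(20, 1, 1)] else []))
 else (bif Nat.blt s 43 then (bif Nat.beq s 40 then [(21, 1, 1)] else [])
 else (bif Nat.blt s 44 then (bif Nat.beq s 43 then [(23, 1, 1)] else [])
 else (bif Nat.beq s 44 then [(24, 1, 1)] else [])))))
 else (bif Nat.blt s 55 then (bif Nat.blt s 50 then (bif Nat.blt s 48 then (bif Nat.beq s 47 then [(27, 1, 1)] else [])
 else (bif Nat.beq s 48 then [(28, 1, 1)] else []))
 else (bif Nat.blt s 51 then (bif Nat.beq s 50 then [(31, 1, 1)] else [])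
 else (bif Nat.blt s 54 then (bif Nat.beq s 51 then [(32, 1, 1)] else [])
 else (bif Nat.beq s 54 then [(36, 1, 1)] else []))))
 else (bif Nat.blt s 67 then (bif Nat.blt s 64 then (bif Nat.beq s 55 then [(38, 1, 1)] else [])
 else (bif Nat.beq s 64 then [(56, 1, 1)] else []))
 else (bif Nat.blt s 70 then (bif Nat.beq s 67 then [(57, 1, 1)] else [])
 else (bif Nat.blt s 71 then (bif Nat.beq s 70 then [(60, 1, 1)] else [])
 else (bif Nat.beq s 71 then [(63, 1, 1)] else []))))))

def d19 (s : ℕ) : List (ℕ × ℕ × ℕ) :=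
 (bif Nat.blt s 46 then (bif Nat.blt s 32 then (bif Nat.blt s 13 then (bif Nat.blt s 12 then (bif Nat.beq s 7 then [(0, 1, 1)] else [])
 else (bif Nat.beq s 12 then [(2, 1, 1)] else []))
 else (bif Nat.blt s 15 then (bif Nat.beq s 13 then [(3, 1, 1)] else [])
 else (bif Nat.blt s 31 then (bif Nat.beq s 15 then [(8, 1, 1)] else [])
 else (bif Nat.beq s 31 then [(16, 1, 1)] else []))))
 else (bif Nat.blt s 38 then (bif Nat.blt s 36 then (bif Nat.beq s 32 then [(17, 1, 1)] else [])
 else (bif Nat.beq s 36 then [(20, 1, 1)] else []))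
 else (bif Nat.blt s 42 then (bif Nat.beq s 38 then [(21, 1, 1)] else [])
 else (bif Nat.blt s 45 then (bif Nat.beq s 42 then [(22, 1, 1)] else [])
 else (bif Nat.beq s 45 then [(25, 1, 1)] else [])))))
 else (bif Nat.blt s 55 then (bif Nat.blt s 50 then (bif Nat.blt s 49 then (bif Nat.beq s 46 then [(26, 1, 1)] else [])
 else (bif Nat.beq s 49 then [(29, 1, 1)] else []))
 else (bif Nat.blt s 51 then (bif Nat.beq s 50 then [(33, 1, 1)] else [])
 else (bif Nat.blt s 54 then (bif Nat.beq s 51 then [(35, 1, 1)] else [])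
 else (bif Nat.beq s 54 then [(39, 1, 1)] else []))))
 else (bif Nat.blt s 68 then (bif Nat.blt s 63 then (bif Nat.beq s 55 then [(40, 1, 1)] else [])
 else (bif Nat.beq s 63 then [(56, 1, 1)] else []))
 else (bif Nat.blt s 69 then (bif Nat.beq s 68 then [(58, 1, 1)] else [])
 else (bif Nat.blt s 71 then (bif Nat.beq s 69 then [(59, 1, 1)] else [])
 else (bif Nat.beq s 71 then [(64, 1, 1)] else []))))))

def d20 (s : ℕ) : List (ℕ × ℕ × ℕ) :=
 (bif Nat.blt s 46 then (bif Nat.blt s 32 then (bif Nat.blt s 13 then (bif Nat.blt s 11 then (bif Nat.beq s 6 then [(0, 1, 1)] else [])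
 else (bif Nat.beq s 11 then [(2, 1, 1)] else []))
 else (bif Nat.blt s 15 then (bif Nat.beq s 13 then [(4, 1, 1)] else [])
 else (bif Nat.blt s 30 then (bif Nat.beq s 15 then [(9, 1, 1)] else [])
 else (bif Nat.beq s 30 then [(16, 1, 1)] else []))))
 else (bif Nat.blt s 37 then (bif Nat.blt s 35 then (bif Nat.beq s 32 then [(18, 1, 1)] else [])
 else (bif Nat.beq s 35 then [(19, 1, 1)] else []))
 else (bif Nat.blt s 42 then (bif Nat.beq s 37 then [(21, 1, 1)] else [])
 else (bif Nat.blt s 44 then (bif Nat.beq s 42 then [(23, 1, 1)] else [])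
 else (bif Nat.beq s 44 then [(25, 1, 1)] else [])))))
 else (bif Nat.blt s 55 then (bif Nat.blt s 50 then (bif Nat.blt s 48 then (bif Nat.beq s 46 then [(27, 1, 1)] else [])
 else (bif Nat.beq s 48 then [(29, 1, 1)] else []))
 else (bif Nat.blt s 52 then (bif Nat.beq s 50 then [(34, 1, 1)] else [])
 else (bif Nat.blt s 53 then (bif Nat.beq s 52 then [(36, 1, 1)] else [])
 else (bif Nat.beq s 53 then [(39, 1, 1)] else []))))
 else (bif Nat.blt s 67 then (bif Nat.blt s 62 then (bif Nat.beq s 55 then [(41, 1, 1)] else [])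
 else (bif Nat.beq s 62 then [(56, 1, 1)] else []))
 else (bif Nat.blt s 69 then (bif Nat.beq s 67 then [(58, 1, 1)] else [])
 else (bif Nat.blt s 71 then (bif Nat.beq s 69 then [(60, 1, 1)] else [])
 else (bif Nat.beq s 71 then [(65, 1, 1)] else []))))))

def d21 (s : ℕ) : List (ℕ × ℕ × ℕ) :=
 (bif Nat.blt s 46 then (bif Nat.blt s 31 then (bif Nat.blt s 12 then (bif Nat.blt s 11 then (bif Nat.beq s 5 then [(0, 1, 1)] else [])
 else (bif Nat.beq s 11 then [(3, 1, 1)] else []))
 else (bif Nat.blt s 15 then (bif Nat.beq s 12 then [(4, 1, 1)] else [])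
 else (bif Nat.blt s 30 then (bif Nat.beq s 15 then [(10, 1, 1)] else [])
 else (bif Nat.beq s 30 then [(17, 1, 1)] else []))))
 else (bif Nat.blt s 34 then (bif Nat.blt s 33 then (bif Nat.beq s 31 then [(18, 1, 1)] else [])
 else (bif Nat.beq s 33 then [(19, 1, 1)] else []))
 else (bif Nat.blt s 42 then (bif Nat.beq s 34 then [(20, 1, 1)] else [])
 else (bif Nat.blt s 43 then (bif Nat.beq s 42 then [(24, 1, 1)] else [])
 else (bif Nat.beq s 43 then [(25, 1, 1)] else [])))))
 else (bif Nat.blt s 54 then (bif Nat.blt s 51 then (bif Nat.blt s 47 then (bif Nat.beq s 46 then [(28, 1, 1)] else [])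
 else (bif Nat.beq s 47 then [(29, 1, 1)] else []))
 else (bif Nat.blt s 52 then (bif Nat.beq s 51 then [(37, 1, 1)] else [])
 else (bif Nat.blt s 53 then (bif Nat.beq s 52 then [(38, 1, 1)] else [])
 else (bif Nat.beq s 53 then [(40, 1, 1)] else []))))
 else (bif Nat.blt s 67 then (bif Nat.blt s 61 then (bif Nat.beq s 54 then [(41, 1, 1)] else [])
 else (bif Nat.beq s 61 then [(56, 1, 1)] else []))
 else (bif Nat.blt s 68 then (bif Nat.beq s 67 then [(59, 1, 1)] else [])
 else (bif Nat.blt s 71 then (bif Nat.beq s 68 then [(60, 1, 1)] else [])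
 else (bif Nat.beq s 71 then [(66, 1, 1)] else []))))))

def d22 (s : ℕ) : List (ℕ × ℕ × ℕ) :=
 (bif Nat.blt s 46 then (bif Nat.blt s 28 then (bif Nat.blt s 13 then (bif Nat.blt s 12 then (bif Nat.beq s 4 then [(0, 1, 1)] else [])
 else (bif Nat.beq s 12 then [(5, 1, 1)] else []))
 else (bif Nat.blt s 14 then (bif Nat.beq s 13 then [(6, 1, 1)] else [])
 else (bif Nat.blt s 27 then (bif Nat.beq s 14 then [(8, 1, 1)] else [])
 else (bif Nat.beq s 27 then [(16, 1, 1)] else []))))
 else (bif Nat.blt s 36 then (bif Nat.blt s 29 then (bif Nat.beq s 28 then [(17, 1, 1)] else [])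
 else (bif Nat.beq s 29 then [(19, 1, 1)] else []))
 else (bif Nat.blt s 38 then (bif Nat.beq s 36 then [(23, 1, 1)] else [])
 else (bif Nat.blt s 41 then (bif Nat.beq s 38 then [(24, 1, 1)] else [])
 else (bif Nat.beq s 41 then [(25, 1, 1)] else [])))))
 else (bif Nat.blt s 55 then (bif Nat.blt s 48 then (bif Nat.blt s 47 then (bif Nat.beq s 46 then [(30, 1, 1)] else [])
 else (bif Nat.beq s 47 then [(33, 1, 1)] else []))
 else (bif Nat.blt s 52 then (bif Nat.beq s 48 then [(35, 1, 1)] else [])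
 else (bif Nat.blt s 54 then (bif Nat.beq s 52 then [(42, 1, 1)] else [])
 else (bif Nat.beq s 54 then [(43, 1, 1)] else []))))
 else (bif Nat.blt s 65 then (bif Nat.blt s 63 then (bif Nat.beq s 55 then [(44, 1, 1)] else [])
 else (bif Nat.beq s 63 then [(57, 1, 1)] else []))
 else (bif Nat.blt s 66 then (bif Nat.beq s 65 then [(58, 1, 1)] else [])
 else (bif Nat.blt s 71 then (bif Nat.beq s 66 then [(59, 1, 1)] else [])
 else (bif Nat.beq s 71 then [(67, 1, 1)] else []))))))

def d23 (s : ℕ) : List (ℕ × ℕ × ℕ) :=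
 (bif Nat.blt s 46 then (bif Nat.blt s 28 then (bif Nat.blt s 13 then (bif Nat.blt s 11 then (bif Nat.beq s 3 then [(0, 1, 1)] else [])
 else (bif Nat.beq s 11 then [(5, 1, 1)] else []))
 else (bif Nat.blt s 14 then (bif Nat.beq s 13 then [(7, 1, 1)] else [])
 else (bif Nat.blt s 26 then (bif Nat.beq s 14 then [(9, 1, 1)] else [])
 else (bif Nat.beq s 26 then [(16, 1, 1)] else []))))
 else (bif Nat.blt s 35 then (bif Nat.blt s 29 then (bif Nat.beq s 28 then [(18, 1, 1)] else [])
 else (bif Nat.beq s 29 then [(20, 1, 1)] else []))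
 else (bif Nat.blt s 37 then (bif Nat.beq s 35 then [(22, 1, 1)] else [])
 else (bif Nat.blt s 40 then (bif Nat.beq s 37 then [(24, 1, 1)] else [])
 else (bif Nat.beq s 40 then [(25, 1, 1)] else [])))))
 else (bif Nat.blt s 55 then (bif Nat.blt s 49 then (bif Nat.blt s 47 then (bif Nat.beq s 46 then [(31, 1, 1)] else [])
 else (bif Nat.beq s 47 then [(34, 1, 1)] else []))
 else (bif Nat.blt s 51 then (bif Nat.beq s 49 then [(36, 1, 1)] else [])
 else (bif Nat.blt s 53 then (bif Nat.beq s 51 then [(42, 1, 1)] else [])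
 else (bif Nat.beq s 53 then [(43, 1, 1)] else []))))
 else (bif Nat.blt s 64 then (bif Nat.blt s 62 then (bif Nat.beq s 55 then [(45, 1, 1)] else [])
 else (bif Nat.beq s 62 then [(57, 1, 1)] else []))
 else (bif Nat.blt s 66 then (bif Nat.beq s 64 then [(58, 1, 1)] else [])
 else (bif Nat.blt s 71 then (bif Nat.beq s 66 then [(60, 1, 1)] else [])
 else (bif Nat.beq s 71 then [(68, 1, 1)] else []))))))

def d24 (s : ℕ) : List (ℕ × ℕ × ℕ) :=
 (bif Nat.blt s 46 then (bif Nat.blt s 27 then (bif Nat.blt s 12 then (bif Nat.blt s 11 then (bif Nat.beq s 2 then [(0, 1, 1)] else [])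
 else (bif Nat.beq s 11 then [(6, 1, 1)] else []))
 else (bif Nat.blt s 14 then (bif Nat.beq s 12 then [(7, 1, 1)] else [])
 else (bif Nat.blt s 26 then (bif Nat.beq s 14 then [(10, 1, 1)] else [])
 else (bif Nat.beq s 26 then [(17, 1, 1)] else []))))
 else (bif Nat.blt s 33 then (bif Nat.blt s 29 then (bif Nat.beq s 27 then [(18, 1, 1)] else [])
 else (bif Nat.beq s 29 then [(21, 1, 1)] else []))
 else (bif Nat.blt s 34 then (bif Nat.beq s 33 then [(22, 1, 1)] else [])
 else (bif Nat.blt s 39 then (bif Nat.beq s 34 then [(23, 1, 1)] else [])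
 else (bif Nat.beq s 39 then [(25, 1, 1)] else [])))))
 else (bif Nat.blt s 54 then (bif Nat.blt s 49 then (bif Nat.blt s 48 then (bif Nat.beq s 46 then [(32, 1, 1)] else [])
 else (bif Nat.beq s 48 then [(37, 1, 1)] else []))
 else (bif Nat.blt s 50 then (bif Nat.beq s 49 then [(38, 1, 1)] else [])
 else (bif Nat.blt s 53 then (bif Nat.beq s 50 then [(42, 1, 1)] else [])
 else (bif Nat.beq s 53 then [(44, 1, 1)] else []))))
 else (bif Nat.blt s 64 then (bif Nat.blt s 61 then (bif Nat.beq s 54 then [(45, 1, 1)] else [])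
 else (bif Nat.beq s 61 then [(57, 1, 1)] else []))
 else (bif Nat.blt s 65 then (bif Nat.beq s 64 then [(59, 1, 1)] else [])
 else (bif Nat.blt s 71 then (bif Nat.beq s 65 then [(60, 1, 1)] else [])
 else (bif Nat.beq s 71 then [(69, 1, 1)] else []))))))

def d25 (s : ℕ) : List (ℕ × ℕ × ℕ) :=
 (bif Nat.blt s 47 then (bif Nat.blt s 27 then (bif Nat.blt s 12 then (bif Nat.blt s 11 then (bif Nat.beq s 1 then [(0, 1, 1)] else [])
 else (bif Nat.beq s 11 then [(8, 1, 1)] else []))
 else (bif Nat.blt s 13 then (bif Nat.beq s 12 then [(9, 1, 1)] else [])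
 else (bif Nat.blt s 26 then (bif Nat.beq s 13 then [(10, 1, 1)] else [])
 else (bif Nat.beq s 26 then [(19, 1, 1)] else []))))
 else (bif Nat.blt s 30 then (bif Nat.blt s 28 then (bif Nat.beq s 27 then [(20, 1, 1)] else [])
 else (bif Nat.beq s 28 then [(21, 1, 1)] else []))
 else (bif Nat.blt s 31 then (bif Nat.beq s 30 then [(22, 1, 1)] else [])
 else (bif Nat.blt s 32 then (bif Nat.beq s 31 then [(23, 1, 1)] else [])
 else (bif Nat.beq s 32 then [(24, 1, 1)] else [])))))
 else (bif Nat.blt s 52 then (bif Nat.blt s 49 then (bif Nat.blt s 48 then (bif Nat.beq s 47 then [(39, 1, 1)] else [])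
 else (bif Nat.beq s 48 then [(40, 1, 1)] else []))
 else (bif Nat.blt s 50 then (bif Nat.beq s 49 then [(41, 1, 1)] else [])
 else (bif Nat.blt s 51 then (bif Nat.beq s 50 then [(43, 1, 1)] else [])
 else (bif Nat.beq s 51 then [(44, 1, 1)] else []))))
 else (bif Nat.blt s 62 then (bif Nat.blt s 61 then (bif Nat.beq s 52 then [(45, 1, 1)] else [])
 else (bif Nat.beq s 61 then [(58, 1, 1)] else []))
 else (bif Nat.blt s 63 then (bif Nat.beq s 62 then [(59, 1, 1)] else [])
 else (bif Nat.blt s 71 then (bif Nat.beq s 63 then [(60, 1, 1)] else [])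
 else (bif Nat.beq s 71 then [(70, 1, 1)] else []))))))

def d26 (s : ℕ) : List (ℕ × ℕ × ℕ) :=
 (bif Nat.blt s 42 then (bif Nat.blt s 24 then (bif Nat.blt s 10 then (bif Nat.blt s 9 then (bif Nat.beq s 7 then [(1, 1, 1)] else [])
 else (bif Nat.beq s 9 then [(2, 1, 1)] else []))
 else (bif Nat.blt s 15 then (bif Nat.beq s 10 then [(3, 1, 1)] else [])
 else (bif Nat.blt s 23 then (bif Nat.beq s 15 then [(11, 1, 1)] else [])
 else (bif Nat.beq s 23 then [(16, 1, 1)] else []))))
 else (bif Nat.blt s 36 then (bif Nat.blt s 25 then (bif Nat.beq s 24 then [(17, 1, 1)] else [])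
 else (bif Nat.beq s 25 then [(19, 1, 1)] else []))
 else (bif Nat.blt s 38 then (bif Nat.beq s 36 then [(27, 1, 1)] else [])
 else (bif Nat.blt s 41 then (bif Nat.beq s 38 then [(28, 1, 1)] else [])
 else (bif Nat.beq s 41 then [(29, 1, 1)] else [])))))
 else (bif Nat.blt s 55 then (bif Nat.blt s 44 then (bif Nat.blt s 43 then (bif Nat.beq s 42 then [(30, 1, 1)] else [])
 else (bif Nat.beq s 43 then [(33, 1, 1)] else []))
 else (bif Nat.blt s 52 then (bif Nat.beq s 44 then [(35, 1, 1)] else [])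
 else (bif Nat.blt s 54 then (bif Nat.beq s 52 then [(46, 1, 1)] else [])
 else (bif Nat.beq s 54 then [(47, 1, 1)] else []))))
 else (bif Nat.blt s 68 then (bif Nat.blt s 60 then (bif Nat.beq s 55 then [(48, 1, 1)] else [])
 else (bif Nat.beq s 60 then [(56, 1, 1)] else []))
 else (bif Nat.blt s 69 then (bif Nat.beq s 68 then [(61, 1, 1)] else [])
 else (bif Nat.blt s 70 then (bif Nat.beq s 69 then [(62, 1, 1)] else [])
 else (bif Nat.beq s 70 then [(64, 1, 1)] else []))))))

def d27 (s : ℕ) : List (ℕ × ℕ × ℕ) :=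
 (bif Nat.blt s 42 then (bif Nat.blt s 24 then (bif Nat.blt s 10 then (bif Nat.blt s 8 then (bif Nat.beq s 6 then [(1, 1, 1)] else [])
 else (bif Nat.beq s 8 then [(2, 1, 1)] else []))
 else (bif Nat.blt s 15 then (bif Nat.beq s 10 then [(4, 1, 1)] else [])
 else (bif Nat.blt s 22 then (bif Nat.beq s 15 then [(12, 1, 1)] else [])
 else (bif Nat.beq s 22 then [(16, 1, 1)] else []))))
 else (bif Nat.blt s 35 then (bif Nat.blt s 25 then (bif Nat.beq s 24 then [(18, 1, 1)] else [])
 else (bif Nat.beq s 25 then [(20, 1, 1)] else []))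
 else (bif Nat.blt s 37 then (bif Nat.beq s 35 then [(26, 1, 1)] else [])
 else (bif Nat.blt s 40 then (bif Nat.beq s 37 then [(28, 1, 1)] else [])
 else (bif Nat.beq s 40 then [(29, 1, 1)] else [])))))
 else (bif Nat.blt s 55 then (bif Nat.blt s 45 then (bif Nat.blt s 43 then (bif Nat.beq s 42 then [(31, 1, 1)] else [])
 else (bif Nat.beq s 43 then [(34, 1, 1)] else []))
 else (bif Nat.blt s 51 then (bif Nat.beq s 45 then [(36, 1, 1)] else [])
 else (bif Nat.blt s 53 then (bif Nat.beq s 51 then [(46, 1, 1)] else [])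
 else (bif Nat.beq s 53 then [(47, 1, 1)] else []))))
 else (bif Nat.blt s 67 then (bif Nat.blt s 59 then (bif Nat.beq s 55 then [(49, 1, 1)] else [])
 else (bif Nat.beq s 59 then [(56, 1, 1)] else []))
 else (bif Nat.blt s 69 then (bif Nat.beq s 67 then [(61, 1, 1)] else [])
 else (bif Nat.blt s 70 then (bif Nat.beq s 69 then [(63, 1, 1)] else [])
 else (bif Nat.beq s 70 then [(65, 1, 1)] else []))))))

def d28 (s : ℕ) : List (ℕ × ℕ × ℕ) :=
 (bif Nat.blt s 42 then (bif Nat.blt s 23 then (bif Nat.blt s 9 then (bif Nat.blt s 8 then (bif Nat.beq s 5 then [(1, 1, 1)] else [])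
 else (bif Nat.beq s 8 then [(3, 1, 1)] else []))
 else (bif Nat.blt s 15 then (bif Nat.beq s 9 then [(4, 1, 1)] else [])
 else (bif Nat.blt s 22 then (bif Nat.beq s 15 then [(13, 1, 1)] else [])
 else (bif Nat.beq s 22 then [(17, 1, 1)] else []))))
 else (bif Nat.blt s 33 then (bif Nat.blt s 25 then (bif Nat.beq s 23 then [(18, 1, 1)] else [])
 else (bif Nat.beq s 25 then [(21, 1, 1)] else []))
 else (bif Nat.blt s 34 then (bif Nat.beq s 33 then [(26, 1, 1)] else [])
 else (bif Nat.blt s 39 then (bif Nat.beq s 34 then [(27, 1, 1)] else [])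
 else (bif Nat.beq s 39 then [(29, 1, 1)] else [])))))
 else (bif Nat.blt s 54 then (bif Nat.blt s 45 then (bif Nat.blt s 44 then (bif Nat.beq s 42 then [(32, 1, 1)] else [])
 else (bif Nat.beq s 44 then [(37, 1, 1)] else []))
 else (bif Nat.blt s 50 then (bif Nat.beq s 45 then [(38, 1, 1)] else [])
 else (bif Nat.blt s 53 then (bif Nat.beq s 50 then [(46, 1, 1)] else [])
 else (bif Nat.beq s 53 then [(48, 1, 1)] else []))))
 else (bif Nat.blt s 67 then (bif Nat.blt s 58 then (bif Nat.beq s 54 then [(49, 1, 1)] else [])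
 else (bif Nat.beq s 58 then [(56, 1, 1)] else []))
 else (bif Nat.blt s 68 then (bif Nat.beq s 67 then [(62, 1, 1)] else [])
 else (bif Nat.blt s 70 then (bif Nat.beq s 68 then [(63, 1, 1)] else [])
 else (bif Nat.beq s 70 then [(66, 1, 1)] else []))))))

def d29 (s : ℕ) : List (ℕ × ℕ × ℕ) :=
 (bif Nat.blt s 43 then (bif Nat.blt s 23 then (bif Nat.blt s 7 then (bif Nat.blt s 6 then (bif Nat.beq s 5 then [(2, 1, 1)] else [])
 else (bif Nat.beq s 6 then [(3, 1, 1)] else []))
 else (bif Nat.blt s 15 then (bif Nat.beq s 7 then [(4, 1, 1)] else [])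
 else (bif Nat.blt s 22 then (bif Nat.beq s 15 then [(14, 1, 1)] else [])
 else (bif Nat.beq s 22 then [(19, 1, 1)] else []))))
 else (bif Nat.blt s 30 then (bif Nat.blt s 24 then (bif Nat.beq s 23 then [(20, 1, 1)] else [])
 else (bif Nat.beq s 24 then [(21, 1, 1)] else []))
 else (bif Nat.blt s 31 then (bif Nat.beq s 30 then [(26, 1, 1)] else [])
 else (bif Nat.blt s 32 then (bif Nat.beq s 31 then [(27, 1, 1)] else [])
 else (bif Nat.beq s 32 then [(28, 1, 1)] else [])))))
 else (bif Nat.blt s 52 then (bif Nat.blt s 45 then (bif Nat.blt s 44 then (bif Nat.beq s 43 then [(39, 1, 1)] else [])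
 else (bif Nat.beq s 44 then [(40, 1, 1)] else []))
 else (bif Nat.blt s 50 then (bif Nat.beq s 45 then [(41, 1, 1)] else [])
 else (bif Nat.blt s 51 then (bif Nat.beq s 50 then [(47, 1, 1)] else [])
 else (bif Nat.beq s 51 then [(48, 1, 1)] else []))))
 else (bif Nat.blt s 67 then (bif Nat.blt s 57 then (bif Nat.beq s 52 then [(49, 1, 1)] else [])
 else (bif Nat.beq s 57 then [(56, 1, 1)] else []))
 else (bif Nat.blt s 68 then (bif Nat.beq s 67 then [(64, 1, 1)] else [])
 else (bif Nat.blt s 69 then (bif Nat.beq s 68 then [(65, 1, 1)] else [])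
 else (bif Nat.beq s 69 then [(66, 1, 1)] else []))))))

def d30 (s : ℕ) : List (ℕ × ℕ × ℕ) :=
 (bif Nat.blt s 39 then (bif Nat.blt s 21 then (bif Nat.blt s 10 then (bif Nat.blt s 9 then (bif Nat.beq s 4 then [(1, 1, 1)] else [])
 else (bif Nat.beq s 9 then [(5, 1, 1)] else []))
 else (bif Nat.blt s 14 then (bif Nat.beq s 10 then [(6, 1, 1)] else [])
 else (bif Nat.blt s 20 then (bif Nat.beq s 14 then [(11, 1, 1)] else [])
 else (bif Nat.beq s 20 then [(16, 1, 1)] else []))))
 else (bif Nat.blt s 29 then (bif Nat.blt s 25 then (bif Nat.beq s 21 then [(17, 1, 1)] else [])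
 else (bif Nat.beq s 25 then [(22, 1, 1)] else []))
 else (bif Nat.blt s 36 then (bif Nat.beq s 29 then [(26, 1, 1)] else [])
 else (bif Nat.blt s 38 then (bif Nat.beq s 36 then [(31, 1, 1)] else [])
 else (bif Nat.beq s 38 then [(32, 1, 1)] else [])))))
 else (bif Nat.blt s 55 then (bif Nat.blt s 45 then (bif Nat.blt s 40 then (bif Nat.beq s 39 then [(33, 1, 1)] else [])
 else (bif Nat.beq s 40 then [(35, 1, 1)] else []))
 else (bif Nat.blt s 49 then (bif Nat.beq s 45 then [(42, 1, 1)] else [])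
 else (bif Nat.blt s 54 then (bif Nat.beq s 49 then [(46, 1, 1)] else [])
 else (bif Nat.beq s 54 then [(50, 1, 1)] else []))))
 else (bif Nat.blt s 65 then (bif Nat.blt s 60 then (bif Nat.beq s 55 then [(51, 1, 1)] else [])
 else (bif Nat.beq s 60 then [(57, 1, 1)] else []))
 else (bif Nat.blt s 66 then (bif Nat.beq s 65 then [(61, 1, 1)] else [])
 else (bif Nat.blt s 70 then (bif Nat.beq s 66 then [(62, 1, 1)] else [])
 else (bif Nat.beq s 70 then [(67, 1, 1)] else []))))))

def d31 (s : ℕ) : List (ℕ × ℕ × ℕ) :=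
 (bif Nat.blt s 39 then (bif Nat.blt s 21 then (bif Nat.blt s 10 then (bif Nat.blt s 8 then (bif Nat.beq s 3 then [(1, 1, 1)] else [])
 else (bif Nat.beq s 8 then [(5, 1, 1)] else []))
 else (bif Nat.blt s 14 then (bif Nat.beq s 10 then [(7, 1, 1)] else [])
 else (bif Nat.blt s 19 then (bif Nat.beq s 14 then [(12, 1, 1)] else [])
 else (bif Nat.beq s 19 then [(16, 1, 1)] else []))))
 else (bif Nat.blt s 29 then (bif Nat.blt s 25 then (bif Nat.beq s 21 then [(18, 1, 1)] else [])
 else (bif Nat.beq s 25 then [(23, 1, 1)] else []))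
 else (bif Nat.blt s 35 then (bif Nat.beq s 29 then [(27, 1, 1)] else [])
 else (bif Nat.blt s 37 then (bif Nat.beq s 35 then [(30, 1, 1)] else [])
 else (bif Nat.beq s 37 then [(32, 1, 1)] else [])))))
 else (bif Nat.blt s 55 then (bif Nat.blt s 44 then (bif Nat.blt s 41 then (bif Nat.beq s 39 then [(34, 1, 1)] else [])
 else (bif Nat.beq s 41 then [(36, 1, 1)] else []))
 else (bif Nat.blt s 48 then (bif Nat.beq s 44 then [(42, 1, 1)] else [])
 else (bif Nat.blt s 53 then (bif Nat.beq s 48 then [(46, 1, 1)] else [])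
 else (bif Nat.beq s 53 then [(50, 1, 1)] else []))))
 else (bif Nat.blt s 64 then (bif Nat.blt s 59 then (bif Nat.beq s 55 then [(52, 1, 1)] else [])
 else (bif Nat.beq s 59 then [(57, 1, 1)] else []))
 else (bif Nat.blt s 66 then (bif Nat.beq s 64 then [(61, 1, 1)] else [])
 else (bif Nat.blt s 70 then (bif Nat.beq s 66 then [(63, 1, 1)] else [])
 else (bif Nat.beq s 70 then [(68, 1, 1)] else []))))))

def d32 (s : ℕ) : List (ℕ × ℕ × ℕ) :=
 (bif Nat.blt s 40 then (bif Nat.blt s 20 then (bif Nat.blt s 9 then (bif Nat.blt s 8 then (bif Nat.beq s 2 then [(1, 1, 1)] else [])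
 else (bif Nat.beq s 8 then [(6, 1, 1)] else []))
 else (bif Nat.blt s 14 then (bif Nat.beq s 9 then [(7, 1, 1)] else [])
 else (bif Nat.blt s 19 then (bif Nat.beq s 14 then [(13, 1, 1)] else [])
 else (bif Nat.beq s 19 then [(17, 1, 1)] else []))))
 else (bif Nat.blt s 29 then (bif Nat.blt s 25 then (bif Nat.beq s 20 then [(18, 1, 1)] else [])
 else (bif Nat.beq s 25 then [(24, 1, 1)] else []))
 else (bif Nat.blt s 33 then (bif Nat.beq s 29 then [(28, 1, 1)] else [])
 else (bif Nat.blt s 34 then (bif Nat.beq s 33 then [(30, 1, 1)] else [])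
 else (bif Nat.beq s 34 then [(31, 1, 1)] else [])))))
 else (bif Nat.blt s 54 then (bif Nat.blt s 43 then (bif Nat.blt s 41 then (bif Nat.beq s 40 then [(37, 1, 1)] else [])
 else (bif Nat.beq s 41 then [(38, 1, 1)] else []))
 else (bif Nat.blt s 47 then (bif Nat.beq s 43 then [(42, 1, 1)] else [])
 else (bif Nat.blt s 53 then (bif Nat.beq s 47 then [(46, 1, 1)] else [])
 else (bif Nat.beq s 53 then [(51, 1, 1)] else []))))
 else (bif Nat.blt s 64 then (bif Nat.blt s 58 then (bif Nat.beq s 54 then [(52, 1, 1)] else [])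
 else (bif Nat.beq s 58 then [(57, 1, 1)] else []))
 else (bif Nat.blt s 65 then (bif Nat.beq s 64 then [(62, 1, 1)] else [])
 else (bif Nat.blt s 70 then (bif Nat.beq s 65 then [(63, 1, 1)] else [])
 else (bif Nat.beq s 70 then [(69, 1, 1)] else []))))))

def d33 (s : ℕ) : List (ℕ × ℕ × ℕ) :=
 (bif Nat.blt s 37 then (bif Nat.blt s 21 then (bif Nat.blt s 10 then (bif Nat.blt s 7 then (bif Nat.beq s 4 then [(2, 1, 1)] else [])
 else (bif Nat.beq s 7 then [(5, 1, 1)] else []))
 else (bif Nat.blt s 13 then (bif Nat.beq s 10 then [(8, 1, 1)] else [])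
 else (bif Nat.blt s 18 then (bif Nat.beq s 13 then [(11, 1, 1)] else [])
 else (bif Nat.beq s 18 then [(16, 1, 1)] else []))))
 else (bif Nat.blt s 28 then (bif Nat.blt s 24 then (bif Nat.beq s 21 then [(19, 1, 1)] else [])
 else (bif Nat.beq s 24 then [(22, 1, 1)] else []))
 else (bif Nat.blt s 32 then (bif Nat.beq s 28 then [(26, 1, 1)] else [])
 else (bif Nat.blt s 36 then (bif Nat.beq s 32 then [(30, 1, 1)] else [])
 else (bif Nat.beq s 36 then [(34, 1, 1)] else [])))))
 else (bif Nat.blt s 55 then (bif Nat.blt s 45 then (bif Nat.blt s 41 then (bif Nat.beq s 37 then [(35, 1, 1)] else [])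
 else (bif Nat.beq s 41 then [(39, 1, 1)] else []))
 else (bif Nat.blt s 49 then (bif Nat.beq s 45 then [(43, 1, 1)] else [])
 else (bif Nat.blt s 52 then (bif Nat.beq s 49 then [(47, 1, 1)] else [])
 else (bif Nat.beq s 52 then [(50, 1, 1)] else []))))
 else (bif Nat.blt s 63 then (bif Nat.blt s 60 then (bif Nat.beq s 55 then [(53, 1, 1)] else [])
 else (bif Nat.beq s 60 then [(58, 1, 1)] else []))
 else (bif Nat.blt s 66 then (bif Nat.beq s 63 then [(61, 1, 1)] else [])
 else (bif Nat.blt s 69 then (bif Nat.beq s 66 then [(64, 1, 1)] else [])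
 else (bif Nat.beq s 69 then [(67, 1, 1)] else []))))))

def d34 (s : ℕ) : List (ℕ × ℕ × ℕ) :=
 (bif Nat.blt s 38 then (bif Nat.blt s 21 then (bif Nat.blt s 10 then (bif Nat.blt s 6 then (bif Nat.beq s 3 then [(2, 1, 1)] else [])
 else (bif Nat.beq s 6 then [(5, 1, 1)] else []))
 else (bif Nat.blt s 13 then (bif Nat.beq s 10 then [(9, 1, 1)] else [])
 else (bif Nat.blt s 17 then (bif Nat.beq s 13 then [(12, 1, 1)] else [])
 else (bif Nat.beq s 17 then [(16, 1, 1)] else []))))
 else (bif Nat.blt s 28 then (bif Nat.blt s 24 then (bif Nat.beq s 21 then [(20, 1, 1)] else [])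
 else (bif Nat.beq s 24 then [(23, 1, 1)] else []))
 else (bif Nat.blt s 32 then (bif Nat.beq s 28 then [(27, 1, 1)] else [])
 else (bif Nat.blt s 35 then (bif Nat.beq s 32 then [(31, 1, 1)] else [])
 else (bif Nat.beq s 35 then [(33, 1, 1)] else [])))))
 else (bif Nat.blt s 55 then (bif Nat.blt s 44 then (bif Nat.blt s 40 then (bif Nat.beq s 38 then [(36, 1, 1)] else [])
 else (bif Nat.beq s 40 then [(39, 1, 1)] else []))
 else (bif Nat.blt s 48 then (bif Nat.beq s 44 then [(43, 1, 1)] else [])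
 else (bif Nat.blt s 51 then (bif Nat.beq s 48 then [(47, 1, 1)] else [])
 else (bif Nat.beq s 51 then [(50, 1, 1)] else []))))
 else (bif Nat.blt s 62 then (bif Nat.blt s 59 then (bif Nat.beq s 55 then [(54, 1, 1)] else [])
 else (bif Nat.beq s 59 then [(58, 1, 1)] else []))
 else (bif Nat.blt s 66 then (bif Nat.beq s 62 then [(61, 1, 1)] else [])
 else (bif Nat.blt s 69 then (bif Nat.beq s 66 then [(65, 1, 1)] else [])
 else (bif Nat.beq s 69 then [(68, 1, 1)] else []))))))

def d35 (s : ℕ) : List (ℕ × ℕ × ℕ) :=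
 (bif Nat.blt s 38 then (bif Nat.blt s 20 then (bif Nat.blt s 9 then (bif Nat.blt s 7 then (bif Nat.beq s 4 then [(3, 1, 1)] else [])
 else (bif Nat.beq s 7 then [(6, 1, 1)] else []))
 else (bif Nat.blt s 12 then (bif Nat.beq s 9 then [(8, 1, 1)] else [])
 else (bif Nat.blt s 18 then (bif Nat.beq s 12 then [(11, 1, 1)] else [])
 else (bif Nat.beq s 18 then [(17, 1, 1)] else []))))
 else (bif Nat.blt s 27 then (bif Nat.blt s 23 then (bif Nat.beq s 20 then [(19, 1, 1)] else [])
 else (bif Nat.beq s 23 then [(22, 1, 1)] else []))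
 else (bif Nat.blt s 31 then (bif Nat.beq s 27 then [(26, 1, 1)] else [])
 else (bif Nat.blt s 34 then (bif Nat.beq s 31 then [(30, 1, 1)] else [])
 else (bif Nat.beq s 34 then [(33, 1, 1)] else [])))))
 else (bif Nat.blt s 54 then (bif Nat.blt s 45 then (bif Nat.blt s 41 then (bif Nat.beq s 38 then [(37, 1, 1)] else [])
 else (bif Nat.beq s 41 then [(40, 1, 1)] else []))
 else (bif Nat.blt s 49 then (bif Nat.beq s 45 then [(44, 1, 1)] else [])
 else (bif Nat.blt s 52 then (bif Nat.beq s 49 then [(48, 1, 1)] else [])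
 else (bif Nat.beq s 52 then [(51, 1, 1)] else []))))
 else (bif Nat.blt s 63 then (bif Nat.blt s 60 then (bif Nat.beq s 54 then [(53, 1, 1)] else [])
 else (bif Nat.beq s 60 then [(59, 1, 1)] else []))
 else (bif Nat.blt s 65 then (bif Nat.beq s 63 then [(62, 1, 1)] else [])
 else (bif Nat.blt s 68 then (bif Nat.beq s 65 then [(64, 1, 1)] else [])
 else (bif Nat.beq s 68 then [(67, 1, 1)] else []))))))

def d36 (s : ℕ) : List (ℕ × ℕ × ℕ) :=
 (bif Nat.blt s 37 then (bif Nat.blt s 19 then (bif Nat.blt s 8 then (bif Nat.blt s 6 then (bif Nat.beq s 3 then [(4, 1, 1)] else [])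
 else (bif Nat.beq s 6 then [(7, 1, 1)] else []))
 else (bif Nat.blt s 11 then (bif Nat.beq s 8 then [(9, 1, 1)] else [])
 else (bif Nat.blt s 17 then (bif Nat.beq s 11 then [(12, 1, 1)] else [])
 else (bif Nat.beq s 17 then [(18, 1, 1)] else []))))
 else (bif Nat.blt s 26 then (bif Nat.blt s 22 then (bif Nat.beq s 19 then [(20, 1, 1)] else [])
 else (bif Nat.beq s 22 then [(23, 1, 1)] else []))
 else (bif Nat.blt s 30 then (bif Nat.beq s 26 then [(27, 1, 1)] else [])
 else (bif Nat.blt s 33 then (bif Nat.beq s 30 then [(31, 1, 1)] else [])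
 else (bif Nat.beq s 33 then [(34, 1, 1)] else [])))))
 else (bif Nat.blt s 53 then (bif Nat.blt s 44 then (bif Nat.blt s 40 then (bif Nat.beq s 37 then [(38, 1, 1)] else [])
 else (bif Nat.beq s 40 then [(41, 1, 1)] else []))
 else (bif Nat.blt s 48 then (bif Nat.beq s 44 then [(45, 1, 1)] else [])
 else (bif Nat.blt s 51 then (bif Nat.beq s 48 then [(49, 1, 1)] else [])
 else (bif Nat.beq s 51 then [(52, 1, 1)] else []))))
 else (bif Nat.blt s 62 then (bif Nat.blt s 59 then (bif Nat.beq s 53 then [(54, 1, 1)] else [])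
 else (bif Nat.beq s 59 then [(60, 1, 1)] else []))
 else (bif Nat.blt s 64 then (bif Nat.beq s 62 then [(63, 1, 1)] else [])
 else (bif Nat.blt s 67 then (bif Nat.beq s 64 then [(65, 1, 1)] else [])
 else (bif Nat.beq s 67 then [(68, 1, 1)] else []))))))

def d37 (s : ℕ) : List (ℕ × ℕ × ℕ) :=
 (bif Nat.blt s 36 then (bif Nat.blt s 20 then (bif Nat.blt s 9 then (bif Nat.blt s 5 then (bif Nat.beq s 2 then [(3, 1, 1)] else [])
 else (bif Nat.beq s 5 then [(6, 1, 1)] else []))
 else (bif Nat.blt s 12 then (bif Nat.beq s 9 then [(10, 1, 1)] else [])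
 else (bif Nat.blt s 16 then (bif Nat.beq s 12 then [(13, 1, 1)] else [])
 else (bif Nat.beq s 16 then [(17, 1, 1)] else []))))
 else (bif Nat.blt s 27 then (bif Nat.blt s 23 then (bif Nat.beq s 20 then [(21, 1, 1)] else [])
 else (bif Nat.beq s 23 then [(24, 1, 1)] else []))
 else (bif Nat.blt s 31 then (bif Nat.beq s 27 then [(28, 1, 1)] else [])
 else (bif Nat.blt s 33 then (bif Nat.beq s 31 then [(32, 1, 1)] else [])
 else (bif Nat.beq s 33 then [(35, 1, 1)] else [])))))
 else (bif Nat.blt s 54 then (bif Nat.blt s 43 then (bif Nat.blt s 39 then (bif Nat.beq s 36 then [(38, 1, 1)] else [])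
 else (bif Nat.beq s 39 then [(40, 1, 1)] else []))
 else (bif Nat.blt s 47 then (bif Nat.beq s 43 then [(44, 1, 1)] else [])
 else (bif Nat.blt s 50 then (bif Nat.beq s 47 then [(48, 1, 1)] else [])
 else (bif Nat.beq s 50 then [(51, 1, 1)] else []))))
 else (bif Nat.blt s 61 then (bif Nat.blt s 58 then (bif Nat.beq s 54 then [(55, 1, 1)] else [])
 else (bif Nat.beq s 58 then [(59, 1, 1)] else []))
 else (bif Nat.blt s 65 then (bif Nat.beq s 61 then [(62, 1, 1)] else [])
 else (bif Nat.blt s 68 then (bif Nat.beq s 65 then [(66, 1, 1)] else [])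
 else (bif Nat.beq s 68 then [(69, 1, 1)] else []))))))

def d38 (s : ℕ) : List (ℕ × ℕ × ℕ) :=
 (bif Nat.blt s 35 then (bif Nat.blt s 19 then (bif Nat.blt s 8 then (bif Nat.blt s 5 then (bif Nat.beq s 2 then [(4, 1, 1)] else [])
 else (bif Nat.beq s 5 then [(7, 1, 1)] else []))
 else (bif Nat.blt s 11 then (bif Nat.beq s 8 then [(10, 1, 1)] else [])
 else (bif Nat.blt s 16 then (bif Nat.beq s 11 then [(13, 1, 1)] else [])
 else (bif Nat.beq s 16 then [(18, 1, 1)] else []))))
 else (bif Nat.blt s 26 then (bif Nat.blt s 22 then (bif Nat.beq s 19 then [(21, 1, 1)] else [])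
 else (bif Nat.beq s 22 then [(24, 1, 1)] else []))
 else (bif Nat.blt s 30 then (bif Nat.beq s 26 then [(28, 1, 1)] else [])
 else (bif Nat.blt s 34 then (bif Nat.beq s 30 then [(32, 1, 1)] else [])
 else (bif Nat.beq s 34 then [(36, 1, 1)] else [])))))
 else (bif Nat.blt s 53 then (bif Nat.blt s 43 then (bif Nat.blt s 39 then (bif Nat.beq s 35 then [(37, 1, 1)] else [])
 else (bif Nat.beq s 39 then [(41, 1, 1)] else []))
 else (bif Nat.blt s 47 then (bif Nat.beq s 43 then [(45, 1, 1)] else [])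
 else (bif Nat.blt s 50 then (bif Nat.beq s 47 then [(49, 1, 1)] else [])
 else (bif Nat.beq s 50 then [(52, 1, 1)] else []))))
 else (bif Nat.blt s 61 then (bif Nat.blt s 58 then (bif Nat.beq s 53 then [(55, 1, 1)] else [])
 else (bif Nat.beq s 58 then [(60, 1, 1)] else []))
 else (bif Nat.blt s 64 then (bif Nat.beq s 61 then [(63, 1, 1)] else [])
 else (bif Nat.blt s 67 then (bif Nat.beq s 64 then [(66, 1, 1)] else [])
 else (bif Nat.beq s 67 then [(69, 1, 1)] else []))))))

def d39 (s : ℕ) : List (ℕ × ℕ × ℕ) :=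
 (bif Nat.blt s 37 then (bif Nat.blt s 18 then (bif Nat.blt s 7 then (bif Nat.blt s 6 then (bif Nat.beq s 1 then [(2, 1, 1)] else [])
 else (bif Nat.beq s 6 then [(8, 1, 1)] else []))
 else (bif Nat.blt s 13 then (bif Nat.beq s 7 then [(9, 1, 1)] else [])
 else (bif Nat.blt s 17 then (bif Nat.beq s 13 then [(14, 1, 1)] else [])
 else (bif Nat.beq s 17 then [(19, 1, 1)] else []))))
 else (bif Nat.blt s 28 then (bif Nat.blt s 24 then (bif Nat.beq s 18 then [(20, 1, 1)] else [])
 else (bif Nat.beq s 24 then [(25, 1, 1)] else []))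
 else (bif Nat.blt s 30 then (bif Nat.beq s 28 then [(29, 1, 1)] else [])
 else (bif Nat.blt s 31 then (bif Nat.beq s 30 then [(33, 1, 1)] else [])
 else (bif Nat.beq s 31 then [(34, 1, 1)] else [])))))
 else (bif Nat.blt s 52 then (bif Nat.blt s 42 then (bif Nat.blt s 38 then (bif Nat.beq s 37 then [(40, 1, 1)] else [])
 else (bif Nat.beq s 38 then [(41, 1, 1)] else []))
 else (bif Nat.blt s 46 then (bif Nat.beq s 42 then [(43, 1, 1)] else [])
 else (bif Nat.blt s 51 then (bif Nat.beq s 46 then [(47, 1, 1)] else [])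
 else (bif Nat.beq s 51 then [(53, 1, 1)] else []))))
 else (bif Nat.blt s 62 then (bif Nat.blt s 57 then (bif Nat.beq s 52 then [(54, 1, 1)] else [])
 else (bif Nat.beq s 57 then [(58, 1, 1)] else []))
 else (bif Nat.blt s 63 then (bif Nat.beq s 62 then [(64, 1, 1)] else [])
 else (bif Nat.blt s 69 then (bif Nat.beq s 63 then [(65, 1, 1)] else [])
 else (bif Nat.beq s 69 then [(70, 1, 1)] else []))))))

def d40 (s : ℕ) : List (ℕ × ℕ × ℕ) :=
 (bif Nat.blt s 34 then (bif Nat.blt s 18 then (bif Nat.blt s 7 then (bif Nat.blt s 5 then (bif Nat.beq s 1 then [(3, 1, 1)] else [])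
 else (bif Nat.beq s 5 then [(8, 1, 1)] else []))
 else (bif Nat.blt s 12 then (bif Nat.beq s 7 then [(10, 1, 1)] else [])
 else (bif Nat.blt s 16 then (bif Nat.beq s 12 then [(14, 1, 1)] else [])
 else (bif Nat.beq s 16 then [(19, 1, 1)] else []))))
 else (bif Nat.blt s 27 then (bif Nat.blt s 23 then (bif Nat.beq s 18 then [(21, 1, 1)] else [])
 else (bif Nat.beq s 23 then [(25, 1, 1)] else []))
 else (bif Nat.blt s 30 then (bif Nat.beq s 27 then [(29, 1, 1)] else [])
 else (bif Nat.blt s 32 then (bif Nat.beq s 30 then [(35, 1, 1)] else [])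
 else (bif Nat.beq s 32 then [(37, 1, 1)] else [])))))
 else (bif Nat.blt s 52 then (bif Nat.blt s 42 then (bif Nat.blt s 36 then (bif Nat.beq s 34 then [(39, 1, 1)] else [])
 else (bif Nat.beq s 36 then [(41, 1, 1)] else []))
 else (bif Nat.blt s 46 then (bif Nat.beq s 42 then [(44, 1, 1)] else [])
 else (bif Nat.blt s 50 then (bif Nat.beq s 46 then [(48, 1, 1)] else [])
 else (bif Nat.beq s 50 then [(53, 1, 1)] else []))))
 else (bif Nat.blt s 61 then (bif Nat.blt s 57 then (bif Nat.beq s 52 then [(55, 1, 1)] else [])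
 else (bif Nat.beq s 57 then [(59, 1, 1)] else []))
 else (bif Nat.blt s 63 then (bif Nat.beq s 61 then [(64, 1, 1)] else [])
 else (bif Nat.blt s 68 then (bif Nat.beq s 63 then [(66, 1, 1)] else [])
 else (bif Nat.beq s 68 then [(70, 1, 1)] else []))))))

def d41 (s : ℕ) : List (ℕ × ℕ × ℕ) :=
 (bif Nat.blt s 33 then (bif Nat.blt s 17 then (bif Nat.blt s 6 then (bif Nat.blt s 5 then (bif Nat.beq s 1 then [(4, 1, 1)] else [])
 else (bif Nat.beq s 5 then [(9, 1, 1)] else []))
 else (bif Nat.blt s 11 then (bif Nat.beq s 6 then [(10, 1, 1)] else [])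
 else (bif Nat.blt s 16 then (bif Nat.beq s 11 then [(14, 1, 1)] else [])
 else (bif Nat.beq s 16 then [(20, 1, 1)] else []))))
 else (bif Nat.blt s 26 then (bif Nat.blt s 22 then (bif Nat.beq s 17 then [(21, 1, 1)] else [])
 else (bif Nat.beq s 22 then [(25, 1, 1)] else []))
 else (bif Nat.blt s 31 then (bif Nat.beq s 26 then [(29, 1, 1)] else [])
 else (bif Nat.blt s 32 then (bif Nat.beq s 31 then [(36, 1, 1)] else [])
 else (bif Nat.beq s 32 then [(38, 1, 1)] else [])))))
 else (bif Nat.blt s 51 then (bif Nat.blt s 42 then (bif Nat.blt s 35 then (bif Nat.beq s 33 then [(39, 1, 1)] else [])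
 else (bif Nat.beq s 35 then [(40, 1, 1)] else []))
 else (bif Nat.blt s 46 then (bif Nat.beq s 42 then [(45, 1, 1)] else [])
 else (bif Nat.blt s 50 then (bif Nat.beq s 46 then [(49, 1, 1)] else [])
 else (bif Nat.beq s 50 then [(54, 1, 1)] else []))))
 else (bif Nat.blt s 61 then (bif Nat.blt s 57 then (bif Nat.beq s 51 then [(55, 1, 1)] else [])
 else (bif Nat.beq s 57 then [(60, 1, 1)] else []))
 else (bif Nat.blt s 62 then (bif Nat.beq s 61 then [(65, 1, 1)] else [])
 else (bif Nat.blt s 67 then (bif Nat.beq s 62 then [(66, 1, 1)] else [])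
 else (bif Nat.beq s 67 then [(70, 1, 1)] else []))))))

def d42 (s : ℕ) : List (ℕ × ℕ × ℕ) :=
 (bif Nat.blt s 39 then (bif Nat.blt s 20 then (bif Nat.blt s 4 then (bif Nat.blt s 3 then (bif Nat.beq s 2 then [(5, 1, 1)] else [])
 else (bif Nat.beq s 3 then [(6, 1, 1)] else []))
 else (bif Nat.blt s 14 then (bif Nat.beq s 4 then [(7, 1, 1)] else [])
 else (bif Nat.blt s 19 then (bif Nat.beq s 14 then [(15, 1, 1)] else [])
 else (bif Nat.beq s 19 then [(22, 1, 1)] else []))))
 else (bif Nat.blt s 26 then (bif Nat.blt s 21 then (bif Nat.beq s 20 then [(23, 1, 1)] else [])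
 else (bif Nat.beq s 21 then [(24, 1, 1)] else []))
 else (bif Nat.blt s 27 then (bif Nat.beq s 26 then [(30, 1, 1)] else [])
 else (bif Nat.blt s 28 then (bif Nat.beq s 27 then [(31, 1, 1)] else [])
 else (bif Nat.beq s 28 then [(32, 1, 1)] else [])))))
 else (bif Nat.blt s 49 then (bif Nat.blt s 41 then (bif Nat.blt s 40 then (bif Nat.beq s 39 then [(43, 1, 1)] else [])
 else (bif Nat.beq s 40 then [(44, 1, 1)] else []))
 else (bif Nat.blt s 47 then (bif Nat.beq s 41 then [(45, 1, 1)] else [])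
 else (bif Nat.blt s 48 then (bif Nat.beq s 47 then [(50, 1, 1)] else [])
 else (bif Nat.beq s 48 then [(51, 1, 1)] else []))))
 else (bif Nat.blt s 64 then (bif Nat.blt s 56 then (bif Nat.beq s 49 then [(52, 1, 1)] else [])
 else (bif Nat.beq s 56 then [(57, 1, 1)] else []))
 else (bif Nat.blt s 65 then (bif Nat.beq s 64 then [(67, 1, 1)] else [])
 else (bif Nat.blt s 66 then (bif Nat.beq s 65 then [(68, 1, 1)] else [])
 else (bif Nat.beq s 66 then [(69, 1, 1)] else []))))))

def d43 (s : ℕ) : List (ℕ × ℕ × ℕ) :=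
 (bif Nat.blt s 32 then (bif Nat.blt s 18 then (bif Nat.blt s 4 then (bif Nat.blt s 3 then (bif Nat.beq s 1 then [(5, 1, 1)] else [])
 else (bif Nat.beq s 3 then [(8, 1, 1)] else []))
 else (bif Nat.blt s 13 then (bif Nat.beq s 4 then [(9, 1, 1)] else [])
 else (bif Nat.blt s 17 then (bif Nat.beq s 13 then [(15, 1, 1)] else [])
 else (bif Nat.beq s 17 then [(22, 1, 1)] else []))))
 else (bif Nat.blt s 26 then (bif Nat.blt s 21 then (bif Nat.beq s 18 then [(23, 1, 1)] else [])
 else (bif Nat.beq s 21 then [(25, 1, 1)] else []))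
 else (bif Nat.blt s 27 then (bif Nat.beq s 26 then [(33, 1, 1)] else [])
 else (bif Nat.blt s 29 then (bif Nat.beq s 27 then [(34, 1, 1)] else [])
 else (bif Nat.beq s 29 then [(39, 1, 1)] else [])))))
 else (bif Nat.blt s 49 then (bif Nat.blt s 38 then (bif Nat.blt s 37 then (bif Nat.beq s 32 then [(42, 1, 1)] else [])
 else (bif Nat.beq s 37 then [(44, 1, 1)] else []))
 else (bif Nat.blt s 46 then (bif Nat.beq s 38 then [(45, 1, 1)] else [])
 else (bif Nat.blt s 48 then (bif Nat.beq s 46 then [(50, 1, 1)] else [])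
 else (bif Nat.beq s 48 then [(53, 1, 1)] else []))))
 else (bif Nat.blt s 62 then (bif Nat.blt s 56 then (bif Nat.beq s 49 then [(54, 1, 1)] else [])
 else (bif Nat.beq s 56 then [(58, 1, 1)] else []))
 else (bif Nat.blt s 63 then (bif Nat.beq s 62 then [(67, 1, 1)] else [])
 else (bif Nat.blt s 66 then (bif Nat.beq s 63 then [(68, 1, 1)] else [])
 else (bif Nat.beq s 66 then [(70, 1, 1)] else []))))))

def d44 (s : ℕ) : List (ℕ × ℕ × ℕ) :=
 (bif Nat.blt s 31 then (bif Nat.blt s 18 then (bif Nat.blt s 4 then (bif Nat.blt s 2 then (bif Nat.beq s 1 then [(6, 1, 1)] else [])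
 else (bif Nat.beq s 2 then [(8, 1, 1)] else []))
 else (bif Nat.blt s 12 then (bif Nat.beq s 4 then [(10, 1, 1)] else [])
 else (bif Nat.blt s 16 then (bif Nat.beq s 12 then [(15, 1, 1)] else [])
 else (bif Nat.beq s 16 then [(22, 1, 1)] else []))))
 else (bif Nat.blt s 26 then (bif Nat.blt s 20 then (bif Nat.beq s 18 then [(24, 1, 1)] else [])
 else (bif Nat.beq s 20 then [(25, 1, 1)] else []))
 else (bif Nat.blt s 28 then (bif Nat.beq s 26 then [(35, 1, 1)] else [])
 else (bif Nat.blt s 29 then (bif Nat.beq s 28 then [(37, 1, 1)] else [])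
 else (bif Nat.beq s 29 then [(40, 1, 1)] else [])))))
 else (bif Nat.blt s 49 then (bif Nat.blt s 36 then (bif Nat.blt s 34 then (bif Nat.beq s 31 then [(42, 1, 1)] else [])
 else (bif Nat.beq s 34 then [(43, 1, 1)] else []))
 else (bif Nat.blt s 46 then (bif Nat.beq s 36 then [(45, 1, 1)] else [])
 else (bif Nat.blt s 47 then (bif Nat.beq s 46 then [(51, 1, 1)] else [])
 else (bif Nat.beq s 47 then [(53, 1, 1)] else []))))
 else (bif Nat.blt s 61 then (bif Nat.blt s 56 then (bif Nat.beq s 49 then [(55, 1, 1)] else [])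
 else (bif Nat.beq s 56 then [(59, 1, 1)] else []))
 else (bif Nat.blt s 63 then (bif Nat.beq s 61 then [(67, 1, 1)] else [])
 else (bif Nat.blt s 65 then (bif Nat.beq s 63 then [(69, 1, 1)] else [])
 else (bif Nat.beq s 65 then [(70, 1, 1)] else []))))))

def d45 (s : ℕ) : List (ℕ × ℕ × ℕ) :=
 (bif Nat.blt s 30 then (bif Nat.blt s 17 then (bif Nat.blt s 3 then (bif Nat.blt s 2 then (bif Nat.beq s 1 then [(7, 1, 1)] else [])
 else (bif Nat.beq s 2 then [(9, 1, 1)] else []))
 else (bif Nat.blt s 11 then (bif Nat.beq s 3 then [(10, 1, 1)] else [])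
 else (bif Nat.blt s 16 then (bif Nat.beq s 11 then [(15, 1, 1)] else [])
 else (bif Nat.beq s 16 then [(23, 1, 1)] else []))))
 else (bif Nat.blt s 27 then (bif Nat.blt s 19 then (bif Nat.beq s 17 then [(24, 1, 1)] else [])
 else (bif Nat.beq s 19 then [(25, 1, 1)] else []))
 else (bif Nat.blt s 28 then (bif Nat.beq s 27 then [(36, 1, 1)] else [])
 else (bif Nat.blt s 29 then (bif Nat.beq s 28 then [(38, 1, 1)] else [])
 else (bif Nat.beq s 29 then [(41, 1, 1)] else [])))))
 else (bif Nat.blt s 48 then (bif Nat.blt s 35 then (bif Nat.blt s 33 then (bif Nat.beq s 30 then [(42, 1, 1)] else [])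
 else (bif Nat.beq s 33 then [(43, 1, 1)] else []))
 else (bif Nat.blt s 46 then (bif Nat.beq s 35 then [(44, 1, 1)] else [])
 else (bif Nat.blt s 47 then (bif Nat.beq s 46 then [(52, 1, 1)] else [])
 else (bif Nat.beq s 47 then [(54, 1, 1)] else []))))
 else (bif Nat.blt s 61 then (bif Nat.blt s 56 then (bif Nat.beq s 48 then [(55, 1, 1)] else [])
 else (bif Nat.beq s 56 then [(60, 1, 1)] else []))
 else (bif Nat.blt s 62 then (bif Nat.beq s 61 then [(68, 1, 1)] else [])
 else (bif Nat.blt s 64 then (bif Nat.beq s 62 then [(69, 1, 1)] else [])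
 else (bif Nat.beq s 64 then [(70, 1, 1)] else []))))))

def d46 (s : ℕ) : List (ℕ × ℕ × ℕ) :=
 (bif Nat.blt s 39 then (bif Nat.blt s 20 then (bif Nat.blt s 9 then (bif Nat.blt s 8 then (bif Nat.beq s 0 then [(1, 1, 1)] else [])
 else (bif Nat.beq s 8 then [(11, 1, 1)] else []))
 else (bif Nat.blt s 10 then (bif Nat.beq s 9 then [(12, 1, 1)] else [])
 else (bif Nat.blt s 19 then (bif Nat.beq s 10 then [(13, 1, 1)] else [])
 else (bif Nat.beq s 19 then [(26, 1, 1)] else []))))
 else (bif Nat.blt s 22 then (bif Nat.blt s 21 then (bif Nat.beq s 20 then [(27, 1, 1)] else [])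
 else (bif Nat.beq s 21 then [(28, 1, 1)] else []))
 else (bif Nat.blt s 23 then (bif Nat.beq s 22 then [(30, 1, 1)] else [])
 else (bif Nat.blt s 24 then (bif Nat.beq s 23 then [(31, 1, 1)] else [])
 else (bif Nat.beq s 24 then [(32, 1, 1)] else [])))))
 else (bif Nat.blt s 45 then (bif Nat.blt s 41 then (bif Nat.blt s 40 then (bif Nat.beq s 39 then [(47, 1, 1)] else [])
 else (bif Nat.beq s 40 then [(48, 1, 1)] else []))
 else (bif Nat.blt s 43 then (bif Nat.beq s 41 then [(49, 1, 1)] else [])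
 else (bif Nat.blt s 44 then (bif Nat.beq s 43 then [(50, 1, 1)] else [])
 else (bif Nat.beq s 44 then [(51, 1, 1)] else []))))
 else (bif Nat.blt s 59 then (bif Nat.blt s 58 then (bif Nat.beq s 45 then [(52, 1, 1)] else [])
 else (bif Nat.beq s 58 then [(61, 1, 1)] else []))
 else (bif Nat.blt s 60 then (bif Nat.beq s 59 then [(62, 1, 1)] else [])
 else (bif Nat.blt s 70 then (bif Nat.beq s 60 then [(63, 1, 1)] else [])
 else (bif Nat.beq s 70 then [(71, 1, 1)] else []))))))

def d47 (s : ℕ) : List (ℕ × ℕ × ℕ) :=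
 (bif Nat.blt s 32 then (bif Nat.blt s 18 then (bif Nat.blt s 7 then (bif Nat.blt s 6 then (bif Nat.beq s 0 then [(2, 1, 1)] else [])
 else (bif Nat.beq s 6 then [(11, 1, 1)] else []))
 else (bif Nat.blt s 10 then (bif Nat.beq s 7 then [(12, 1, 1)] else [])
 else (bif Nat.blt s 17 then (bif Nat.beq s 10 then [(14, 1, 1)] else [])
 else (bif Nat.beq s 17 then [(26, 1, 1)] else []))))
 else (bif Nat.blt s 22 then (bif Nat.blt s 21 then (bif Nat.beq s 18 then [(27, 1, 1)] else [])
 else (bif Nat.beq s 21 then [(29, 1, 1)] else []))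
 else (bif Nat.blt s 23 then (bif Nat.beq s 22 then [(33, 1, 1)] else [])
 else (bif Nat.blt s 25 then (bif Nat.beq s 23 then [(34, 1, 1)] else [])
 else (bif Nat.beq s 25 then [(39, 1, 1)] else [])))))
 else (bif Nat.blt s 45 then (bif Nat.blt s 38 then (bif Nat.blt s 37 then (bif Nat.beq s 32 then [(46, 1, 1)] else [])
 else (bif Nat.beq s 37 then [(48, 1, 1)] else []))
 else (bif Nat.blt s 42 then (bif Nat.beq s 38 then [(49, 1, 1)] else [])
 else (bif Nat.blt s 44 then (bif Nat.beq s 42 then [(50, 1, 1)] else [])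
 else (bif Nat.beq s 44 then [(53, 1, 1)] else []))))
 else (bif Nat.blt s 59 then (bif Nat.blt s 57 then (bif Nat.beq s 45 then [(54, 1, 1)] else [])
 else (bif Nat.beq s 57 then [(61, 1, 1)] else []))
 else (bif Nat.blt s 60 then (bif Nat.beq s 59 then [(64, 1, 1)] else [])
 else (bif Nat.blt s 69 then (bif Nat.beq s 60 then [(65, 1, 1)] else [])
 else (bif Nat.beq s 69 then [(71, 1, 1)] else []))))))

def d48 (s : ℕ) : List (ℕ × ℕ × ℕ) :=
 (bif Nat.blt s 31 then (bif Nat.blt s 18 then (bif Nat.blt s 7 then (bif Nat.blt s 5 then (bif Nat.beq s 0 then [(3, 1, 1)] else [])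
 else (bif Nat.beq s 5 then [(11, 1, 1)] else []))
 else (bif Nat.blt s 9 then (bif Nat.beq s 7 then [(13, 1, 1)] else [])
 else (bif Nat.blt s 16 then (bif Nat.beq s 9 then [(14, 1, 1)] else [])
 else (bif Nat.beq s 16 then [(26, 1, 1)] else []))))
 else (bif Nat.blt s 22 then (bif Nat.blt s 20 then (bif Nat.beq s 18 then [(28, 1, 1)] else [])
 else (bif Nat.beq s 20 then [(29, 1, 1)] else []))
 else (bif Nat.blt s 24 then (bif Nat.beq s 22 then [(35, 1, 1)] else [])
 else (bif Nat.blt s 25 then (bif Nat.beq s 24 then [(37, 1, 1)] else [])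
 else (bif Nat.beq s 25 then [(40, 1, 1)] else [])))))
 else (bif Nat.blt s 45 then (bif Nat.blt s 36 then (bif Nat.blt s 34 then (bif Nat.beq s 31 then [(46, 1, 1)] else [])
 else (bif Nat.beq s 34 then [(47, 1, 1)] else []))
 else (bif Nat.blt s 42 then (bif Nat.beq s 36 then [(49, 1, 1)] else [])
 else (bif Nat.blt s 43 then (bif Nat.beq s 42 then [(51, 1, 1)] else [])
 else (bif Nat.beq s 43 then [(53, 1, 1)] else []))))
 else (bif Nat.blt s 58 then (bif Nat.blt s 57 then (bif Nat.beq s 45 then [(55, 1, 1)] else [])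
 else (bif Nat.beq s 57 then [(62, 1, 1)] else []))
 else (bif Nat.blt s 60 then (bif Nat.beq s 58 then [(64, 1, 1)] else [])
 else (bif Nat.blt s 68 then (bif Nat.beq s 60 then [(66, 1, 1)] else [])
 else (bif Nat.beq s 68 then [(71, 1, 1)] else []))))))

def d49 (s : ℕ) : List (ℕ × ℕ × ℕ) :=
 (bif Nat.blt s 30 then (bif Nat.blt s 17 then (bif Nat.blt s 6 then (bif Nat.blt s 5 then (bif Nat.beq s 0 then [(4, 1, 1)] else [])
 else (bif Nat.beq s 5 then [(12, 1, 1)] else []))
 else (bif Nat.blt s 8 then (bif Nat.beq s 6 then [(13, 1, 1)] else [])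
 else (bif Nat.blt s 16 then (bif Nat.beq s 8 then [(14, 1, 1)] else [])
 else (bif Nat.beq s 16 then [(27, 1, 1)] else []))))
 else (bif Nat.blt s 23 then (bif Nat.blt s 19 then (bif Nat.beq s 17 then [(28, 1, 1)] else [])
 else (bif Nat.beq s 19 then [(29, 1, 1)] else []))
 else (bif Nat.blt s 24 then (bif Nat.beq s 23 then [(36, 1, 1)] else [])
 else (bif Nat.blt s 25 then (bif Nat.beq s 24 then [(38, 1, 1)] else [])
 else (bif Nat.beq s 25 then [(41, 1, 1)] else [])))))
 else (bif Nat.blt s 44 then (bif Nat.blt s 35 then (bif Nat.blt s 33 then (bif Nat.beq s 30 then [(46, 1, 1)] else [])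
 else (bif Nat.beq s 33 then [(47, 1, 1)] else []))
 else (bif Nat.blt s 42 then (bif Nat.beq s 35 then [(48, 1, 1)] else [])
 else (bif Nat.blt s 43 then (bif Nat.beq s 42 then [(52, 1, 1)] else [])
 else (bif Nat.beq s 43 then [(54, 1, 1)] else []))))
 else (bif Nat.blt s 58 then (bif Nat.blt s 57 then (bif Nat.beq s 44 then [(55, 1, 1)] else [])
 else (bif Nat.beq s 57 then [(63, 1, 1)] else []))
 else (bif Nat.blt s 59 then (bif Nat.beq s 58 then [(65, 1, 1)] else [])
 else (bif Nat.blt s 67 then (bif Nat.beq s 59 then [(66, 1, 1)] else [])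
 else (bif Nat.beq s 67 then [(71, 1, 1)] else []))))))

def d50 (s : ℕ) : List (ℕ × ℕ × ℕ) :=
 (bif Nat.blt s 28 then (bif Nat.blt s 18 then (bif Nat.blt s 4 then (bif Nat.blt s 3 then (bif Nat.beq s 0 then [(5, 1, 1)] else [])
 else (bif Nat.beq s 3 then [(11, 1, 1)] else []))
 else (bif Nat.blt s 10 then (bif Nat.beq s 4 then [(12, 1, 1)] else [])
 else (bif Nat.blt s 17 then (bif Nat.beq s 10 then [(15, 1, 1)] else [])
 else (bif Nat.beq s 17 then [(30, 1, 1)] else []))))
 else (bif Nat.blt s 20 then (bif Nat.blt s 19 then (bif Nat.beq s 18 then [(31, 1, 1)] else [])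
 else (bif Nat.beq s 19 then [(33, 1, 1)] else []))
 else (bif Nat.blt s 24 then (bif Nat.beq s 20 then [(34, 1, 1)] else [])
 else (bif Nat.blt s 25 then (bif Nat.beq s 24 then [(42, 1, 1)] else [])
 else (bif Nat.beq s 25 then [(43, 1, 1)] else [])))))
 else (bif Nat.blt s 41 then (bif Nat.blt s 37 then (bif Nat.blt s 29 then (bif Nat.beq s 28 then [(46, 1, 1)] else [])
 else (bif Nat.beq s 29 then [(47, 1, 1)] else []))
 else (bif Nat.blt s 38 then (bif Nat.beq s 37 then [(51, 1, 1)] else [])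
 else (bif Nat.blt s 40 then (bif Nat.beq s 38 then [(52, 1, 1)] else [])
 else (bif Nat.beq s 40 then [(53, 1, 1)] else []))))
 else (bif Nat.blt s 59 then (bif Nat.blt s 56 then (bif Nat.beq s 41 then [(54, 1, 1)] else [])
 else (bif Nat.beq s 56 then [(61, 1, 1)] else []))
 else (bif Nat.blt s 60 then (bif Nat.beq s 59 then [(67, 1, 1)] else [])
 else (bif Nat.blt s 66 then (bif Nat.beq s 60 then [(68, 1, 1)] else [])
 else (bif Nat.beq s 66 then [(71, 1, 1)] else []))))))

def d51 (s : ℕ) : List (ℕ × ℕ × ℕ) :=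
 (bif Nat.blt s 27 then (bif Nat.blt s 18 then (bif Nat.blt s 4 then (bif Nat.blt s 2 then (bif Nat.beq s 0 then [(6, 1, 1)] else [])
 else (bif Nat.beq s 2 then [(11, 1, 1)] else []))
 else (bif Nat.blt s 9 then (bif Nat.beq s 4 then [(13, 1, 1)] else [])
 else (bif Nat.blt s 16 then (bif Nat.beq s 9 then [(15, 1, 1)] else [])
 else (bif Nat.beq s 16 then [(30, 1, 1)] else []))))
 else (bif Nat.blt s 21 then (bif Nat.blt s 19 then (bif Nat.beq s 18 then [(32, 1, 1)] else [])
 else (bif Nat.beq s 19 then [(35, 1, 1)] else []))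
 else (bif Nat.blt s 23 then (bif Nat.beq s 21 then [(37, 1, 1)] else [])
 else (bif Nat.blt s 25 then (bif Nat.beq s 23 then [(42, 1, 1)] else [])
 else (bif Nat.beq s 25 then [(44, 1, 1)] else [])))))
 else (bif Nat.blt s 41 then (bif Nat.blt s 34 then (bif Nat.blt s 29 then (bif Nat.beq s 27 then [(46, 1, 1)] else [])
 else (bif Nat.beq s 29 then [(48, 1, 1)] else []))
 else (bif Nat.blt s 36 then (bif Nat.beq s 34 then [(50, 1, 1)] else [])
 else (bif Nat.blt s 39 then (bif Nat.beq s 36 then [(52, 1, 1)] else [])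
 else (bif Nat.beq s 39 then [(53, 1, 1)] else []))))
 else (bif Nat.blt s 58 then (bif Nat.blt s 56 then (bif Nat.beq s 41 then [(55, 1, 1)] else [])
 else (bif Nat.beq s 56 then [(62, 1, 1)] else []))
 else (bif Nat.blt s 60 then (bif Nat.beq s 58 then [(67, 1, 1)] else [])
 else (bif Nat.blt s 65 then (bif Nat.beq s 60 then [(69, 1, 1)] else [])
 else (bif Nat.beq s 65 then [(71, 1, 1)] else []))))))

def d52 (s : ℕ) : List (ℕ × ℕ × ℕ) :=
 (bif Nat.blt s 26 then (bif Nat.blt s 17 then (bif Nat.blt s 3 then (bif Nat.blt s 2 then (bif Nat.beq s 0 then [(7, 1, 1)] else [])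
 else (bif Nat.beq s 2 then [(12, 1, 1)] else []))
 else (bif Nat.blt s 8 then (bif Nat.beq s 3 then [(13, 1, 1)] else [])
 else (bif Nat.blt s 16 then (bif Nat.beq s 8 then [(15, 1, 1)] else [])
 else (bif Nat.beq s 16 then [(31, 1, 1)] else []))))
 else (bif Nat.blt s 21 then (bif Nat.blt s 20 then (bif Nat.beq s 17 then [(32, 1, 1)] else [])
 else (bif Nat.beq s 20 then [(36, 1, 1)] else []))
 else (bif Nat.blt s 22 then (bif Nat.beq s 21 then [(38, 1, 1)] else [])
 else (bif Nat.blt s 25 then (bif Nat.beq s 22 then [(42, 1, 1)] else [])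
 else (bif Nat.beq s 25 then [(45, 1, 1)] else [])))))
 else (bif Nat.blt s 40 then (bif Nat.blt s 33 then (bif Nat.blt s 29 then (bif Nat.beq s 26 then [(46, 1, 1)] else [])
 else (bif Nat.beq s 29 then [(49, 1, 1)] else []))
 else (bif Nat.blt s 35 then (bif Nat.beq s 33 then [(50, 1, 1)] else [])
 else (bif Nat.blt s 39 then (bif Nat.beq s 35 then [(51, 1, 1)] else [])
 else (bif Nat.beq s 39 then [(54, 1, 1)] else []))))
 else (bif Nat.blt s 58 then (bif Nat.blt s 56 then (bif Nat.beq s 40 then [(55, 1, 1)] else [])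
 else (bif Nat.beq s 56 then [(63, 1, 1)] else []))
 else (bif Nat.blt s 59 then (bif Nat.beq s 58 then [(68, 1, 1)] else [])
 else (bif Nat.blt s 64 then (bif Nat.beq s 59 then [(69, 1, 1)] else [])
 else (bif Nat.beq s 64 then [(71, 1, 1)] else []))))))

def d53 (s : ℕ) : List (ℕ × ℕ × ℕ) :=
 (bif Nat.blt s 27 then (bif Nat.blt s 17 then (bif Nat.blt s 4 then (bif Nat.blt s 1 then (bif Nat.beq s 0 then [(8, 1, 1)] else [])
 else (bif Nat.beq s 1 then [(11, 1, 1)] else []))
 else (bif Nat.blt s 7 then (bif Nat.beq s 4 then [(14, 1, 1)] else [])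
 else (bif Nat.blt s 16 then (bif Nat.beq s 7 then [(15, 1, 1)] else [])
 else (bif Nat.beq s 16 then [(33, 1, 1)] else []))))
 else (bif Nat.blt s 21 then (bif Nat.blt s 20 then (bif Nat.beq s 17 then [(35, 1, 1)] else [])
 else (bif Nat.beq s 20 then [(39, 1, 1)] else []))
 else (bif Nat.blt s 23 then (bif Nat.beq s 21 then [(40, 1, 1)] else [])
 else (bif Nat.blt s 24 then (bif Nat.beq s 23 then [(43, 1, 1)] else [])
 else (bif Nat.beq s 24 then [(44, 1, 1)] else [])))))
 else (bif Nat.blt s 38 then (bif Nat.blt s 31 then (bif Nat.blt s 28 then (bif Nat.beq s 27 then [(47, 1, 1)] else [])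
 else (bif Nat.beq s 28 then [(48, 1, 1)] else []))
 else (bif Nat.blt s 32 then (bif Nat.beq s 31 then [(50, 1, 1)] else [])
 else (bif Nat.blt s 36 then (bif Nat.beq s 32 then [(51, 1, 1)] else [])
 else (bif Nat.beq s 36 then [(54, 1, 1)] else []))))
 else (bif Nat.blt s 57 then (bif Nat.blt s 56 then (bif Nat.beq s 38 then [(55, 1, 1)] else [])
 else (bif Nat.beq s 56 then [(64, 1, 1)] else []))
 else (bif Nat.blt s 60 then (bif Nat.beq s 57 then [(67, 1, 1)] else [])
 else (bif Nat.blt s 63 then (bif Nat.beq s 60 then [(70, 1, 1)] else [])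
 else (bif Nat.beq s 63 then [(71, 1, 1)] else []))))))

def d54 (s : ℕ) : List (ℕ × ℕ × ℕ) :=
 (bif Nat.blt s 26 then (bif Nat.blt s 18 then (bif Nat.blt s 3 then (bif Nat.blt s 1 then (bif Nat.beq s 0 then [(9, 1, 1)] else [])
 else (bif Nat.beq s 1 then [(12, 1, 1)] else []))
 else (bif Nat.blt s 6 then (bif Nat.beq s 3 then [(14, 1, 1)] else [])
 else (bif Nat.blt s 16 then (bif Nat.beq s 6 then [(15, 1, 1)] else [])
 else (bif Nat.beq s 16 then [(34, 1, 1)] else []))))
 else (bif Nat.blt s 21 then (bif Nat.blt s 19 then (bif Nat.beq s 18 then [(36, 1, 1)] else [])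
 else (bif Nat.beq s 19 then [(39, 1, 1)] else []))
 else (bif Nat.blt s 22 then (bif Nat.beq s 21 then [(41, 1, 1)] else [])
 else (bif Nat.blt s 24 then (bif Nat.beq s 22 then [(43, 1, 1)] else [])
 else (bif Nat.beq s 24 then [(45, 1, 1)] else [])))))
 else (bif Nat.blt s 37 then (bif Nat.blt s 30 then (bif Nat.blt s 28 then (bif Nat.beq s 26 then [(47, 1, 1)] else [])
 else (bif Nat.beq s 28 then [(49, 1, 1)] else []))
 else (bif Nat.blt s 32 then (bif Nat.beq s 30 then [(50, 1, 1)] else [])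
 else (bif Nat.blt s 35 then (bif Nat.beq s 32 then [(52, 1, 1)] else [])
 else (bif Nat.beq s 35 then [(53, 1, 1)] else []))))
 else (bif Nat.blt s 57 then (bif Nat.blt s 56 then (bif Nat.beq s 37 then [(55, 1, 1)] else [])
 else (bif Nat.beq s 56 then [(65, 1, 1)] else []))
 else (bif Nat.blt s 59 then (bif Nat.beq s 57 then [(68, 1, 1)] else [])
 else (bif Nat.blt s 62 then (bif Nat.beq s 59 then [(70, 1, 1)] else [])
 else (bif Nat.beq s 62 then [(71, 1, 1)] else []))))))

def d55 (s : ℕ) : List (ℕ × ℕ × ℕ) :=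
 (bif Nat.blt s 26 then (bif Nat.blt s 18 then (bif Nat.blt s 2 then (bif Nat.blt s 1 then (bif Nat.beq s 0 then [(10, 1, 1)] else [])
 else (bif Nat.beq s 1 then [(13, 1, 1)] else []))
 else (bif Nat.blt s 5 then (bif Nat.beq s 2 then [(14, 1, 1)] else [])
 else (bif Nat.blt s 17 then (bif Nat.beq s 5 then [(15, 1, 1)] else [])
 else (bif Nat.beq s 17 then [(37, 1, 1)] else []))))
 else (bif Nat.blt s 20 then (bif Nat.blt s 19 then (bif Nat.beq s 18 then [(38, 1, 1)] else [])
 else (bif Nat.beq s 19 then [(40, 1, 1)] else []))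
 else (bif Nat.blt s 22 then (bif Nat.beq s 20 then [(41, 1, 1)] else [])
 else (bif Nat.blt s 23 then (bif Nat.beq s 22 then [(44, 1, 1)] else [])
 else (bif Nat.beq s 23 then [(45, 1, 1)] else [])))))
 else (bif Nat.blt s 34 then (bif Nat.blt s 30 then (bif Nat.blt s 27 then (bif Nat.beq s 26 then [(48, 1, 1)] else [])
 else (bif Nat.beq s 27 then [(49, 1, 1)] else []))
 else (bif Nat.blt s 31 then (bif Nat.beq s 30 then [(51, 1, 1)] else [])
 else (bif Nat.blt s 33 then (bif Nat.beq s 31 then [(52, 1, 1)] else [])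
 else (bif Nat.beq s 33 then [(53, 1, 1)] else []))))
 else (bif Nat.blt s 57 then (bif Nat.blt s 56 then (bif Nat.beq s 34 then [(54, 1, 1)] else [])
 else (bif Nat.beq s 56 then [(66, 1, 1)] else []))
 else (bif Nat.blt s 58 then (bif Nat.beq s 57 then [(69, 1, 1)] else [])
 else (bif Nat.blt s 61 then (bif Nat.beq s 58 then [(70, 1, 1)] else [])
 else (bif Nat.beq s 61 then [(71, 1, 1)] else []))))))

def d56 (s : ℕ) : List (ℕ × ℕ × ℕ) :=
 (bif Nat.blt s 42 then (bif Nat.blt s 10 then (bif Nat.blt s 7 then (bif Nat.blt s 6 then (bif Nat.beq s 5 then [(16, 1, 1)] else [])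
 else (bif Nat.beq s 6 then [(17, 1, 1)] else []))
 else (bif Nat.blt s 8 then (bif Nat.beq s 7 then [(18, 1, 1)] else [])
 else (bif Nat.blt s 9 then (bif Nat.beq s 8 then [(19, 1, 1)] else [])
 else (bif Nat.beq s 9 then [(20, 1, 1)] else []))))
 else (bif Nat.blt s 12 then (bif Nat.blt s 11 then (bif Nat.beq s 10 then [(21, 1, 1)] else [])
 else (bif Nat.beq s 11 then [(26, 1, 1)] else []))
 else (bif Nat.blt s 13 then (bif Nat.beq s 12 then [(27, 1, 1)] else [])
 else (bif Nat.blt s 14 then (bif Nat.beq s 13 then [(28, 1, 1)] else [])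
 else (bif Nat.beq s 14 then [(29, 1, 1)] else [])))))
 else (bif Nat.blt s 51 then (bif Nat.blt s 44 then (bif Nat.blt s 43 then (bif Nat.beq s 42 then [(57, 1, 1)] else [])
 else (bif Nat.beq s 43 then [(58, 1, 1)] else []))
 else (bif Nat.blt s 45 then (bif Nat.beq s 44 then [(59, 1, 1)] else [])
 else (bif Nat.blt s 50 then (bif Nat.beq s 45 then [(60, 1, 1)] else [])
 else (bif Nat.beq s 50 then [(61, 1, 1)] else []))))
 else (bif Nat.blt s 53 then (bif Nat.blt s 52 then (bif Nat.beq s 51 then [(62, 1, 1)] else [])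
 else (bif Nat.beq s 52 then [(63, 1, 1)] else []))
 else (bif Nat.blt s 54 then (bif Nat.beq s 53 then [(64, 1, 1)] else [])
 else (bif Nat.blt s 55 then (bif Nat.beq s 54 then [(65, 1, 1)] else [])
 else (bif Nat.beq s 55 then [(66, 1, 1)] else []))))))

def d57 (s : ℕ) : List (ℕ × ℕ × ℕ) :=
 (bif Nat.blt s 29 then (bif Nat.blt s 10 then (bif Nat.blt s 4 then (bif Nat.blt s 3 then (bif Nat.beq s 2 then [(16, 1, 1)] else [])
 else (bif Nat.beq s 3 then [(17, 1, 1)] else []))
 else (bif Nat.blt s 8 then (bif Nat.beq s 4 then [(18, 1, 1)] else [])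
 else (bif Nat.blt s 9 then (bif Nat.beq s 8 then [(22, 1, 1)] else [])
 else (bif Nat.beq s 9 then [(23, 1, 1)] else []))))
 else (bif Nat.blt s 12 then (bif Nat.blt s 11 then (bif Nat.beq s 10 then [(24, 1, 1)] else [])
 else (bif Nat.beq s 11 then [(30, 1, 1)] else []))
 else (bif Nat.blt s 13 then (bif Nat.beq s 12 then [(31, 1, 1)] else [])
 else (bif Nat.blt s 15 then (bif Nat.beq s 13 then [(32, 1, 1)] else [])
 else (bif Nat.beq s 15 then [(42, 1, 1)] else [])))))
 else (bif Nat.blt s 48 then (bif Nat.blt s 40 then (bif Nat.blt s 39 then (bif Nat.beq s 29 then [(56, 1, 1)] else [])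
 else (bif Nat.beq s 39 then [(58, 1, 1)] else []))
 else (bif Nat.blt s 41 then (bif Nat.beq s 40 then [(59, 1, 1)] else [])
 else (bif Nat.blt s 47 then (bif Nat.beq s 41 then [(60, 1, 1)] else [])
 else (bif Nat.beq s 47 then [(61, 1, 1)] else []))))
 else (bif Nat.blt s 53 then (bif Nat.blt s 49 then (bif Nat.beq s 48 then [(62, 1, 1)] else [])
 else (bif Nat.beq s 49 then [(63, 1, 1)] else []))
 else (bif Nat.blt s 54 then (bif Nat.beq s 53 then [(67, 1, 1)] else [])
 else (bif Nat.blt s 55 then (bif Nat.beq s 54 then [(68, 1, 1)] else [])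
 else (bif Nat.beq s 55 then [(69, 1, 1)] else []))))))

def d58 (s : ℕ) : List (ℕ × ℕ × ℕ) :=
 (bif Nat.blt s 28 then (bif Nat.blt s 10 then (bif Nat.blt s 4 then (bif Nat.blt s 3 then (bif Nat.beq s 1 then [(16, 1, 1)] else [])
 else (bif Nat.beq s 3 then [(19, 1, 1)] else []))
 else (bif Nat.blt s 6 then (bif Nat.beq s 4 then [(20, 1, 1)] else [])
 else (bif Nat.blt s 7 then (bif Nat.beq s 6 then [(22, 1, 1)] else [])
 else (bif Nat.beq s 7 then [(23, 1, 1)] else []))))
 else (bif Nat.blt s 12 then (bif Nat.blt s 11 then (bif Nat.beq s 10 then [(25, 1, 1)] else [])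
 else (bif Nat.beq s 11 then [(33, 1, 1)] else []))
 else (bif Nat.blt s 14 then (bif Nat.beq s 12 then [(34, 1, 1)] else [])
 else (bif Nat.blt s 15 then (bif Nat.beq s 14 then [(39, 1, 1)] else [])
 else (bif Nat.beq s 15 then [(43, 1, 1)] else [])))))
 else (bif Nat.blt s 48 then (bif Nat.blt s 37 then (bif Nat.blt s 32 then (bif Nat.beq s 28 then [(56, 1, 1)] else [])
 else (bif Nat.beq s 32 then [(57, 1, 1)] else []))
 else (bif Nat.blt s 38 then (bif Nat.beq s 37 then [(59, 1, 1)] else [])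
 else (bif Nat.blt s 46 then (bif Nat.beq s 38 then [(60, 1, 1)] else [])
 else (bif Nat.beq s 46 then [(61, 1, 1)] else []))))
 else (bif Nat.blt s 51 then (bif Nat.blt s 49 then (bif Nat.beq s 48 then [(64, 1, 1)] else [])
 else (bif Nat.beq s 49 then [(65, 1, 1)] else []))
 else (bif Nat.blt s 52 then (bif Nat.beq s 51 then [(67, 1, 1)] else [])
 else (bif Nat.blt s 55 then (bif Nat.beq s 52 then [(68, 1, 1)] else [])
 else (bif Nat.beq s 55 then [(70, 1, 1)] else []))))))

def d59 (s : ℕ) : List (ℕ × ℕ × ℕ) :=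
 (bif Nat.blt s 27 then (bif Nat.blt s 9 then (bif Nat.blt s 4 then (bif Nat.blt s 2 then (bif Nat.beq s 1 then [(17, 1, 1)] else [])
 else (bif Nat.beq s 2 then [(19, 1, 1)] else []))
 else (bif Nat.blt s 5 then (bif Nat.beq s 4 then [(21, 1, 1)] else [])
 else (bif Nat.blt s 7 then (bif Nat.beq s 5 then [(22, 1, 1)] else [])
 else (bif Nat.beq s 7 then [(24, 1, 1)] else []))))
 else (bif Nat.blt s 13 then (bif Nat.blt s 11 then (bif Nat.beq s 9 then [(25, 1, 1)] else [])
 else (bif Nat.beq s 11 then [(35, 1, 1)] else []))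
 else (bif Nat.blt s 14 then (bif Nat.beq s 13 then [(37, 1, 1)] else [])
 else (bif Nat.blt s 15 then (bif Nat.beq s 14 then [(40, 1, 1)] else [])
 else (bif Nat.beq s 15 then [(44, 1, 1)] else [])))))
 else (bif Nat.blt s 47 then (bif Nat.blt s 34 then (bif Nat.blt s 31 then (bif Nat.beq s 27 then [(56, 1, 1)] else [])
 else (bif Nat.beq s 31 then [(57, 1, 1)] else []))
 else (bif Nat.blt s 36 then (bif Nat.beq s 34 then [(58, 1, 1)] else [])
 else (bif Nat.blt s 46 then (bif Nat.beq s 36 then [(60, 1, 1)] else [])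
 else (bif Nat.beq s 46 then [(62, 1, 1)] else []))))
 else (bif Nat.blt s 50 then (bif Nat.blt s 49 then (bif Nat.beq s 47 then [(64, 1, 1)] else [])
 else (bif Nat.beq s 49 then [(66, 1, 1)] else []))
 else (bif Nat.blt s 52 then (bif Nat.beq s 50 then [(67, 1, 1)] else [])
 else (bif Nat.blt s 54 then (bif Nat.beq s 52 then [(69, 1, 1)] else [])
 else (bif Nat.beq s 54 then [(70, 1, 1)] else []))))))

def d60 (s : ℕ) : List (ℕ × ℕ × ℕ) :=
 (bif Nat.blt s 26 then (bif Nat.blt s 8 then (bif Nat.blt s 3 then (bif Nat.blt s 2 then (bif Nat.beq s 1 then [(18, 1, 1)] else [])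
 else (bif Nat.beq s 2 then [(20, 1, 1)] else []))
 else (bif Nat.blt s 5 then (bif Nat.beq s 3 then [(21, 1, 1)] else [])
 else (bif Nat.blt s 6 then (bif Nat.beq s 5 then [(23, 1, 1)] else [])
 else (bif Nat.beq s 6 then [(24, 1, 1)] else []))))
 else (bif Nat.blt s 13 then (bif Nat.blt s 12 then (bif Nat.beq s 8 then [(25, 1, 1)] else [])
 else (bif Nat.beq s 12 then [(36, 1, 1)] else []))
 else (bif Nat.blt s 14 then (bif Nat.beq s 13 then [(38, 1, 1)] else [])
 else (bif Nat.blt s 15 then (bif Nat.beq s 14 then [(41, 1, 1)] else [])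
 else (bif Nat.beq s 15 then [(45, 1, 1)] else [])))))
 else (bif Nat.blt s 47 then (bif Nat.blt s 33 then (bif Nat.blt s 30 then (bif Nat.beq s 26 then [(56, 1, 1)] else [])
 else (bif Nat.beq s 30 then [(57, 1, 1)] else []))
 else (bif Nat.blt s 35 then (bif Nat.beq s 33 then [(58, 1, 1)] else [])
 else (bif Nat.blt s 46 then (bif Nat.beq s 35 then [(59, 1, 1)] else [])
 else (bif Nat.beq s 46 then [(63, 1, 1)] else []))))
 else (bif Nat.blt s 50 then (bif Nat.blt s 48 then (bif Nat.beq s 47 then [(65, 1, 1)] else [])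
 else (bif Nat.beq s 48 then [(66, 1, 1)] else []))
 else (bif Nat.blt s 51 then (bif Nat.beq s 50 then [(68, 1, 1)] else [])
 else (bif Nat.blt s 53 then (bif Nat.beq s 51 then [(69, 1, 1)] else [])
 else (bif Nat.beq s 53 then [(70, 1, 1)] else []))))))

def d61 (s : ℕ) : List (ℕ × ℕ × ℕ) :=
 (bif Nat.blt s 21 then (bif Nat.blt s 8 then (bif Nat.blt s 4 then (bif Nat.blt s 3 then (bif Nat.beq s 0 then [(16, 1, 1)] else [])
 else (bif Nat.beq s 3 then [(26, 1, 1)] else []))
 else (bif Nat.blt s 6 then (bif Nat.beq s 4 then [(27, 1, 1)] else [])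
 else (bif Nat.blt s 7 then (bif Nat.beq s 6 then [(30, 1, 1)] else [])
 else (bif Nat.beq s 7 then [(31, 1, 1)] else []))))
 else (bif Nat.blt s 13 then (bif Nat.blt s 9 then (bif Nat.beq s 8 then [(33, 1, 1)] else [])
 else (bif Nat.beq s 9 then [(34, 1, 1)] else []))
 else (bif Nat.blt s 14 then (bif Nat.beq s 13 then [(46, 1, 1)] else [])
 else (bif Nat.blt s 15 then (bif Nat.beq s 14 then [(47, 1, 1)] else [])
 else (bif Nat.beq s 15 then [(50, 1, 1)] else [])))))
 else (bif Nat.blt s 40 then (bif Nat.blt s 25 then (bif Nat.blt s 24 then (bif Nat.beq s 21 then [(56, 1, 1)] else [])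
 else (bif Nat.beq s 24 then [(57, 1, 1)] else []))
 else (bif Nat.blt s 37 then (bif Nat.beq s 25 then [(58, 1, 1)] else [])
 else (bif Nat.blt s 38 then (bif Nat.beq s 37 then [(62, 1, 1)] else [])
 else (bif Nat.beq s 38 then [(63, 1, 1)] else []))))
 else (bif Nat.blt s 44 then (bif Nat.blt s 41 then (bif Nat.beq s 40 then [(64, 1, 1)] else [])
 else (bif Nat.beq s 41 then [(65, 1, 1)] else []))
 else (bif Nat.blt s 45 then (bif Nat.beq s 44 then [(67, 1, 1)] else [])
 else (bif Nat.blt s 55 then (bif Nat.beq s 45 then [(68, 1, 1)] else [])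
 else (bif Nat.beq s 55 then [(71, 1, 1)] else []))))))

def d62 (s : ℕ) : List (ℕ × ℕ × ℕ) :=
 (bif Nat.blt s 20 then (bif Nat.blt s 8 then (bif Nat.blt s 4 then (bif Nat.blt s 2 then (bif Nat.beq s 0 then [(17, 1, 1)] else [])
 else (bif Nat.beq s 2 then [(26, 1, 1)] else []))
 else (bif Nat.blt s 5 then (bif Nat.beq s 4 then [(28, 1, 1)] else [])
 else (bif Nat.blt s 7 then (bif Nat.beq s 5 then [(30, 1, 1)] else [])
 else (bif Nat.beq s 7 then [(32, 1, 1)] else []))))
 else (bif Nat.blt s 12 then (bif Nat.blt s 10 then (bif Nat.beq s 8 then [(35, 1, 1)] else [])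
 else (bif Nat.beq s 10 then [(37, 1, 1)] else []))
 else (bif Nat.blt s 14 then (bif Nat.beq s 12 then [(46, 1, 1)] else [])
 else (bif Nat.blt s 15 then (bif Nat.beq s 14 then [(48, 1, 1)] else [])
 else (bif Nat.beq s 15 then [(51, 1, 1)] else [])))))
 else (bif Nat.blt s 39 then (bif Nat.blt s 25 then (bif Nat.blt s 23 then (bif Nat.beq s 20 then [(56, 1, 1)] else [])
 else (bif Nat.beq s 23 then [(57, 1, 1)] else []))
 else (bif Nat.blt s 34 then (bif Nat.beq s 25 then [(59, 1, 1)] else [])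
 else (bif Nat.blt s 36 then (bif Nat.beq s 34 then [(61, 1, 1)] else [])
 else (bif Nat.beq s 36 then [(63, 1, 1)] else []))))
 else (bif Nat.blt s 43 then (bif Nat.blt s 41 then (bif Nat.beq s 39 then [(64, 1, 1)] else [])
 else (bif Nat.beq s 41 then [(66, 1, 1)] else []))
 else (bif Nat.blt s 45 then (bif Nat.beq s 43 then [(67, 1, 1)] else [])
 else (bif Nat.blt s 54 then (bif Nat.beq s 45 then [(69, 1, 1)] else [])
 else (bif Nat.beq s 54 then [(71, 1, 1)] else []))))))

def d63 (s : ℕ) : List (ℕ × ℕ × ℕ) :=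
 (bif Nat.blt s 19 then (bif Nat.blt s 9 then (bif Nat.blt s 3 then (bif Nat.blt s 2 then (bif Nat.beq s 0 then [(18, 1, 1)] else [])
 else (bif Nat.beq s 2 then [(27, 1, 1)] else []))
 else (bif Nat.blt s 5 then (bif Nat.beq s 3 then [(28, 1, 1)] else [])
 else (bif Nat.blt s 6 then (bif Nat.beq s 5 then [(31, 1, 1)] else [])
 else (bif Nat.beq s 6 then [(32, 1, 1)] else []))))
 else (bif Nat.blt s 11 then (bif Nat.blt s 10 then (bif Nat.beq s 9 then [(36, 1, 1)] else [])
 else (bif Nat.beq s 10 then [(38, 1, 1)] else []))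
 else (bif Nat.blt s 14 then (bif Nat.beq s 11 then [(46, 1, 1)] else [])
 else (bif Nat.blt s 15 then (bif Nat.beq s 14 then [(49, 1, 1)] else [])
 else (bif Nat.beq s 15 then [(52, 1, 1)] else [])))))
 else (bif Nat.blt s 39 then (bif Nat.blt s 25 then (bif Nat.blt s 22 then (bif Nat.beq s 19 then [(56, 1, 1)] else [])
 else (bif Nat.beq s 22 then [(57, 1, 1)] else []))
 else (bif Nat.blt s 33 then (bif Nat.beq s 25 then [(60, 1, 1)] else [])
 else (bif Nat.blt s 35 then (bif Nat.beq s 33 then [(61, 1, 1)] else [])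
 else (bif Nat.beq s 35 then [(62, 1, 1)] else []))))
 else (bif Nat.blt s 43 then (bif Nat.blt s 40 then (bif Nat.beq s 39 then [(65, 1, 1)] else [])
 else (bif Nat.beq s 40 then [(66, 1, 1)] else []))
 else (bif Nat.blt s 44 then (bif Nat.beq s 43 then [(68, 1, 1)] else [])
 else (bif Nat.blt s 53 then (bif Nat.beq s 44 then [(69, 1, 1)] else [])
 else (bif Nat.beq s 53 then [(71, 1, 1)] else []))))))

def d64 (s : ℕ) : List (ℕ × ℕ × ℕ) :=
 (bif Nat.blt s 18 then (bif Nat.blt s 9 then (bif Nat.blt s 4 then (bif Nat.blt s 1 then (bif Nat.beq s 0 then [(19, 1, 1)] else [])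
 else (bif Nat.beq s 1 then [(26, 1, 1)] else []))
 else (bif Nat.blt s 5 then (bif Nat.beq s 4 then [(29, 1, 1)] else [])
 else (bif Nat.blt s 6 then (bif Nat.beq s 5 then [(33, 1, 1)] else [])
 else (bif Nat.beq s 6 then [(35, 1, 1)] else []))))
 else (bif Nat.blt s 12 then (bif Nat.blt s 10 then (bif Nat.beq s 9 then [(39, 1, 1)] else [])
 else (bif Nat.beq s 10 then [(40, 1, 1)] else []))
 else (bif Nat.blt s 13 then (bif Nat.beq s 12 then [(47, 1, 1)] else [])
 else (bif Nat.blt s 15 then (bif Nat.beq s 13 then [(48, 1, 1)] else [])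
 else (bif Nat.beq s 15 then [(53, 1, 1)] else [])))))
 else (bif Nat.blt s 36 then (bif Nat.blt s 24 then (bif Nat.blt s 23 then (bif Nat.beq s 18 then [(56, 1, 1)] else [])
 else (bif Nat.beq s 23 then [(58, 1, 1)] else []))
 else (bif Nat.blt s 31 then (bif Nat.beq s 24 then [(59, 1, 1)] else [])
 else (bif Nat.blt s 32 then (bif Nat.beq s 31 then [(61, 1, 1)] else [])
 else (bif Nat.beq s 32 then [(62, 1, 1)] else []))))
 else (bif Nat.blt s 42 then (bif Nat.blt s 38 then (bif Nat.beq s 36 then [(65, 1, 1)] else [])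
 else (bif Nat.beq s 38 then [(66, 1, 1)] else []))
 else (bif Nat.blt s 45 then (bif Nat.beq s 42 then [(67, 1, 1)] else [])
 else (bif Nat.blt s 52 then (bif Nat.beq s 45 then [(70, 1, 1)] else [])
 else (bif Nat.beq s 52 then [(71, 1, 1)] else []))))))

def d65 (s : ℕ) : List (ℕ × ℕ × ℕ) :=
 (bif Nat.blt s 17 then (bif Nat.blt s 8 then (bif Nat.blt s 3 then (bif Nat.blt s 1 then (bif Nat.beq s 0 then [(20, 1, 1)] else [])
 else (bif Nat.beq s 1 then [(27, 1, 1)] else []))
 else (bif Nat.blt s 5 then (bif Nat.beq s 3 then [(29, 1, 1)] else [])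
 else (bif Nat.blt s 7 then (bif Nat.beq s 5 then [(34, 1, 1)] else [])
 else (bif Nat.beq s 7 then [(36, 1, 1)] else []))))
 else (bif Nat.blt s 11 then (bif Nat.blt s 10 then (bif Nat.beq s 8 then [(39, 1, 1)] else [])
 else (bif Nat.beq s 10 then [(41, 1, 1)] else []))
 else (bif Nat.blt s 13 then (bif Nat.beq s 11 then [(47, 1, 1)] else [])
 else (bif Nat.blt s 15 then (bif Nat.beq s 13 then [(49, 1, 1)] else [])
 else (bif Nat.beq s 15 then [(54, 1, 1)] else [])))))
 else (bif Nat.blt s 35 then (bif Nat.blt s 24 then (bif Nat.blt s 22 then (bif Nat.beq s 17 then [(56, 1, 1)] else [])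
 else (bif Nat.beq s 22 then [(58, 1, 1)] else []))
 else (bif Nat.blt s 30 then (bif Nat.beq s 24 then [(60, 1, 1)] else [])
 else (bif Nat.blt s 32 then (bif Nat.beq s 30 then [(61, 1, 1)] else [])
 else (bif Nat.beq s 32 then [(63, 1, 1)] else []))))
 else (bif Nat.blt s 42 then (bif Nat.blt s 37 then (bif Nat.beq s 35 then [(64, 1, 1)] else [])
 else (bif Nat.beq s 37 then [(66, 1, 1)] else []))
 else (bif Nat.blt s 44 then (bif Nat.beq s 42 then [(68, 1, 1)] else [])
 else (bif Nat.blt s 51 then (bif Nat.beq s 44 then [(70, 1, 1)] else [])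
 else (bif Nat.beq s 51 then [(71, 1, 1)] else []))))))

def d66 (s : ℕ) : List (ℕ × ℕ × ℕ) :=
 (bif Nat.blt s 16 then (bif Nat.blt s 8 then (bif Nat.blt s 2 then (bif Nat.blt s 1 then (bif Nat.beq s 0 then [(21, 1, 1)] else [])
 else (bif Nat.beq s 1 then [(28, 1, 1)] else []))
 else (bif Nat.blt s 6 then (bif Nat.beq s 2 then [(29, 1, 1)] else [])
 else (bif Nat.blt s 7 then (bif Nat.beq s 6 then [(37, 1, 1)] else [])
 else (bif Nat.beq s 7 then [(38, 1, 1)] else []))))
 else (bif Nat.blt s 11 then (bif Nat.blt s 9 then (bif Nat.beq s 8 then [(40, 1, 1)] else [])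
 else (bif Nat.beq s 9 then [(41, 1, 1)] else []))
 else (bif Nat.blt s 12 then (bif Nat.beq s 11 then [(48, 1, 1)] else [])
 else (bif Nat.blt s 15 then (bif Nat.beq s 12 then [(49, 1, 1)] else [])
 else (bif Nat.beq s 15 then [(55, 1, 1)] else [])))))
 else (bif Nat.blt s 33 then (bif Nat.blt s 23 then (bif Nat.blt s 22 then (bif Nat.beq s 16 then [(56, 1, 1)] else [])
 else (bif Nat.beq s 22 then [(59, 1, 1)] else []))
 else (bif Nat.blt s 30 then (bif Nat.beq s 23 then [(60, 1, 1)] else [])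
 else (bif Nat.blt s 31 then (bif Nat.beq s 30 then [(62, 1, 1)] else [])
 else (bif Nat.beq s 31 then [(63, 1, 1)] else []))))
 else (bif Nat.blt s 42 then (bif Nat.blt s 34 then (bif Nat.beq s 33 then [(64, 1, 1)] else [])
 else (bif Nat.beq s 34 then [(65, 1, 1)] else []))
 else (bif Nat.blt s 43 then (bif Nat.beq s 42 then [(69, 1, 1)] else [])
 else (bif Nat.blt s 50 then (bif Nat.beq s 43 then [(70, 1, 1)] else [])
 else (bif Nat.beq s 50 then [(71, 1, 1)] else []))))))

def d67 (s : ℕ) : List (ℕ × ℕ × ℕ) :=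
 (bif Nat.blt s 18 then (bif Nat.blt s 9 then (bif Nat.blt s 2 then (bif Nat.blt s 1 then (bif Nat.beq s 0 then [(22, 1, 1)] else [])
 else (bif Nat.beq s 1 then [(30, 1, 1)] else []))
 else (bif Nat.blt s 3 then (bif Nat.beq s 2 then [(33, 1, 1)] else [])
 else (bif Nat.blt s 7 then (bif Nat.beq s 3 then [(35, 1, 1)] else [])
 else (bif Nat.beq s 7 then [(42, 1, 1)] else []))))
 else (bif Nat.blt s 12 then (bif Nat.blt s 10 then (bif Nat.beq s 9 then [(43, 1, 1)] else [])
 else (bif Nat.beq s 10 then [(44, 1, 1)] else []))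
 else (bif Nat.blt s 13 then (bif Nat.beq s 12 then [(50, 1, 1)] else [])
 else (bif Nat.blt s 14 then (bif Nat.beq s 13 then [(51, 1, 1)] else [])
 else (bif Nat.beq s 14 then [(53, 1, 1)] else [])))))
 else (bif Nat.blt s 29 then (bif Nat.blt s 21 then (bif Nat.blt s 20 then (bif Nat.beq s 18 then [(57, 1, 1)] else [])
 else (bif Nat.beq s 20 then [(58, 1, 1)] else []))
 else (bif Nat.blt s 27 then (bif Nat.beq s 21 then [(59, 1, 1)] else [])
 else (bif Nat.blt s 28 then (bif Nat.beq s 27 then [(61, 1, 1)] else [])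
 else (bif Nat.beq s 28 then [(62, 1, 1)] else []))))
 else (bif Nat.blt s 38 then (bif Nat.blt s 36 then (bif Nat.beq s 29 then [(64, 1, 1)] else [])
 else (bif Nat.beq s 36 then [(68, 1, 1)] else []))
 else (bif Nat.blt s 41 then (bif Nat.beq s 38 then [(69, 1, 1)] else [])
 else (bif Nat.blt s 49 then (bif Nat.beq s 41 then [(70, 1, 1)] else [])
 else (bif Nat.beq s 49 then [(71, 1, 1)] else []))))))

def d68 (s : ℕ) : List (ℕ × ℕ × ℕ) :=
 (bif Nat.blt s 17 then (bif Nat.blt s 8 then (bif Nat.blt s 2 then (bif Nat.blt s 1 then (bif Nat.beq s 0 then [(23, 1, 1)] else [])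
 else (bif Nat.beq s 1 then [(31, 1, 1)] else []))
 else (bif Nat.blt s 4 then (bif Nat.beq s 2 then [(34, 1, 1)] else [])
 else (bif Nat.blt s 6 then (bif Nat.beq s 4 then [(36, 1, 1)] else [])
 else (bif Nat.beq s 6 then [(42, 1, 1)] else []))))
 else (bif Nat.blt s 11 then (bif Nat.blt s 10 then (bif Nat.beq s 8 then [(43, 1, 1)] else [])
 else (bif Nat.beq s 10 then [(45, 1, 1)] else []))
 else (bif Nat.blt s 13 then (bif Nat.beq s 11 then [(50, 1, 1)] else [])
 else (bif Nat.blt s 14 then (bif Nat.beq s 13 then [(52, 1, 1)] else [])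
 else (bif Nat.beq s 14 then [(54, 1, 1)] else [])))))
 else (bif Nat.blt s 29 then (bif Nat.blt s 21 then (bif Nat.blt s 19 then (bif Nat.beq s 17 then [(57, 1, 1)] else [])
 else (bif Nat.beq s 19 then [(58, 1, 1)] else []))
 else (bif Nat.blt s 26 then (bif Nat.beq s 21 then [(60, 1, 1)] else [])
 else (bif Nat.blt s 28 then (bif Nat.beq s 26 then [(61, 1, 1)] else [])
 else (bif Nat.beq s 28 then [(63, 1, 1)] else []))))
 else (bif Nat.blt s 37 then (bif Nat.blt s 35 then (bif Nat.beq s 29 then [(65, 1, 1)] else [])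
 else (bif Nat.beq s 35 then [(67, 1, 1)] else []))
 else (bif Nat.blt s 40 then (bif Nat.beq s 37 then [(69, 1, 1)] else [])
 else (bif Nat.blt s 48 then (bif Nat.beq s 40 then [(70, 1, 1)] else [])
 else (bif Nat.beq s 48 then [(71, 1, 1)] else []))))))

def d69 (s : ℕ) : List (ℕ × ℕ × ℕ) :=
 (bif Nat.blt s 16 then (bif Nat.blt s 8 then (bif Nat.blt s 3 then (bif Nat.blt s 1 then (bif Nat.beq s 0 then [(24, 1, 1)] else [])
 else (bif Nat.beq s 1 then [(32, 1, 1)] else []))
 else (bif Nat.blt s 4 then (bif Nat.beq s 3 then [(37, 1, 1)] else [])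
 else (bif Nat.blt s 5 then (bif Nat.beq s 4 then [(38, 1, 1)] else [])
 else (bif Nat.beq s 5 then [(42, 1, 1)] else []))))
 else (bif Nat.blt s 11 then (bif Nat.blt s 9 then (bif Nat.beq s 8 then [(44, 1, 1)] else [])
 else (bif Nat.beq s 9 then [(45, 1, 1)] else []))
 else (bif Nat.blt s 12 then (bif Nat.beq s 11 then [(51, 1, 1)] else [])
 else (bif Nat.blt s 14 then (bif Nat.beq s 12 then [(52, 1, 1)] else [])
 else (bif Nat.beq s 14 then [(55, 1, 1)] else [])))))
 else (bif Nat.blt s 29 then (bif Nat.blt s 20 then (bif Nat.blt s 19 then (bif Nat.beq s 16 then [(57, 1, 1)] else [])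
 else (bif Nat.beq s 19 then [(59, 1, 1)] else []))
 else (bif Nat.blt s 26 then (bif Nat.beq s 20 then [(60, 1, 1)] else [])
 else (bif Nat.blt s 27 then (bif Nat.beq s 26 then [(62, 1, 1)] else [])
 else (bif Nat.beq s 27 then [(63, 1, 1)] else []))))
 else (bif Nat.blt s 34 then (bif Nat.blt s 33 then (bif Nat.beq s 29 then [(66, 1, 1)] else [])
 else (bif Nat.beq s 33 then [(67, 1, 1)] else []))
 else (bif Nat.blt s 39 then (bif Nat.beq s 34 then [(68, 1, 1)] else [])
 else (bif Nat.blt s 47 then (bif Nat.beq s 39 then [(70, 1, 1)] else [])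
 else (bif Nat.beq s 47 then [(71, 1, 1)] else []))))))

def d70 (s : ℕ) : List (ℕ × ℕ × ℕ) :=
 (bif Nat.blt s 16 then (bif Nat.blt s 6 then (bif Nat.blt s 3 then (bif Nat.blt s 2 then (bif Nat.beq s 0 then [(25, 1, 1)] else [])
 else (bif Nat.beq s 2 then [(39, 1, 1)] else []))
 else (bif Nat.blt s 4 then (bif Nat.beq s 3 then [(40, 1, 1)] else [])
 else (bif Nat.blt s 5 then (bif Nat.beq s 4 then [(41, 1, 1)] else [])
 else (bif Nat.beq s 5 then [(43, 1, 1)] else []))))
 else (bif Nat.blt s 11 then (bif Nat.blt s 7 then (bif Nat.beq s 6 then [(44, 1, 1)] else [])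
 else (bif Nat.beq s 7 then [(45, 1, 1)] else []))
 else (bif Nat.blt s 12 then (bif Nat.beq s 11 then [(53, 1, 1)] else [])
 else (bif Nat.blt s 13 then (bif Nat.beq s 12 then [(54, 1, 1)] else [])
 else (bif Nat.beq s 13 then [(55, 1, 1)] else [])))))
 else (bif Nat.blt s 28 then (bif Nat.blt s 18 then (bif Nat.blt s 17 then (bif Nat.beq s 16 then [(58, 1, 1)] else [])
 else (bif Nat.beq s 17 then [(59, 1, 1)] else []))
 else (bif Nat.blt s 26 then (bif Nat.beq s 18 then [(60, 1, 1)] else [])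
 else (bif Nat.blt s 27 then (bif Nat.beq s 26 then [(64, 1, 1)] else [])
 else (bif Nat.beq s 27 then [(65, 1, 1)] else []))))
 else (bif Nat.blt s 31 then (bif Nat.blt s 30 then (bif Nat.beq s 28 then [(66, 1, 1)] else [])
 else (bif Nat.beq s 30 then [(67, 1, 1)] else []))
 else (bif Nat.blt s 32 then (bif Nat.beq s 31 then [(68, 1, 1)] else [])
 else (bif Nat.blt s 46 then (bif Nat.beq s 32 then [(69, 1, 1)] else [])
 else (bif Nat.beq s 46 then [(71, 1, 1)] else []))))))

def d71 (s : ℕ) : List (ℕ × ℕ × ℕ) :=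
 (bif Nat.blt s 16 then (bif Nat.blt s 6 then (bif Nat.blt s 3 then (bif Nat.blt s 2 then (bif Nat.beq s 1 then [(46, 1, 1)] else [])
 else (bif Nat.beq s 2 then [(47, 1, 1)] else []))
 else (bif Nat.blt s 4 then (bif Nat.beq s 3 then [(48, 1, 1)] else [])
 else (bif Nat.blt s 5 then (bif Nat.beq s 4 then [(49, 1, 1)] else [])
 else (bif Nat.beq s 5 then [(50, 1, 1)] else []))))
 else (bif Nat.blt s 8 then (bif Nat.blt s 7 then (bif Nat.beq s 6 then [(51, 1, 1)] else [])
 else (bif Nat.beq s 7 then [(52, 1, 1)] else []))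
 else (bif Nat.blt s 9 then (bif Nat.beq s 8 then [(53, 1, 1)] else [])
 else (bif Nat.blt s 10 then (bif Nat.beq s 9 then [(54, 1, 1)] else [])
 else (bif Nat.beq s 10 then [(55, 1, 1)] else [])))))
 else (bif Nat.blt s 21 then (bif Nat.blt s 18 then (bif Nat.blt s 17 then (bif Nat.beq s 16 then [(61, 1, 1)] else [])
 else (bif Nat.beq s 17 then [(62, 1, 1)] else []))
 else (bif Nat.blt s 19 then (bif Nat.beq s 18 then [(63, 1, 1)] else [])
 else (bif Nat.blt s 20 then (bif Nat.beq s 19 then [(64, 1, 1)] else [])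
 else (bif Nat.beq s 20 then [(65, 1, 1)] else []))))
 else (bif Nat.blt s 23 then (bif Nat.blt s 22 then (bif Nat.beq s 21 then [(66, 1, 1)] else [])
 else (bif Nat.beq s 22 then [(67, 1, 1)] else []))
 else (bif Nat.blt s 24 then (bif Nat.beq s 23 then [(68, 1, 1)] else [])
 else (bif Nat.blt s 25 then (bif Nat.beq s 24 then [(69, 1, 1)] else [])
 else (bif Nat.beq s 25 then [(70, 1, 1)] else []))))))

/-- The table. -/
def D (r s : ℕ) : List (ℕ × ℕ × ℕ) :=
 (bif Nat.blt r 36 then (bif Nat.blt r 18 then (bif Nat.blt r 9 then (bif Nat.blt r 4 then (bif Nat.blt r 2 then (bif Nat.blt r 1 then (bif Nat.beq r 0 then d0 s else [])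
 else (bif Nat.beq r 1 then d1 s else []))
 else (bif Nat.blt r 3 then (bif Nat.beq r 2 then d2 s else [])
 else (bif Nat.beq r 3 then d3 s else [])))
 else (bif Nat.blt r 6 then (bif Nat.blt r 5 then (bif Nat.beq r 4 then d4 s else [])
 else (bif Nat.beq r 5 then d5 s else []))
 else (bif Nat.blt r 7 then (bif Nat.beq r 6 then d6 s else [])
 else (bif Nat.blt r 8 then (bif Nat.beq r 7 then d7 s else [])
 else (bif Nat.beq r 8 then d8 s else [])))))
 else (bif Nat.blt r 13 then (bif Nat.blt r 11 then (bif Nat.blt r 10 then (bif Nat.beq r 9 then d9 s else [])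
 else (bif Nat.beq r 10 then d10 s else []))
 else (bif Nat.blt r 12 then (bif Nat.beq r 11 then d11 s else [])
 else (bif Nat.beq r 12 then d12 s else [])))
 else (bif Nat.blt r 15 then (bif Nat.blt r 14 then (bif Nat.beq r 13 then d13 s else [])
 else (bif Nat.beq r 14 then d14 s else []))
 else (bif Nat.blt r 16 then (bif Nat.beq r 15 then d15 s else [])
 else (bif Nat.blt r 17 then (bif Nat.beq r 16 then d16 s else [])
 else (bif Nat.beq r 17 then d17 s else []))))))
 else (bif Nat.blt r 27 then (bif Nat.blt r 22 then (bif Nat.blt r 20 then (bif Nat.blt r 19 then (bif Nat.beq r 18 then d18 s else [])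
 else (bif Nat.beq r 19 then d19 s else []))
 else (bif Nat.blt r 21 then (bif Nat.beq r 20 then d20 s else [])
 else (bif Nat.beq r 21 then d21 s else [])))
 else (bif Nat.blt r 24 then (bif Nat.blt r 23 then (bif Nat.beq r 22 then d22 s else [])
 else (bif Nat.beq r 23 then d23 s else []))
 else (bif Nat.blt r 25 then (bif Nat.beq r 24 then d24 s else [])
 else (bif Nat.blt r 26 then (bif Nat.beq r 25 then d25 s else [])
 else (bif Nat.beq r 26 then d26 s else [])))))
 else (bif Nat.blt r 31 then (bif Nat.blt r 29 then (bif Nat.blt r 28 then (bif Nat.beq r 27 then d27 s else [])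
 else (bif Nat.beq r 28 then d28 s else []))
 else (bif Nat.blt r 30 then (bif Nat.beq r 29 then d29 s else [])
 else (bif Nat.beq r 30 then d30 s else [])))
 else (bif Nat.blt r 33 then (bif Nat.blt r 32 then (bif Nat.beq r 31 then d31 s else [])
 else (bif Nat.beq r 32 then d32 s else []))
 else (bif Nat.blt r 34 then (bif Nat.beq r 33 then d33 s else [])
 else (bif Nat.blt r 35 then (bif Nat.beq r 34 then d34 s else [])
 else (bif Nat.beq r 35 then d35 s else [])))))))
 else (bif Nat.blt r 54 then (bif Nat.blt r 45 then (bif Nat.blt r 40 then (bif Nat.blt r 38 then (bif Nat.blt r 37 then (bif Nat.beq r 36 then d36 s else [])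
 else (bif Nat.beq r 37 then d37 s else []))
 else (bif Nat.blt r 39 then (bif Nat.beq r 38 then d38 s else [])
 else (bif Nat.beq r 39 then d39 s else [])))
 else (bif Nat.blt r 42 then (bif Nat.blt r 41 then (bif Nat.beq r 40 then d40 s else [])
 else (bif Nat.beq r 41 then d41 s else []))
 else (bif Nat.blt r 43 then (bif Nat.beq r 42 then d42 s else [])
 else (bif Nat.blt r 44 then (bif Nat.beq r 43 then d43 s else [])
 else (bif Nat.beq r 44 then d44 s else [])))))
 else (bif Nat.blt r 49 then (bif Nat.blt r 47 then (bif Nat.blt r 46 then (bif Nat.beq r 45 then d45 s else [])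
 else (bif Nat.beq r 46 then d46 s else []))
 else (bif Nat.blt r 48 then (bif Nat.beq r 47 then d47 s else [])
 else (bif Nat.beq r 48 then d48 s else [])))
 else (bif Nat.blt r 51 then (bif Nat.blt r 50 then (bif Nat.beq r 49 then d49 s else [])
 else (bif Nat.beq r 50 then d50 s else []))
 else (bif Nat.blt r 52 then (bif Nat.beq r 51 then d51 s else [])
 else (bif Nat.blt r 53 then (bif Nat.beq r 52 then d52 s else [])
 else (bif Nat.beq r 53 then d53 s else []))))))
 else (bif Nat.blt r 63 then (bif Nat.blt r 58 then (bif Nat.blt r 56 then (bif Nat.blt r 55 then (bif Nat.beq r 54 then d54 s else [])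
 else (bif Nat.beq r 55 then d55 s else []))
 else (bif Nat.blt r 57 then (bif Nat.beq r 56 then d56 s else [])
 else (bif Nat.beq r 57 then d57 s else [])))
 else (bif Nat.blt r 60 then (bif Nat.blt r 59 then (bif Nat.beq r 58 then d58 s else [])
 else (bif Nat.beq r 59 then d59 s else []))
 else (bif Nat.blt r 61 then (bif Nat.beq r 60 then d60 s else [])
 else (bif Nat.blt r 62 then (bif Nat.beq r 61 then d61 s else [])
 else (bif Nat.beq r 62 then d62 s else [])))))
 else (bif Nat.blt r 67 then (bif Nat.blt r 65 then (bif Nat.blt r 64 then (bif Nat.beq r 63 then d63 s else [])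
 else (bif Nat.beq r 64 then d64 s else []))
 else (bif Nat.blt r 66 then (bif Nat.beq r 65 then d65 s else [])
 else (bif Nat.beq r 66 then d66 s else [])))
 else (bif Nat.blt r 69 then (bif Nat.blt r 68 then (bif Nat.beq r 67 then d67 s else [])
 else (bif Nat.beq r 68 then d68 s else []))
 else (bif Nat.blt r 70 then (bif Nat.beq r 69 then d69 s else [])
 else (bif Nat.blt r 71 then (bif Nat.beq r 70 then d70 s else [])
 else (bif Nat.beq r 71 then d71 s else []))))))))

/-- The permutation of the roots. -/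
def rho (r : ℕ) : ℕ :=
 (bif Nat.blt r 36 then (bif Nat.blt r 19 then (bif Nat.blt r 12 then (bif Nat.blt r 7 then (bif Nat.blt r 4 then (bif Nat.beq r 3 then 5 else r)
 else (bif Nat.blt r 5 then (bif Nat.beq r 4 then 16 else r)
 else (bif Nat.beq r 5 then 3 else r)))
 else (bif Nat.blt r 9 then (bif Nat.beq r 7 then 17 else r)
 else (bif Nat.blt r 10 then (bif Nat.beq r 9 then 19 else r)
 else (bif Nat.beq r 10 then 22 else r))))
 else (bif Nat.blt r 15 then (bif Nat.blt r 13 then (bif Nat.beq r 12 then 26 else r)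
 else (bif Nat.blt r 14 then (bif Nat.beq r 13 then 30 else r)
 else (bif Nat.beq r 14 then 33 else r)))
 else (bif Nat.blt r 16 then (bif Nat.beq r 15 then 35 else r)
 else (bif Nat.blt r 17 then (bif Nat.beq r 16 then 4 else r)
 else (bif Nat.beq r 17 then 7 else r)))))
 else (bif Nat.blt r 29 then (bif Nat.blt r 23 then (bif Nat.blt r 21 then (bif Nat.beq r 19 then 9 else r)
 else (bif Nat.blt r 22 then (bif Nat.beq r 21 then 23 else r)
 else (bif Nat.beq r 22 then 10 else r)))
 else (bif Nat.blt r 26 then (bif Nat.beq r 23 then 21 else r)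
 else (bif Nat.blt r 28 then (bif Nat.beq r 26 then 12 else r)
 else (bif Nat.beq r 28 then 31 else r))))
 else (bif Nat.blt r 33 then (bif Nat.blt r 30 then (bif Nat.beq r 29 then 34 else r)
 else (bif Nat.blt r 31 then (bif Nat.beq r 30 then 13 else r)
 else (bif Nat.beq r 31 then 28 else r)))
 else (bif Nat.blt r 34 then (bif Nat.beq r 33 then 14 else r)
 else (bif Nat.blt r 35 then (bif Nat.beq r 34 then 29 else r)
 else (bif Nat.beq r 35 then 15 else r))))))
 else (bif Nat.blt r 54 then (bif Nat.blt r 43 then (bif Nat.blt r 40 then (bif Nat.blt r 37 then (bif Nat.beq r 36 then 56 else r)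
 else (bif Nat.blt r 38 then (bif Nat.beq r 37 then 42 else r)
 else (bif Nat.beq r 38 then 57 else r)))
 else (bif Nat.blt r 41 then (bif Nat.beq r 40 then 43 else r)
 else (bif Nat.blt r 42 then (bif Nat.beq r 41 then 58 else r)
 else (bif Nat.beq r 42 then 37 else r))))
 else (bif Nat.blt r 49 then (bif Nat.blt r 45 then (bif Nat.beq r 43 then 40 else r)
 else (bif Nat.blt r 48 then (bif Nat.beq r 45 then 59 else r)
 else (bif Nat.beq r 48 then 50 else r)))
 else (bif Nat.blt r 50 then (bif Nat.beq r 49 then 61 else r)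
 else (bif Nat.blt r 52 then (bif Nat.beq r 50 then 48 else r)
 else (bif Nat.beq r 52 then 62 else r)))))
 else (bif Nat.blt r 61 then (bif Nat.blt r 57 then (bif Nat.blt r 55 then (bif Nat.beq r 54 then 64 else r)
 else (bif Nat.blt r 56 then (bif Nat.beq r 55 then 67 else r)
 else (bif Nat.beq r 56 then 36 else r)))
 else (bif Nat.blt r 58 then (bif Nat.beq r 57 then 38 else r)
 else (bif Nat.blt r 59 then (bif Nat.beq r 58 then 41 else r)
 else (bif Nat.beq r 59 then 45 else r))))
 else (bif Nat.blt r 66 then (bif Nat.blt r 62 then (bif Nat.beq r 61 then 49 else r)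
 else (bif Nat.blt r 64 then (bif Nat.beq r 62 then 52 else r)
 else (bif Nat.beq r 64 then 54 else r)))
 else (bif Nat.blt r 67 then (bif Nat.beq r 66 then 68 else r)
 else (bif Nat.blt r 68 then (bif Nat.beq r 67 then 55 else r)
 else (bif Nat.beq r 68 then 66 else r)))))))

/-- The permutation of the fundamental roots. -/
def perm (i : ℕ) : ℕ := [5, 1, 4, 3, 2, 0].getD i 0

def chkD : Bool := Chevalley.allLt (fun r => Chevalley.allLt (fun s =>
  Nat.beq s r || Nat.beq s (Chevalley.Data.E6.tbl.neg r) ||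
    decide (((Chevalley.Data.E6.tbl.commT r s).filter fun c => decide (c.2.1 % 2 ≠ 0)).map
      (fun c => (c.1, c.2.2.1, c.2.2.2)) = D r s)) Chevalley.Data.E6.tbl.n) Chevalley.Data.E6.tbl.n

theorem chkD_true : chkD = true := by decide +kernel

theorem odd2 : Odd2 Chevalley.Data.E6.tbl D := by
  intro r hr s hs hne hneg
  have h := Chevalley.allLt_iff.mp (Chevalley.allLt_iff.mp chkD_true r hr) s hs
  simp only [Bool.or_eq_true, decide_eq_true_eq] at h
  rcases h with (h | h) | h
  · exact absurd (Nat.eq_of_beq_eq_true h) hne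
  · exact absurd (Nat.eq_of_beq_eq_true h) hneg
  · exact h

end CfsgLib.InvClasses.Twisted.E6
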