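import Cfsg.Agent.Lib.InvClasses.Twisted.Cert
import Cfsg.Agent.Lib.InvClasses.Twisted.E6.Terms
import Cfsg.Agent.Lib.Chevalley.Twist.InstE6

/-!
The twist of type ²E₆ in characteristic two, as data for the reduction.
-/

set_option autoImplicit false
set_option maxRecDepth 20000
set_option Elab.async false

namespace CfsgLib.InvClasses.Twisted.E6

open CfsgLib.Chevalley CfsgLib.Chevalley.Tbl CfsgLib.Chevalley.Twist

local notation "T6" => CfsgLib.Chevalley.Data.E6.tbl

theorem graph_facts : ∀ r < Tbl.n T6,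
    (Data.E6.graph.ε r = 1 ∨ Data.E6.graph.ε r = -1) ∧ Data.E6.graph.lam r = 1 ∧
      Data.E6.graph.ρ r = rho r ∧ rho r < Tbl.n T6 := by decide +kernel

variable {K : Type*} [Field K] [CharP K 2] [Finite K] {q : ℕ} (hq : IsPrimePow q)
  (hK : Nat.card K = q ^ 2)

omit [CharP K 2] in
theorem exists_moved : ∃ t : K, Twist.E6.fq hq hK t ≠ t := by
  by_contra h
  push Not at h
  have h2 := two_le_of_isPrimePow hq
  have hc := card_pow_eq_self (K := K) h2
    (by rw [hK]; exact (Nat.sub_dvd_pow_sub_pow q 1 2).trans (by rw [one_pow]))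
  rw [Nat.card_congr (Equiv.subtypeUnivEquiv fun t => (Twist.E6.fq_apply hq hK t).symm.trans (h t)), hK] at hc
  nlinarith

/-- The data of the twist. -/
noncomputable def tw : Tw T6 D rho perm K where
  valid := Data.E6.valid
  comm := Data.E6.chkComm
  odd := odd2
  S := (Twist.E6.setup hq hK).S
  σ := Twist.E6.fq hq hK
  σσ t := by
    rw [Twist.E6.fq_apply, Twist.E6.fq_apply, ← pow_mul, ← pow_two]
    exact Twist.E6.pow_sq hK t
  rho_lt r hr := (graph_facts r hr).2.2.2
  sgx r hr t := by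
    obtain ⟨he, hl, hr', -⟩ := graph_facts r hr
    refine ((Twist.E6.setup hq hK).D.sg_x hr t).trans ?_
    show Tbl.xU T6 K (Data.E6.graph.ρ r) (Data.E6.graph.par r (Twist.E6.fq hq hK t)) = _
    rw [hr', RootMap.par, hl, pow_one]
    rcases he with he | he <;> simp [he, CharTwo.neg_eq]
  tor f hf := by
    refine ((Twist.E6.setup hq hK).D.map_tauFix_le
      ⟨f, (Twist.E6.mem_tauFix hq hK).mpr ⟨?_, ?_, ?_, ?_⟩, rfl⟩).2
    · exact Units.ext (by rw [Units.val_pow_eq_pow_val, ← Twist.E6.fq_apply hq hK]; exact hf (1 : Fin 6) (1 : Fin 6) rfl)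
    · exact Units.ext (by rw [Units.val_pow_eq_pow_val, ← Twist.E6.fq_apply hq hK]; exact hf (3 : Fin 6) (3 : Fin 6) rfl)
    · exact Units.ext (by rw [Units.val_pow_eq_pow_val, ← Twist.E6.fq_apply hq hK]; exact (hf (0 : Fin 6) (5 : Fin 6) rfl).symm)
    · exact Units.ext (by rw [Units.val_pow_eq_pow_val, ← Twist.E6.fq_apply hq hK]; exact (hf (2 : Fin 6) (4 : Fin 6) rfl).symm)
  omega := by
    obtain ⟨t, ht⟩ := exists_moved hq hK
    refine ⟨t / (t + Twist.E6.fq hq hK t), ?_⟩
    have h0 : t + Twist.E6.fq hq hK t ≠ 0 := fun e => ht (CharTwo.add_eq_zero.mp e).symm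
    rw [map_div₀, map_add, show Twist.E6.fq hq hK (Twist.E6.fq hq hK t) = t by
      rw [Twist.E6.fq_apply, Twist.E6.fq_apply, ← pow_mul, ← pow_two]; exact Twist.E6.pow_sq hK t,
      add_comm (Twist.E6.fq hq hK t) t, ← add_div, div_self h0]

end CfsgLib.InvClasses.Twisted.E6
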