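import Cfsg.Agent.Lib.InvClasses.Twisted.E6.Inst
import Cfsg.Agent.Lib.InvClasses.Twisted.E6.Check
import Cfsg.Agent.Lib.KnownB.SLInv.RankE6
import Cfsg.Agent.Lib.KnownB.SLInv.CertE6

/-!
Exactly three classes of involutions in ²E₆(q), q even.
-/

set_option autoImplicit false
set_option maxRecDepth 20000
set_option Elab.async false

namespace CfsgLib.InvClasses.Twisted.E6

open CfsgLib.Chevalley CfsgLib.Chevalley.Tbl

local notation "T6" => CfsgLib.Chevalley.Data.E6.tbl

variable {K : Type*} [Field K] [CharP K 2] [Finite K] {q : ℕ} (hq : IsPrimePow q)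
  (hK : Nat.card K = q ^ 2)

local notation "SS" => AbSetup.S (Twist.E6.setup hq hK)

theorem good_pos {u : GL (Tbl.I T6) K} (hu : u ∈ (Tbl.datum T6).posUnipotent K) (hf : u ∈ (SS).fix)
    (h : u * u = 1) : Good (tw hq hK) reps u := by
  have hp := pt_all (tw hq hK) (reps := reps) (get := node) (N := 350) chk_all 349 (by norm_num)
  rw [node_root.1, node_root.2] at hp
  have hn : Tbl.n T6 = 72 := by decide +kernel
  have hh : Tbl.half T6 = 36 := by decide +kernel
  have hu' : u ∈ U T6 K (List.range' 36 36) := by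
    rw [posUnipotent_rootGen Data.E6.valid] at hu
    exact mono_mem (fun r hr hr' => List.mem_range'_1.mpr ⟨hh ▸ hr', by omega⟩) hu
  have := hp u hu' (by rw [eL_nil, one_mul]; exact hf) (by rw [eL_nil, one_mul]; exact h)
  rwa [eL_nil, one_mul] at this

include hq hK in
theorem exists_two_pow : ∃ f : ℕ, 1 ≤ f ∧ q = 2 ^ f := by
  have := Fintype.ofFinite K
  obtain ⟨n, -, hn⟩ := FiniteField.card K 2
  rw [← Nat.card_eq_fintype_card, hK] at hn
  have hdvd : q ∣ 2 ^ (n : ℕ) := hn ▸ dvd_pow_self q (by norm_num)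
  obtain ⟨f, -, rfl⟩ := (Nat.dvd_prime_pow Nat.prime_two).mp hdvd
  refine ⟨f, ?_, rfl⟩
  rcases Nat.eq_zero_or_pos f with rfl | hf
  · exact absurd hq (by simpa using not_isPrimePow_one)
  · exact hf

theorem classify (s : ↥(SS).fix) (hs : orderOf s = 2) :
    ∃ R ∈ reps, ∃ h ∈ (SS).fix, h * (s : GL (Tbl.I T6) K) = eL T6 K R * h := by
  have hp2 : Fact (Nat.Prime 2) := ⟨Nat.prime_two⟩
  have hV := Data.E6.valid
  have hcard := Twist.E6.card_eq hq hK
  rw [Twist.E6.G_eq hq hK] at hcard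
  let P : Subgroup ↥(SS).fix := ((Tbl.datum T6).posUnipotent K).subgroupOf (SS).fix
  have hPcard : Nat.card ↥P = q ^ 36 := by
    rw [show P = ((Tbl.datum T6).posUnipotent K ⊓ (SS).fix).subgroupOf (SS).fix from
      (Subgroup.inf_subgroupOf_right _ _).symm,
      Nat.card_congr (Subgroup.subgroupOfEquivOfLe inf_le_right).toEquiv,
      ((Twist.E6.setup hq hK).card_Upos (Twist.E6.hcard hq hK)).1]
    rfl
  obtain ⟨f, hf, hf2⟩ := exists_two_pow hq hK
  have hP : IsPGroup 2 ↥P := IsPGroup.of_card (n := f * 36) (by rw [hPcard, hf2, ← pow_mul])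
  have hindex : ¬ 2 ∣ P.index := by
    intro hd
    have h1 := P.card_mul_index
    rw [hPcard] at h1
    rw [← h1, Nat.mul_left_comm] at hcard
    simp only [mul_assoc] at hcard
    have h2 := Nat.eq_of_mul_eq_mul_left (pow_pos (Twist.E6.one_le hq) 36) hcard
    have hdvd : 2 ∣ Nat.gcd 3 (q + 1) * P.index := hd.mul_left _
    rw [h2] at hdvd
    have heven : Even q := by rw [hf2]; exact (Nat.even_pow' (by omega)).mpr even_two
    have ho : ∀ e : ℕ, e ≠ 0 → Odd (q ^ e - 1) ∧ Odd (q ^ e + 1) := fun e he =>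
      ⟨Nat.Even.sub_odd (Nat.one_le_pow _ _ (Twist.E6.one_le hq)) (heven.pow_of_ne_zero he) odd_one,
        (heven.pow_of_ne_zero he).add_one⟩
    have : Odd ((q ^ 2 - 1) * ((q ^ 5 + 1) * ((q ^ 6 - 1) * ((q ^ 8 - 1) * ((q ^ 9 + 1) * (q ^ 12 - 1)))))) :=
      ((ho 2 (by norm_num)).1).mul (((ho 5 (by norm_num)).2).mul (((ho 6 (by norm_num)).1).mul
        (((ho 8 (by norm_num)).1).mul (((ho 9 (by norm_num)).2).mul (ho 12 (by norm_num)).1))))
    exact (Nat.not_even_iff_odd.mpr this) (even_iff_two_dvd.mpr hdvd)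
  have hz : IsPGroup 2 ↥(Subgroup.zpowers s) :=
    IsPGroup.of_card (n := 1) (by rw [Nat.card_zpowers, hs, pow_one])
  obtain ⟨Q, hQ⟩ := hz.exists_le_sylow
  obtain ⟨g, hg⟩ := MulAction.exists_smul_eq ↥(SS).fix Q (hP.toSylow hindex)
  have hmem : g * s * g⁻¹ ∈ P := by
    have := Subgroup.smul_mem_pointwise_smul s (MulAut.conj g) (Q : Subgroup ↥(SS).fix)
      (hQ (Subgroup.mem_zpowers s))
    rw [← Sylow.coe_subgroup_smul, hg] at this
    exact this
  have hss : s * s = 1 := by rw [← pow_two, ← hs, pow_orderOf_eq_one]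
  have hne : s ≠ 1 := fun e => by rw [e, orderOf_one] at hs; exact absurd hs (by norm_num)
  have hgood := good_pos hq hK (Subgroup.mem_subgroupOf.mp hmem) (g * s * g⁻¹).2
    (by rw [← Subgroup.coe_mul, conj_mul, hss, mul_one, mul_inv_cancel, Subgroup.coe_one])
  rcases hgood with e | ⟨R, hR, h, hh, e⟩
  · exact absurd (conj_eq_one_iff.mp (Subtype.ext e)) hne
  · refine ⟨R, hR, h * g, mul_mem hh g.2, ?_⟩
    simp only [Subgroup.coe_mul, Subgroup.coe_inv] at e
    calc h * (g : GL (Tbl.I T6) K) * s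
        = h * ((g : GL (Tbl.I T6) K) * s * (g : GL (Tbl.I T6) K)⁻¹) * g := by group
      _ = _ := by rw [e, mul_assoc]

/-- The representatives arranged by orbits. -/
def reps' : List (List ℕ) := [[71], [66, 68], [55, 67, 65]]

theorem eL_mem_fix {R : List ℕ} (hR : R ∈ reps) :
    eL T6 K R ∈ (SS).fix ∧ eL T6 K R * eL T6 K R = 1 := by
  have key : ∀ R ∈ reps, ∃ R' ∈ reps', fixL T6 D rho R' = true ∧ allComm T6 D R' = true ∧
      norm R' = R ∧ R'.length ≤ 3 := by decide +kernel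
  obtain ⟨R', -, hf, hc, rfl, -⟩ := key R hR
  obtain ⟨hs, he⟩ := eL_norm (F := K) Data.E6.valid Data.E6.chkComm odd2 hc R' fun u hu => hu
  rw [he]
  refine ⟨(fixL_mem (tw hq hK) R' hf).1, ?_⟩
  obtain ⟨hlt, hcm⟩ := allComm_facts (F := K) Data.E6.valid Data.E6.chkComm odd2 hc
  clear he hs hf hR key
  induction R' with
  | nil => simp [eL_nil]
  | cons m M ih =>
    have hm : Commute (Tbl.xU T6 K m 1) (eL T6 K M) := commute_prod fun y hy => by
      obtain ⟨v, hv, rfl⟩ := List.mem_map.mp hy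
      exact hcm m List.mem_cons_self v (List.mem_cons_of_mem _ hv)
    have hc' : allComm T6 D M = true := by
      simp only [allComm, List.all_eq_true, Bool.and_eq_true] at hc ⊢
      exact fun a ha => ⟨(hc a (List.mem_cons_of_mem _ ha)).1,
        fun b hb => (hc a (List.mem_cons_of_mem _ ha)).2 b (List.mem_cons_of_mem _ hb)⟩
    rw [eL_cons, hm.symm.mul_mul_mul_comm, xU_sq Data.E6.valid (hlt m List.mem_cons_self), one_mul,
      ih hc' (fun a ha => hlt a (List.mem_cons_of_mem _ ha))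
        (fun a ha b hb => hcm a (List.mem_cons_of_mem _ ha) b (List.mem_cons_of_mem _ hb))]

/-- The rank attached to a representative. -/
def rk : List ℕ → ℕ := fun L => bif L == [71] then 22 else bif L == [66, 68] then 32 else 38

theorem rk_eq {R : List ℕ} (hR : R ∈ reps) :
    (((eL T6 K R : GL (Tbl.I T6) K) : Matrix (Tbl.I T6) (Tbl.I T6) K) - 1).rank = rk R := by
  simp only [reps, List.mem_cons, List.not_mem_nil, or_false] at hR
  rcases hR with rfl | rfl | rfl
  · exact CfsgLib.SLInv.E6.rank0 CfsgLib.SLInv.E6.sl K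
  · have e : eL T6 K [66, 68] = eL T6 K [68, 66] := by
      obtain ⟨-, hc⟩ := allComm_facts (F := K) Data.E6.valid Data.E6.chkComm odd2
        (L := [66, 68]) (by decide +kernel)
      simp only [eL, List.map_cons, List.map_nil, List.prod_cons, List.prod_nil, mul_one]
      exact (hc 66 (by simp) 68 (by simp)).eq
    rw [e]
    exact CfsgLib.SLInv.E6.rank1 CfsgLib.SLInv.E6.sl K
  · exact CfsgLib.SLInv.E6.rank2 CfsgLib.SLInv.E6.sl K

omit [CharP K 2] [Finite K] in
theorem rank_conj {x y h : GL (Tbl.I T6) K} (e : h * x = y * h) :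
    ((x : Matrix (Tbl.I T6) (Tbl.I T6) K) - 1).rank = ((y : Matrix (Tbl.I T6) (Tbl.I T6) K) - 1).rank := by
  have e' : x = h⁻¹ * y * h := by rw [mul_assoc, ← e, inv_mul_cancel_left]
  subst e'
  have hd : ∀ g : GL (Tbl.I T6) K, IsUnit ((g : Matrix (Tbl.I T6) (Tbl.I T6) K)).det := fun g =>
    (Matrix.isUnit_iff_isUnit_det _).mp g.isUnit
  rw [show ((h⁻¹ * y * h : GL (Tbl.I T6) K) : Matrix (Tbl.I T6) (Tbl.I T6) K) - 1 =
      ((h⁻¹ : GL (Tbl.I T6) K) : Matrix (Tbl.I T6) (Tbl.I T6) K) *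
        ((y : Matrix (Tbl.I T6) (Tbl.I T6) K) - 1) * (h : Matrix (Tbl.I T6) (Tbl.I T6) K) by
      rw [mul_sub, sub_mul, Units.val_mul, Units.val_mul, mul_one, ← Units.val_mul h⁻¹ h,
        inv_mul_cancel, Units.val_one],
    Matrix.rank_mul_eq_left_of_isUnit_det _ _ (hd h), Matrix.rank_mul_eq_right_of_isUnit_det _ _ (hd h⁻¹)]

theorem class_count : (ConjClasses.mk '' {g : ↥(SS).fix | orderOf g = 2}).ncard = 3 := by
  let el : ∀ R ∈ reps, ↥(SS).fix := fun R hR => ⟨eL T6 K R, (eL_mem_fix hq hK hR).1⟩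
  have r1 : [71] ∈ reps := by simp [reps]
  have r2 : [66, 68] ∈ reps := by simp [reps]
  have r3 : [55, 65, 67] ∈ reps := by simp [reps]
  have hord : ∀ R (hR : R ∈ reps), orderOf (el R hR) = 2 := by
    intro R hR
    refine orderOf_eq_prime (Subtype.ext ?_) fun e => ?_
    · rw [pow_two, Subgroup.coe_mul]; exact (eL_mem_fix hq hK hR).2
    · have h1 : eL T6 K R = 1 := congrArg Subtype.val e
      have h2 := rk_eq (K := K) hR
      rw [h1, Units.val_one, sub_self, Matrix.rank_zero] at h2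
      have : ∀ R ∈ reps, 0 < rk R := by decide +kernel
      exact absurd h2 (this R hR).ne
  have hinj : ∀ R (hR : R ∈ reps) R' (hR' : R' ∈ reps),
      ConjClasses.mk (el R hR) = ConjClasses.mk (el R' hR') → rk R = rk R' := by
    intro R hR R' hR' e
    obtain ⟨c, hc⟩ := isConj_iff.mp (ConjClasses.mk_eq_mk_iff_isConj.mp e)
    rw [← rk_eq (K := K) hR, ← rk_eq (K := K) hR']
    exact rank_conj (h := (c : GL (Tbl.I T6) K))
      (congrArg Subtype.val (mul_inv_eq_iff_eq_mul.mp hc))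
  have heq : ConjClasses.mk '' {g : ↥(SS).fix | orderOf g = 2} =
      {ConjClasses.mk (el _ r1), ConjClasses.mk (el _ r2), ConjClasses.mk (el _ r3)} := by
    ext x
    constructor
    · rintro ⟨s, hs, rfl⟩
      obtain ⟨R, hR, h, hh, e⟩ := classify hq hK s hs
      have hcl : ConjClasses.mk s = ConjClasses.mk (el R hR) := by
        refine ConjClasses.mk_eq_mk_iff_isConj.mpr (isConj_iff.mpr ⟨⟨h, hh⟩, ?_⟩)
        rw [mul_inv_eq_iff_eq_mul]
        exact Subtype.ext e
      rw [hcl]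
      have : R = [71] ∨ R = [66, 68] ∨ R = [55, 65, 67] := by simpa [reps] using hR
      rcases this with rfl | rfl | rfl
      · exact Or.inl rfl
      · exact Or.inr (Or.inl rfl)
      · exact Or.inr (Or.inr rfl)
    · rintro (rfl | rfl | rfl)
      · exact ⟨el _ r1, hord _ r1, rfl⟩
      · exact ⟨el _ r2, hord _ r2, rfl⟩
      · exact ⟨el _ r3, hord _ r3, rfl⟩
  rw [heq, Set.ncard_eq_three]
  exact ⟨_, _, _, fun e => absurd (hinj _ r1 _ r2 e) (by decide +kernel),
    fun e => absurd (hinj _ r1 _ r3 e) (by decide +kernel),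
    fun e => absurd (hinj _ r2 _ r3 e) (by decide +kernel), rfl⟩

end CfsgLib.InvClasses.Twisted.E6
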